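import Mathlib
import Cfsg.Agent.H672.RM.Triple2
import Cfsg.Agent.H994.NX.Wie
import Cfsg.Agent.H586.GW.Colour
import Cfsg.Agent.H511.Wt.Irr
import Cfsg.Agent.FastGrp
import Cfsg.Agent.Prune
set_option linter.all false

section
prune_inst 0x7f00000000000000000000000000000000000000000000000000000000000000000000000000000000000000000000000000000000000000000000000000000000000000000000000000000000000000003fdfffffffffffffffffffffffffbeffbdebfeffff

-- part: H586/GW/CoreDef
section
set_option linter.all false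
open scoped Cfsg.Agent.FastGrp

-- part: H586/GW/Good
section
/-!
# Gluck-Wolf: good conjugacy classes

If an automorphism of `X` which centralizes the central subgroup `N` fixes all irreducible characters
over `φ`, then it fixes the conjugacy classes of all `φ`-good elements.
-/

set_option autoImplicit false
set_option linter.style.haveILetI false
set_option linter.unusedSectionVars false
open Cfsg

namespace Cfsg.Agent.H586.GW

open Cfsg.Agent.Characters.Core Cfsg.Agent.Characters.Clifford Cfsg.Agent.H672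
open scoped ComplexConjugate commutatorElement

variable {X : Type*} [Group X] [Fintype X] (N : Subgroup X) (φ : N →* ℂˣ) (k : X)

open Classical in
/-- the class function attached to `k` -/
noncomputable def gf (g : X) : ℂ :=
  ∑ x : X, if h : x⁻¹ * g * x * k⁻¹ ∈ N then ((φ ⟨_, h⟩ : ℂˣ) : ℂ) else 0

theorem gf_conj (g t : X) : gf N φ k (t * g * t⁻¹) = gf N φ k g := by
  classical
  unfold gf
  refine Fintype.sum_equiv (Equiv.mulLeft t⁻¹) _ _ fun x => ?_
  have e : x⁻¹ * (t * g * t⁻¹) * x * k⁻¹ = (t⁻¹ * x)⁻¹ * g * (t⁻¹ * x) * k⁻¹ := by group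
  simp only [Equiv.coe_mulLeft, e]
  rfl

theorem gf_mul (hN : N ≤ Subgroup.center X) (n : N) (g : X) :
    gf N φ k (n * g) = φ n * gf N φ k g := by
  classical
  unfold gf
  rw [Finset.mul_sum]
  refine Finset.sum_congr rfl fun x _ => ?_
  have hc : ∀ y : X, y * (n : X) = (n : X) * y := Subgroup.mem_center_iff.1 (hN n.2)
  have e : x⁻¹ * ((n : X) * g) * x * k⁻¹ = (n : X) * (x⁻¹ * g * x * k⁻¹) := by
    rw [← mul_assoc x⁻¹, hc x⁻¹]
    group
  by_cases h : x⁻¹ * g * x * k⁻¹ ∈ N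
  · have h' : x⁻¹ * ((n : X) * g) * x * k⁻¹ ∈ N := by rw [e]; exact N.mul_mem n.2 h
    rw [dif_pos h, dif_pos h']
    have e2 : (⟨_, h'⟩ : N) = n * ⟨_, h⟩ := Subtype.ext e
    rw [e2, map_mul, Units.val_mul]
  · have h' : ¬ x⁻¹ * ((n : X) * g) * x * k⁻¹ ∈ N := by
      rw [e]
      intro h1
      exact h ((N.mul_mem_cancel_left n.2).1 h1)
    rw [dif_neg h, dif_neg h', mul_zero]

theorem gf_self_ne_zero (hk : ∀ y, ⁅k, y⁆ ∈ N → ⁅k, y⁆ = 1) : gf N φ k k ≠ 0 := by
  classical
  have h1 : gf N φ k k = ((Finset.univ.filter fun x : X => x⁻¹ * k * x * k⁻¹ ∈ N).card : ℂ) := by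
    unfold gf
    rw [Finset.card_filter]
    push_cast
    refine Finset.sum_congr rfl fun x _ => ?_
    by_cases h : x⁻¹ * k * x * k⁻¹ ∈ N
    · rw [dif_pos h, if_pos h]
      have h2 : ⁅k, x⁻¹⁆ = (x⁻¹ * k * x * k⁻¹)⁻¹ := by
        rw [commutatorElement_def]; group
      have h3 : ⁅k, x⁻¹⁆ = 1 := hk _ (by rw [h2]; exact N.inv_mem h)
      rw [h2, inv_eq_one] at h3
      have h4 : (⟨_, h⟩ : N) = 1 := Subtype.ext h3
      rw [h4, map_one]
      rfl
    · rw [dif_neg h, if_neg h]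
  rw [h1]
  simp only [ne_eq, Nat.cast_eq_zero]
  apply Finset.card_ne_zero_of_mem (a := 1)
  simp

/-- The key fact on good classes. -/
theorem good_conj (hN : N ≤ Subgroup.center X) (hφ : Function.Injective φ)
    (α : X ≃* X) (hα : ∀ n : N, α n = n)
    (hinv : ∀ ψ : X → ℂ, IsIrrCharacter X ψ → (∀ n : N, ψ n = ψ 1 * φ n) → ∀ x, ψ (α x) = ψ x)
    (hk : ∀ y, ⁅k, y⁆ ∈ N → ⁅k, y⁆ = 1) : ∃ y, α k = y * k * y⁻¹ := by
  classical
  set f := gf N φ k with hf
  have hcl : IsClassFunction X f := fun g t => gf_conj N φ k g t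
  have hmul : ∀ (n : N) (g : X), f (n * g) = φ n * f g := gf_mul N φ k hN
  -- orthogonality to the characters which are not over `φ`
  have horth : ∀ ψ : X → ℂ, IsIrrCharacter X ψ → (¬ ∀ n : N, ψ n = ψ 1 * φ n) →
      classInner f ψ = 0 := by
    intro ψ hψ hnot
    push Not at hnot
    obtain ⟨n, hn⟩ := hnot
    obtain ⟨w, -, hw⟩ := Cfsg.Agent.CharDeep.DegreeBound.exists_omega hψ (hN n.2)
    have h0 : ψ n = w * ψ 1 := by
      have := hw 1
      simpa using this
    have hwn : w ≠ φ n := by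
      intro h
      apply hn
      rw [h0, h, mul_comm]
    have h1 : ∑ g : X, f g * conj (ψ g) = (φ n : ℂ) * conj w * ∑ g : X, f g * conj (ψ g) := by
      conv_lhs => rw [← Fintype.sum_equiv (Equiv.mulLeft (n : X))
        (fun g => f (n * g) * conj (ψ (n * g))) (fun g => f g * conj (ψ g)) (fun g => rfl)]
      rw [Finset.mul_sum]
      refine Finset.sum_congr rfl fun g _ => ?_
      have h2 : ψ ((n : X) * g) = w * ψ g := by
        first
        | exact hw g
        | (have := hw g; rw [Subgroup.mem_center_iff.1 (hN n.2) g] at this; exact this)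
      rw [hmul, h2, map_mul]
      ring
    have hww : w * conj w = 1 := by
      have h3 : ψ 1 ≠ 0 := isIrr_apply_one_ne_zero hψ
      -- `w` is a root of unity
      have h4 : ∀ j : ℕ, ψ ((n : X) ^ j) = w ^ j * ψ 1 := by
        intro j
        induction j with
        | zero => simp
        | succ j ih =>
          have h5 : ψ ((n : X) * (n : X) ^ j) = w * ψ ((n : X) ^ j) := by
            first
            | exact hw _
            | (have := hw ((n : X) ^ j)
               rw [Subgroup.mem_center_iff.1 (hN n.2)] at this; exact this)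
          rw [pow_succ', h5, ih]
          ring
      have h5 := h4 (orderOf (n : X))
      rw [pow_orderOf_eq_one] at h5
      have h6 : w ^ orderOf (n : X) = 1 := by
        have : (w ^ orderOf (n : X) - 1) * ψ 1 = 0 := by linear_combination -h5
        rcases mul_eq_zero.1 this with h | h
        · linear_combination h
        · exact absurd h h3
      have h7 : ‖w‖ = 1 := by
        have h8 : ‖w‖ ^ orderOf (n : X) = 1 := by rw [← norm_pow, h6, norm_one]
        exact (pow_eq_one_iff_of_nonneg (norm_nonneg _) (orderOf_pos _).ne').1 h8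
      rw [Complex.mul_conj, Complex.normSq_eq_norm_sq, h7]
      norm_num
    have h2 : (1 - (φ n : ℂ) * conj w) * ∑ g : X, f g * conj (ψ g) = 0 := by
      linear_combination h1
    have h3 : (1 - (φ n : ℂ) * conj w) ≠ 0 := by
      intro h
      apply hwn
      have : (φ n : ℂ) * conj w = 1 := by linear_combination -h
      have h5 : conj w ≠ 0 := by
        intro h0; rw [h0, mul_zero] at this; exact zero_ne_one this
      apply mul_right_cancel₀ h5
      rw [this, hww]
    rw [Blocks.Basic.classInner_def, (mul_eq_zero.1 h2).resolve_left h3, mul_zero]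
  have hover : ∀ ψ : X → ℂ, (∀ n : N, ψ n = ψ 1 * φ n) ↔
      ∀ n : N, (ψ ∘ α.symm) n = (ψ ∘ α.symm) 1 * φ n := by
    intro ψ
    have h1 : ∀ n : N, α.symm n = n := fun n => by rw [MulEquiv.symm_apply_eq, hα]
    simp only [Function.comp, h1, map_one]
  have hcomp : IsClassFunction X (f ∘ α) := by
    intro g t
    simp only [Function.comp, map_mul, map_inv]
    exact hcl _ _
  have hinner : ∀ ψ : X → ℂ, classInner (f ∘ α) ψ = classInner f (ψ ∘ α.symm) := by
    intro ψ
    rw [Blocks.Basic.classInner_def, Blocks.Basic.classInner_def]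
    congr 1
    refine Fintype.sum_equiv α.toEquiv _ _ fun g => ?_
    simp [Function.comp]
  have hkey : f ∘ α = f := by
    have hd : IsClassFunction X (f ∘ α - f) := by
      intro g t
      rw [Pi.sub_apply, Pi.sub_apply, hcomp, hcl]
    have h1 : f ∘ α - f = 0 := by
      apply classFunction_eq_zero hd
      intro ψ hψ
      rw [classInner_sub_left, hinner]
      have hψ' : IsIrrCharacter X (ψ ∘ α.symm) :=
        isIrr_comp α.symm.toMonoidHom α.symm.surjective hψ
      by_cases h : ∀ n : N, ψ n = ψ 1 * φ n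
      · have h2 : ψ ∘ α.symm = ψ := by
          funext x
          have := hinv ψ hψ h (α.symm x)
          rw [MulEquiv.apply_symm_apply] at this
          exact this.symm
        rw [h2, sub_self]
      · rw [horth ψ hψ h, horth _ hψ' (fun h2 => h ((hover ψ).2 h2)), sub_zero]
    exact sub_eq_zero.1 h1
  have h1 : f (α k) = f k := congrFun hkey k
  have h2 : f k ≠ 0 := gf_self_ne_zero N φ k hk
  have h3 : gf N φ k (α k) ≠ 0 := by rw [← hf, h1]; exact h2
  obtain ⟨x, -, hx⟩ := Finset.exists_ne_zero_of_sum_ne_zero h3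
  by_cases h4 : x⁻¹ * α k * x * k⁻¹ ∈ N
  swap
  · rw [dif_neg h4] at hx
    exact absurd rfl hx
  have h5 : α k = (⟨_, h4⟩ : N) * (x * k * x⁻¹) := by
    have hc := Subgroup.mem_center_iff.1 (hN h4)
    change α k = (x⁻¹ * α k * x * k⁻¹) * (x * k * x⁻¹)
    rw [← mul_assoc, ← mul_assoc, ← hc x]
    group
  have h6 : f (α k) = φ ⟨_, h4⟩ * f k := by
    conv_lhs => rw [h5]
    rw [hmul, hf, gf_conj]
  rw [h1] at h6
  have h7 : ((φ ⟨_, h4⟩ : ℂˣ) : ℂ) = 1 := by
    have : ((φ ⟨_, h4⟩ : ℂˣ) : ℂ) * f k = 1 * f k := by rw [one_mul]; exact h6.symm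
    exact mul_right_cancel₀ h2 this
  have h8 : (⟨_, h4⟩ : N) = 1 := hφ (by rw [map_one]; exact Units.ext h7)
  refine ⟨x, ?_⟩
  rw [h5, h8]
  simp

end Cfsg.Agent.H586.GW
end

-- part: H586/GW/CoreDef
section
/-!
# Gluck-Wolf: the core situation
-/

set_option autoImplicit false
set_option linter.style.haveILetI false
set_option linter.unusedSectionVars false
open Cfsg

namespace Cfsg.Agent.H586.GW

open Cfsg.Agent.Characters.Core Cfsg.Agent.Characters.Clifford Cfsg.Agent.H672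
open scoped commutatorElement

/-- The core situation. `H` acts irreducibly on the elementary abelian `r`-group `V` with kernel `N`,
a central subgroup of `H` with a faithful linear character `φ`; `K ≥ N` is a normal `p'`-subgroup of
index `p`; every vector is fixed by an element outside `K` and all irreducible characters over `φ` of
the stabilizer `K_v` are `H_v`-invariant. -/
structure Core (p r : ℕ) {H V : Type*} [Group H] [Finite H] [AddCommGroup V] [Finite V]
    [DistribMulAction H V] (K N : Subgroup H) (φ : N →* ℂˣ) : Prop where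
  nK : K.Normal
  idx : K.index = p
  cop : ¬ p ∣ Nat.card K
  cen : N ≤ Subgroup.center H
  NK : N ≤ K
  inj : Function.Injective φ
  exp : ∀ v : V, r • v = 0
  nt : Nontrivial V
  ker : ∀ h : H, (∀ v : V, h • v = v) ↔ h ∈ N
  irr : ∀ W : AddSubgroup V, (∀ h : H, ∀ w ∈ W, h • w ∈ W) → W = ⊥ ∨ W = ⊤
  gen : ∀ M : Subgroup H, M.Normal → N ≤ M → ¬ M ≤ K → M = ⊤
  P1 : ∀ v : V, ∃ x : H, x ∉ K ∧ x • v = v
  P2 : ∀ (v : V) (ψ : ↥(K ⊓ MulAction.stabilizer H v) → ℂ),
    IsIrrCharacter ↥(K ⊓ MulAction.stabilizer H v) ψ →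
    (∀ n (hn : n ∈ N) (hn' : n ∈ K ⊓ MulAction.stabilizer H v), ψ ⟨n, hn'⟩ = ψ 1 * φ ⟨n, hn⟩) →
    ∀ h : H, h • v = v → ∀ k (hk : k ∈ K ⊓ MulAction.stabilizer H v)
      (hk' : h * k * h⁻¹ ∈ K ⊓ MulAction.stabilizer H v), ψ ⟨h * k * h⁻¹, hk'⟩ = ψ ⟨k, hk⟩

section
variable {p r : ℕ} {H V : Type*} [Group H] [Finite H] [AddCommGroup V] [Finite V]
  [DistribMulAction H V] {K N : Subgroup H} {φ : N →* ℂˣ}

theorem Core.smul_of_mem (C : Core (V := V) p r K N φ) {n : H} (hn : n ∈ N) (v : V) : n • v = v :=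
  (C.ker n).2 hn v

theorem Core.N_le (C : Core (V := V) p r K N φ) (v : V) : N ≤ K ⊓ MulAction.stabilizer H v :=
  le_inf C.NK fun _ hn => C.smul_of_mem hn v

/-- The class of a `φ`-good element of `K_v` is invariant under `H_v`. -/
theorem Core.good (C : Core (V := V) p r K N φ) (v : V) {k : H} (hk : k ∈ K) (hkv : k • v = v)
    (hgood : ∀ y ∈ K, y • v = v → ⁅k, y⁆ ∈ N → ⁅k, y⁆ = 1) {h : H} (hh : h • v = v) :
    ∃ y ∈ K, y • v = v ∧ h * k * h⁻¹ = y * k * y⁻¹ := by
  classical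
  let X : Subgroup H := K ⊓ MulAction.stabilizer H v
  have hX : ∀ x, x ∈ X ↔ x ∈ K ∧ x • v = v := fun x => Iff.rfl
  haveI : Fintype X := Fintype.ofFinite X
  have hcX : ∀ x : H, x • v = v → ∀ k ∈ X, x * k * x⁻¹ ∈ X := by
    intro x hx k hk
    rw [hX] at hk ⊢
    refine ⟨C.nK.conj_mem k hk.1 x, ?_⟩
    have : x⁻¹ • v = v := by rw [inv_smul_eq_iff, hx]
    rw [mul_smul, mul_smul, this, hk.2, hx]
  have hh' : h⁻¹ • v = v := by rw [inv_smul_eq_iff, hh]
  let α : X ≃* X :=
    { toFun := fun x => ⟨h * x * h⁻¹, hcX h hh x x.2⟩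
      invFun := fun x => ⟨h⁻¹ * x * h, by simpa using hcX h⁻¹ hh' x x.2⟩
      left_inv := fun x => Subtype.ext (by simp [mul_assoc])
      right_inv := fun x => Subtype.ext (by simp [mul_assoc])
      map_mul' := fun x y => Subtype.ext (by simp [mul_assoc]) }
  have hNX : N ≤ X := C.N_le v
  let N' : Subgroup X := N.subgroupOf X
  have hN' : N' ≤ Subgroup.center X := by
    intro n hn
    rw [Subgroup.mem_center_iff]
    intro x
    exact Subtype.ext (Subgroup.mem_center_iff.1 (C.cen hn) (x : H))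
  let φ' : N' →* ℂˣ := φ.comp (Subgroup.subgroupOfEquivOfLe hNX).toMonoidHom
  have hφ' : Function.Injective φ' := C.inj.comp (Subgroup.subgroupOfEquivOfLe hNX).injective
  have hgood' : ∀ y : X, ⁅(⟨k, hk, hkv⟩ : X), y⁆ ∈ N' → ⁅(⟨k, hk, hkv⟩ : X), y⁆ = 1 := by
    intro y hy
    exact Subtype.ext (hgood y y.2.1 y.2.2 hy)
  obtain ⟨y, hy⟩ := good_conj N' φ' (⟨k, hk, hkv⟩ : X) hN' hφ' α (by
    intro n
    apply Subtype.ext
    change h * ((n : X) : H) * h⁻¹ = n
    have h9 : h * ((n : X) : H) = ((n : X) : H) * h := Subgroup.mem_center_iff.1 (C.cen n.2) h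
    rw [h9, mul_inv_cancel_right]) (by
    intro ψ hψ hψN x
    refine C.P2 v ψ hψ ?_ h hh x x.2 _
    intro n hn hn'
    exact hψN ⟨⟨n, hn'⟩, hn⟩) hgood'
  exact ⟨y, y.2.1, y.2.2, congrArg Subtype.val hy⟩

end

end Cfsg.Agent.H586.GW
end
end

-- part: H662/GW/QPCen
section
prune_inst 0x2000000000000000000000000000000014010000
set_option linter.all false
open scoped Cfsg.Agent.FastGrp

/-!
# Gluck-Wolf: abelian normal sections of a quasi-primitive core are central (helper662)
-/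

set_option autoImplicit false

open scoped commutatorElement

namespace Cfsg.Agent.H662.GW

open Cfsg.Agent.H586.GW

/-- quasi-primitive: each nonzero `M`-invariant subspace is faithful for `M / N`, `M` normal in `H`. -/
def QP (V : Type*) {H : Type*} [Group H] [AddCommGroup V] [DistribMulAction H V] (K N : Subgroup H) : Prop :=
  ∀ M : Subgroup H, M.Normal → N ≤ M → M ≤ K → ∀ W : AddSubgroup V, W ≠ ⊥ → (∀ m ∈ M, ∀ w ∈ W, m • w ∈ W) →
    ∀ m ∈ M, (∀ w ∈ W, m • w = w) → m ∈ N

/-- a minimal nonzero `M`-invariant subspace -/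
theorem exists_min {V H : Type*} [AddCommGroup V] [Finite V] [Nontrivial V] [Group H] [DistribMulAction H V]
    (M : Subgroup H) : ∃ W : AddSubgroup V, W ≠ ⊥ ∧ (∀ m ∈ M, ∀ w ∈ W, m • w ∈ W) ∧
      ∀ W' : AddSubgroup V, W' ≤ W → (∀ m ∈ M, ∀ w ∈ W', m • w ∈ W') → W' = ⊥ ∨ W' = W := by
  obtain ⟨W, hW⟩ := Set.Finite.exists_minimal (s := {W : AddSubgroup V | W ≠ ⊥ ∧ ∀ m ∈ M, ∀ w ∈ W, m • w ∈ W})
    (Set.toFinite _) ⟨⊤, top_ne_bot, fun _ _ _ _ => trivial⟩
  refine ⟨W, hW.1.1, hW.1.2, fun W' hle hinv => ?_⟩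
  by_cases h : W' = ⊥
  · exact Or.inl h
  · exact Or.inr (le_antisymm hle (hW.2 ⟨h, hinv⟩ hle))

theorem exists_gen_ring' {D Q : Type*} [CommRing D] [IsDomain D] [Group Q] [Finite Q] (f : Q →* D) :
    ∃ g : Q, ∀ m : Q, ∃ k : ℤ, f m = f (g ^ k) := by
  let f' : Q →* Dˣ := f.toHomUnits
  have hfin : Finite f'.range := Finite.of_surjective f'.rangeRestrict f'.rangeRestrict_surjective
  have hcyc : IsCyclic f'.range := inferInstance
  obtain ⟨⟨q, g, rfl⟩, hq⟩ := hcyc.exists_generator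
  refine ⟨g, fun m => ?_⟩
  obtain ⟨k, hk⟩ := Subgroup.mem_zpowers_iff.1 (hq ⟨f' m, m, rfl⟩)
  refine ⟨k, ?_⟩
  have h1 : f' (g ^ k) = f' m := by
    rw [map_zpow]; exact congrArg Subtype.val hk
  exact (congrArg Units.val h1).symm

theorem exists_gen_ring {D Q : Type*} [iD : Ring D] [IsDomain D] [Finite D] [Group Q] [Finite Q] (f : Q →* D) :
    ∃ g : Q, ∀ m : Q, ∃ k : ℤ, f m = f (g ^ k) := by
  have hF : IsField D := Finite.isDomain_to_isField D
  let i2 : CommRing D := { iD with mul_comm := hF.mul_comm }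
  exact @exists_gen_ring' D Q i2 ‹_› _ _ f

/-- Schur + Wedderburn: a commutative group of operators, irreducible on a finite group, is cyclic. -/
theorem exists_gen' {W Q : Type*} [AddCommGroup W] [Finite W] [Nontrivial W] [Group Q] [Finite Q] [DistribMulAction Q W]
    (hirr : ∀ W' : AddSubgroup W, (∀ m : Q, ∀ w ∈ W', m • w ∈ W') → W' = ⊥ ∨ W' = ⊤)
    (hcomm : ∀ a b : Q, ∀ w : W, a • b • w = b • a • w) :
    ∃ g : Q, ∀ m : Q, ∃ k : ℤ, ∀ w : W, m • w = g ^ k • w := by
  let ρ : Q →* AddMonoid.End W := DistribMulAction.toAddMonoidEnd Q W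
  let D : Subring (AddMonoid.End W) := Subring.centralizer (Set.range ρ)
  have hD : ∀ d : D, ∀ m : Q, ∀ w : W, (d : AddMonoid.End W) (m • w) = m • ((d : AddMonoid.End W) w) := by
    rintro ⟨d, hd⟩ m w
    have h := hd _ (Set.mem_range_self m)
    have h2 := DFunLike.congr_fun h w
    exact h2.symm
  have hinj : ∀ d : D, d ≠ 0 → Function.Injective (d : AddMonoid.End W) := by
    intro d hd
    rcases hirr (AddMonoidHom.ker (d : W →+ W)) (fun m u hu => by
      have hu' : (d : AddMonoid.End W) u = 0 := hu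
      show (d : AddMonoid.End W) (m • u) = 0
      rw [hD d m u, hu', smul_zero]) with h | h
    · exact (AddMonoidHom.ker_eq_bot_iff (d : W →+ W)).1 h
    · exfalso
      apply hd
      apply Subtype.ext
      ext w
      have h1 : w ∈ AddMonoidHom.ker (d : W →+ W) := by rw [h]; trivial
      exact h1
  have hfinE : Finite (AddMonoid.End W) :=
    Finite.of_injective (fun f : AddMonoid.End W => (f : W → W)) DFunLike.coe_injective
  have hfin : Finite D := inferInstance
  obtain ⟨w₀, hw₀⟩ := exists_ne (0 : W)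
  have hnt : Nontrivial D := by
    refine ⟨⟨1, 0, fun h => hw₀ ?_⟩⟩
    have h1 : ((1 : D) : AddMonoid.End W) w₀ = ((0 : D) : AddMonoid.End W) w₀ := by rw [h]
    exact h1
  have hnz : NoZeroDivisors D := by
    refine ⟨fun {a b} hab => ?_⟩
    by_cases ha : a = 0
    · exact Or.inl ha
    · right
      apply Subtype.ext
      ext w
      have h1 : ((a * b : D) : AddMonoid.End W) w = 0 := by rw [hab]; rfl
      have h2 : (a : AddMonoid.End W) ((b : AddMonoid.End W) w) = (a : AddMonoid.End W) 0 := by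
        rw [map_zero]
        exact h1
      exact hinj a ha h2
  have hdom : IsDomain D := NoZeroDivisors.to_isDomain D
  let f : Q →* D :=
    { toFun := fun c => ⟨ρ c, by
        rw [Subring.mem_centralizer_iff]
        rintro _ ⟨b, rfl⟩
        ext w
        exact hcomm b c w⟩
      map_one' := Subtype.ext (map_one ρ)
      map_mul' := fun a b => Subtype.ext (map_mul ρ a b) }
  obtain ⟨g, hg⟩ := exists_gen_ring f
  refine ⟨g, fun m => ?_⟩
  obtain ⟨k, h1⟩ := hg m
  refine ⟨k, fun w => ?_⟩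
  have h3 : ρ m = ρ (g ^ k) := congrArg Subtype.val h1
  exact DFunLike.congr_fun h3 w

/-- the action of `M` on an invariant subgroup -/
@[reducible] def actOn {V H : Type*} [AddCommGroup V] [Group H] [DistribMulAction H V] (M : Subgroup H)
    (W : AddSubgroup V) (hinv : ∀ m ∈ M, ∀ w ∈ W, m • w ∈ W) : DistribMulAction M W where
  smul m w := ⟨(m : H) • (w : V), hinv m m.2 w w.2⟩
  one_smul w := Subtype.ext (one_smul H (w : V))
  mul_smul a b w := Subtype.ext (mul_smul (a : H) (b : H) (w : V))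
  smul_zero a := Subtype.ext (smul_zero (a : H))
  smul_add a v w := Subtype.ext (smul_add (a : H) (v : V) (w : V))

theorem exists_gen {V H : Type*} [AddCommGroup V] [Finite V] [Group H] [Finite H] [DistribMulAction H V]
    (M : Subgroup H) (W : AddSubgroup V) (hW : W ≠ ⊥) (hinv : ∀ m ∈ M, ∀ w ∈ W, m • w ∈ W)
    (hmin : ∀ W' : AddSubgroup V, W' ≤ W → (∀ m ∈ M, ∀ w ∈ W', m • w ∈ W') → W' = ⊥ ∨ W' = W)
    (hcomm : ∀ a ∈ M, ∀ b ∈ M, ∀ w ∈ W, a • b • w = b • a • w) :
    ∃ g ∈ M, ∀ m ∈ M, ∃ k : ℤ, ∀ w ∈ W, m • w = g ^ k • w := by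
  let _ := actOn M W hinv
  have hnt : Nontrivial W := (AddSubgroup.nontrivial_iff_ne_bot W).2 hW
  obtain ⟨g, hg⟩ := exists_gen' (W := W) (Q := M) (fun W' h => by
    rcases hmin (W'.map W.subtype) (by rintro _ ⟨w, _, rfl⟩; exact w.2) (by
        rintro m hm _ ⟨w, hw, rfl⟩
        exact ⟨(⟨m, hm⟩ : M) • w, h _ w hw, rfl⟩) with h1 | h1
    · left
      rwa [AddSubgroup.map_eq_bot_iff_of_injective _ W.subtype_injective] at h1
    · right
      rw [eq_top_iff]
      rintro w -
      have h2 : (w : V) ∈ W'.map W.subtype := by rw [h1]; exact w.2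
      obtain ⟨w', hw', h3⟩ := h2
      rwa [← show w' = w from Subtype.ext h3])
    (fun a b w => Subtype.ext (hcomm a a.2 b b.2 w w.2))
  refine ⟨g, g.2, fun m hm => ?_⟩
  obtain ⟨k, hk⟩ := hg ⟨m, hm⟩
  refine ⟨k, fun w hw => ?_⟩
  have h := congrArg Subtype.val (hk ⟨w, hw⟩)
  exact h

section
variable {p r : ℕ} {H V : Type*} [Group H] [Finite H] [AddCommGroup V] [Finite V] [DistribMulAction H V]
  {K N : Subgroup H} {φ : N →* ℂˣ}

theorem core_nN (C : Core (V := V) p r K N φ) : N.Normal := by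
  refine ⟨fun n hn g => ?_⟩
  have h := Subgroup.mem_center_iff.1 (C.cen hn) g
  rwa [h, mul_inv_cancel_right]

/-- an element of order `p` outside `K` -/
theorem core_exists_x (C : Core (V := V) p r K N φ) (hp : p.Prime) : ∃ x : H, x ∉ K ∧ x ^ p = 1 := by
  have : Fact p.Prime := ⟨hp⟩
  have hd : p ∣ Nat.card H := by
    rw [← K.index_mul_card, C.idx]; exact dvd_mul_right _ _
  obtain ⟨x, hx⟩ := exists_prime_orderOf_dvd_card' p hd
  refine ⟨x, fun hxK => C.cop ?_, by rw [← hx, pow_orderOf_eq_one]⟩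
  rw [← hx]
  exact Subgroup.orderOf_dvd_natCard K hxK

/-- If `C₀` is a normal subgroup containing `N` and the commutators of `H`, then `K ≤ C₀`. -/
theorem core_K_le (C : Core (V := V) p r K N φ) (hp : p.Prime) (C₀ : Subgroup H) (hn : C₀.Normal)
    (hN : N ≤ C₀) (hc : ∀ a b : H, ⁅a, b⁆ ∈ C₀) : K ≤ C₀ := by
  obtain ⟨x, hx, hxp⟩ := core_exists_x C hp
  have htop : C₀ ⊔ Subgroup.zpowers x = ⊤ := by
    refine C.gen _ ⟨fun a ha g => ?_⟩ (hN.trans le_sup_left) fun h => hx (h ((le_sup_right (a := C₀))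
      (Subgroup.mem_zpowers x)))
    have h1 : ⁅g, a⁆ ∈ C₀ ⊔ Subgroup.zpowers x := (le_sup_left : C₀ ≤ _) (hc g a)
    have h2 : g * a * g⁻¹ = ⁅g, a⁆ * a := by rw [commutatorElement_def]; group
    rw [h2]
    exact mul_mem h1 ha
  intro k hk
  have hkp : k ^ p ∈ C₀ := by
    have h1 : k ∈ C₀ ⊔ Subgroup.zpowers x := by rw [htop]; trivial
    obtain ⟨c, hc0, y, hy, rfl⟩ := Subgroup.mem_sup_of_normal_left.1 h1
    rw [← QuotientGroup.eq_one_iff]
    have h2 : ((c * y : H) : H ⧸ C₀) = (y : H ⧸ C₀) := by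
      rw [QuotientGroup.mk_mul, (QuotientGroup.eq_one_iff c).2 hc0, one_mul]
    obtain ⟨i, rfl⟩ := Subgroup.mem_zpowers_iff.1 hy
    rw [QuotientGroup.mk_pow, h2, ← QuotientGroup.mk_pow, ← zpow_natCast, ← zpow_mul, mul_comm, zpow_mul,
      zpow_natCast, hxp, one_zpow, QuotientGroup.mk_one]
  have hcop : (orderOf k).Coprime p := by
    rw [Nat.coprime_comm, hp.coprime_iff_not_dvd]
    exact fun h => C.cop (h.trans (Subgroup.orderOf_dvd_natCard K hk))
  have h3 : k ∈ Subgroup.zpowers (k ^ p) := by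
    obtain ⟨m, hm⟩ := exists_pow_eq_self_of_coprime hcop.symm
    exact ⟨m, by simpa using hm⟩
  exact (Subgroup.zpowers_le.2 hkp) h3

/-- A normal subgroup `M` of `H` with `M / N` abelian is central in `K` mod `N`. -/
theorem core_central (C : Core (V := V) p r K N φ) (hp : p.Prime) (hqp : QP V K N) {M : Subgroup H}
    (hM : M.Normal) (hNM : N ≤ M) (hMK : M ≤ K) (hab : ∀ a ∈ M, ∀ b ∈ M, ⁅a, b⁆ ∈ N) :
    ∃ g ∈ M, (∀ m ∈ M, ∃ k : ℤ, m * (g ^ k)⁻¹ ∈ N) ∧ ∀ m ∈ M, ∀ k ∈ K, ⁅m, k⁆ ∈ N := by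
  have := C.nt
  have := core_nN C
  obtain ⟨W, hW, hinv, hmin⟩ := exists_min (V := V) M
  obtain ⟨g, hg, hgen⟩ := exists_gen M W hW hinv hmin fun a ha b hb w _ => by
    have h1 := (C.ker ⁅a, b⁆).2 (hab a ha b hb) (b • a • w)
    rw [commutatorElement_def] at h1
    simp only [mul_smul, inv_smul_smul] at h1
    exact h1
  have hgen' : ∀ m ∈ M, ∃ k : ℤ, m * (g ^ k)⁻¹ ∈ N := by
    intro m hm
    obtain ⟨k, hk⟩ := hgen m hm
    refine ⟨k, ?_⟩
    have hmem : (g ^ k)⁻¹ * m ∈ N := by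
      refine hqp M hM hNM hMK W hW hinv _ (mul_mem (inv_mem (zpow_mem hg k)) hm) fun w hw => ?_
      rw [mul_smul, hk w hw, inv_smul_smul]
    have h2 := (core_nN C).conj_mem _ hmem (g ^ k)
    have h3 : g ^ k * ((g ^ k)⁻¹ * m) * (g ^ k)⁻¹ = m * (g ^ k)⁻¹ := by group
    rwa [h3] at h2
  refine ⟨g, hg, hgen', ?_⟩
  -- the centralizer of `M / N`
  let q := QuotientGroup.mk' N
  let C₀ : Subgroup H := (Subgroup.centralizer ({q g} : Set (H ⧸ N))).comap q
  have hC₀ : ∀ h, h ∈ C₀ ↔ q g * q h = q h * q g := by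
    intro h
    rw [Subgroup.mem_comap, Subgroup.mem_centralizer_singleton_iff]
    exact ⟨fun h => h.symm, fun h => h.symm⟩
  have hpow : ∀ h : H, ∃ k : ℤ, q h * q g * (q h)⁻¹ = q g ^ k := by
    intro h
    obtain ⟨k, hk⟩ := hgen' (h * g * h⁻¹) (hM.conj_mem g hg h)
    refine ⟨k, ?_⟩
    have h1 : q (h * g * h⁻¹ * (g ^ k)⁻¹) = 1 := (QuotientGroup.eq_one_iff _).2 hk
    rw [map_mul, map_inv, mul_inv_eq_one, map_mul, map_mul, map_inv, map_zpow] at h1
    exact h1
  have hcomm : ∀ a b : H, ⁅a, b⁆ ∈ C₀ := by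
    intro a b
    rw [hC₀]
    obtain ⟨i, hi⟩ := hpow a⁻¹
    obtain ⟨j, hj⟩ := hpow b⁻¹
    rw [map_inv, inv_inv] at hi hj
    -- conj by `a⁻¹` is the power `i`, by `b⁻¹` the power `j`
    have e1 : (q (b * a))⁻¹ * q g * q (b * a) = q g ^ (j * i) := by
      rw [map_mul, mul_inv_rev]
      calc (q a)⁻¹ * (q b)⁻¹ * q g * (q b * q a) = (q a)⁻¹ * ((q b)⁻¹ * q g * q b) * q a := by group
        _ = (q a)⁻¹ * (q g ^ j) * q a := by rw [hj]
        _ = ((q a)⁻¹ * q g * q a) ^ j := by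
            have h := conj_zpow (i := j) (b := q g) (a := (q a)⁻¹)
            rw [inv_inv] at h
            exact h.symm
        _ = q g ^ (j * i) := by rw [hi, ← zpow_mul, mul_comm]
    have e2 : (q (a * b))⁻¹ * q g * q (a * b) = q g ^ (j * i) := by
      rw [map_mul, mul_inv_rev]
      calc (q b)⁻¹ * (q a)⁻¹ * q g * (q a * q b) = (q b)⁻¹ * ((q a)⁻¹ * q g * q a) * q b := by group
        _ = (q b)⁻¹ * (q g ^ i) * q b := by rw [hi]
        _ = ((q b)⁻¹ * q g * q b) ^ i := by
            have h := conj_zpow (i := i) (b := q g) (a := (q b)⁻¹)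
            rw [inv_inv] at h
            exact h.symm
        _ = q g ^ (j * i) := by rw [hj, ← zpow_mul]
    have h1 : ⁅a, b⁆ = (a * b) * (b * a)⁻¹ := by rw [commutatorElement_def]; group
    rw [h1, map_mul, map_inv]
    have e3 : q g * q (a * b) = q (a * b) * q g ^ (j * i) := by
      rw [← e2]; group
    have e4 : q g * q (b * a) = q (b * a) * q g ^ (j * i) := by
      rw [← e1]; group
    have e5 : (q (b * a))⁻¹ * q g = q g ^ (j * i) * (q (b * a))⁻¹ := by
      rw [← e1]; group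
    rw [← mul_assoc, e3, mul_assoc, mul_assoc, ← e5]
  have hC₀n : C₀.Normal := by
    refine ⟨fun a ha g' => ?_⟩
    have h2 : g' * a * g'⁻¹ = ⁅g', a⁆ * a := by rw [commutatorElement_def]; group
    rw [h2]
    exact mul_mem (hcomm g' a) ha
  have hNC : N ≤ C₀ := by
    intro n hn
    rw [hC₀]
    have : q n = 1 := (QuotientGroup.eq_one_iff n).2 hn
    rw [this, mul_one, one_mul]
  have hKC := core_K_le C hp C₀ hC₀n hNC hcomm
  intro m hm k hk
  obtain ⟨i, hi⟩ := hgen' m hm
  have h1 : q m = q g ^ i := by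
    have h := (QuotientGroup.eq_one_iff _).2 hi
    change q (m * (g ^ i)⁻¹) = 1 at h
    rw [map_mul, map_inv, mul_inv_eq_one, map_zpow] at h
    exact h
  have h2 := (hC₀ k).1 (hKC hk)
  have h3 : Commute (q m) (q k) := by
    rw [h1]
    exact (show Commute (q g) (q k) from h2).zpow_left i
  have h4 : q ⁅m, k⁆ = 1 := by
    rw [map_commutatorElement, commutatorElement_eq_one_iff_commute]
    exact h3
  exact (QuotientGroup.eq_one_iff _).1 h4

end

end Cfsg.Agent.H662.GW
end

-- part: H586/GW/ImpA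
section
prune_inst 0x2000000000000000000000000000000014010000
set_option linter.all false
open scoped Cfsg.Agent.FastGrp

/-!
# Gluck-Wolf: the imprimitive case, generalities
-/

set_option autoImplicit false
set_option linter.style.haveILetI false
set_option linter.unusedSectionVars false
set_option linter.unusedFintypeInType false

open scoped Pointwise

namespace Cfsg.Agent.H586.GW

open MulAction Cfsg.Agent.H511.Wt

section comp
variable {H V : Type*} [Group H] [Finite H] [AddCommGroup V] [Finite V] [DistribMulAction H V]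
  {M : Subgroup H} {W : H ⧸ M → AddSubgroup V}

theorem smul_mem_W (hW : ∀ (g : H) (i : H ⧸ M), g • W i = W (g • i)) {g : H} {i : H ⧸ M} {w : V}
    (hw : w ∈ W i) : g • w ∈ W (g • i) := by
  rw [← hW]
  exact AddSubgroup.smul_mem_pointwise_smul w g (W i) hw

/-- The components of a vector fixed by `g` are permuted by `g`. -/
theorem fix_comp (hW : ∀ (g : H) (i : H ⧸ M), g • W i = W (g • i)) (hind : iSupIndep W) [Fintype (H ⧸ M)]
    {f : H ⧸ M → V} (hf : ∀ i, f i ∈ W i) {g : H} (hg : g • (∑ i, f i) = ∑ i, f i) (i : H ⧸ M) :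
    g • f i = f (g • i) := by
  have h1 : ∑ j, (g • f (g⁻¹ • j) - f j) = 0 := by
    rw [Finset.sum_sub_distrib, sub_eq_zero]
    calc ∑ j, g • f (g⁻¹ • j) = ∑ j, g • f j := by
          exact Fintype.sum_equiv (MulAction.toPerm g⁻¹) _ _ (fun j => rfl)
      _ = g • ∑ j, f j := (Finset.smul_sum).symm
      _ = ∑ j, f j := hg
  have h2 := sum_unique hind (f := fun j => g • f (g⁻¹ • j) - f j) (fun j => by
    refine AddSubgroup.sub_mem _ ?_ (hf j)
    have := smul_mem_W hW (g := g) (hf (g⁻¹ • j))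
    rwa [smul_inv_smul] at this) h1 (g • i)
  simp only [inv_smul_smul] at h2
  exact sub_eq_zero.1 h2

theorem W_disjoint (hind : iSupIndep W) {i j : H ⧸ M} (hij : i ≠ j) {w : V} (h1 : w ∈ W i) (h2 : w ∈ W j) : w = 0 := by
  have := hind.pairwiseDisjoint hij
  exact (AddSubgroup.disjoint_def.1 this) h1 h2

/-- If all blocks are fixed and each acted on trivially by `g` then `g` is trivial. -/
theorem trivial_of_blocks (htop : ⨆ i, W i = ⊤) [Fintype (H ⧸ M)] {g : H} (h : ∀ i, ∀ w ∈ W i, g • w = w) (v : V) :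
    g • v = v := by
  obtain ⟨f, hf, rfl⟩ := exists_sum htop v
  rw [Finset.smul_sum]
  exact Finset.sum_congr rfl fun i _ => h i _ (hf i)

theorem W_ne_bot [Nontrivial V] (hW : ∀ (g : H) (i : H ⧸ M), g • W i = W (g • i)) (htop : ⨆ i, W i = ⊤)
    (i : H ⧸ M) : W i ≠ ⊥ := by
  intro h
  have h1 : ∀ j, W j = ⊥ := by
    intro j
    obtain ⟨g, hg⟩ := MulAction.exists_smul_eq H i j
    rw [← hg, ← hW, h, eq_bot_iff]
    intro w hw
    rw [mem_smul_iff, AddSubgroup.mem_bot] at hw
    rw [AddSubgroup.mem_bot]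
    exact (smul_eq_zero_iff_eq _).1 hw
  have h2 : (⊤ : AddSubgroup V) = ⊥ := by
    rw [← htop, eq_bot_iff]
    exact iSup_le fun j => (h1 j).le
  exact top_ne_bot h2

theorem exists_ne_zero [Nontrivial V] (hW : ∀ (g : H) (i : H ⧸ M), g • W i = W (g • i)) (htop : ⨆ i, W i = ⊤)
    (i : H ⧸ M) : ∃ w ∈ W i, w ≠ 0 := by
  have h := W_ne_bot hW htop i
  rw [Ne, AddSubgroup.eq_bot_iff_forall] at h
  push Not at h
  exact h

end comp

section core
variable {p r : ℕ} [hp : Fact p.Prime] {H V : Type*} [Group H] [Finite H] [AddCommGroup V] [Finite V]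
  [DistribMulAction H V] {K N : Subgroup H} {φ : N →* ℂˣ} {M : Subgroup H} {W : H ⧸ M → AddSubgroup V}

/-- The kernel on the blocks is contained in `K`. -/
theorem Core.ker_blocks (C : Core (V := V) p r K N φ) (hM : IsCoatom M)
    (hW : ∀ (g : H) (i : H ⧸ M), g • W i = W (g • i)) (hind : iSupIndep W) (htop : ⨆ i, W i = ⊤) {g : H}
    (hg : ∀ i : H ⧸ M, g • i = i) : g ∈ K := by
  haveI := C.nt
  have hNM : N ≤ M := by
    intro n hn
    have h1 : n • (QuotientGroup.mk 1 : H ⧸ M) = QuotientGroup.mk 1 := by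
      by_contra hne
      obtain ⟨w, hw, hw0⟩ := exists_ne_zero hW htop (QuotientGroup.mk 1 : H ⧸ M)
      have h2 := smul_mem_W hW (g := n) hw
      rw [C.smul_of_mem hn] at h2
      exact hw0 (W_disjoint hind hne h2 hw)
    have h2 : (QuotientGroup.mk (n * 1) : H ⧸ M) = QuotientGroup.mk 1 := h1
    rw [eq_comm, QuotientGroup.eq] at h2
    simpa using h2
  have hcore : M.normalCore ≤ K := by
    by_contra hcon
    have h1 : M.normalCore = ⊤ := by
      apply C.gen _ inferInstance _ hcon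
      intro z hz g
      have : g * z * g⁻¹ = z := by
        rw [Subgroup.mem_center_iff.1 (C.cen hz) g]; group
      rw [this]
      exact hNM hz
    apply hM.1
    rw [eq_top_iff, ← h1]
    exact M.normalCore_le
  apply hcore
  intro b
  have h1 : g • (QuotientGroup.mk b⁻¹ : H ⧸ M) = QuotientGroup.mk b⁻¹ := hg _
  have h2 : (QuotientGroup.mk (g * b⁻¹) : H ⧸ M) = QuotientGroup.mk b⁻¹ := h1
  rw [eq_comm, QuotientGroup.eq] at h2
  simpa [mul_assoc] using h2

theorem nontrivial_blocks (hM : IsCoatom M) : Nontrivial (H ⧸ M) := by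
  obtain ⟨g, hg⟩ : ∃ g : H, g ∉ M := by
    by_contra hcon
    push Not at hcon
    exact hM.1 (by rw [eq_top_iff]; exact fun x _ => hcon x)
  refine ⟨QuotientGroup.mk g, QuotientGroup.mk 1, fun h => hg ?_⟩
  have h1 := (QuotientGroup.eq.1 h)
  simpa using h1

theorem prim_blocks (hM : IsCoatom M) : IsPreprimitive H (H ⧸ M) := by
  haveI := nontrivial_blocks hM
  rw [← isCoatom_stabilizer_iff_preprimitive (G := H) (X := H ⧸ M) (QuotientGroup.mk 1 : H ⧸ M)]
  have h1 : stabilizer H ((1 : H) : H ⧸ M) = M := MulAction.stabilizer_quotient M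
  rw [h1]
  exact hM

/-- Two-colourings. -/
theorem Core.two_col (C : Core (V := V) p r K N φ)
    (hW : ∀ (g : H) (i : H ⧸ M), g • W i = W (g • i)) (hind : iSupIndep W) (htop : ⨆ i, W i = ⊤)
    (Δ : Set (H ⧸ M)) : ∃ g : H, g ∉ K ∧ ∀ b, g • b ∈ Δ ↔ b ∈ Δ := by
  classical
  haveI := C.nt
  haveI : Fintype (H ⧸ M) := Fintype.ofFinite _
  choose w hw hw0 using fun i => exists_ne_zero hW htop i
  let f : H ⧸ M → V := fun i => if i ∈ Δ then w i else 0
  have hf : ∀ i, f i ∈ W i := by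
    intro i
    by_cases h : i ∈ Δ
    · simp only [f, if_pos h]; exact hw i
    · simp only [f, if_neg h]; exact (W i).zero_mem
  have hf0 : ∀ i, f i ≠ 0 ↔ i ∈ Δ := by
    intro i
    by_cases h : i ∈ Δ
    · simp only [f, if_pos h]; exact iff_of_true (hw0 i) h
    · simp only [f, if_neg h]; exact iff_of_false (fun h => h rfl) h
  obtain ⟨g, hg, hgv⟩ := C.P1 (∑ i, f i)
  refine ⟨g, hg, fun b => ?_⟩
  rw [← hf0, ← hf0, ← fix_comp hW hind hf hgv b]
  rw [not_iff_not]
  exact smul_eq_zero_iff_eq g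

/-- Three-colourings if the block stabilizer is not transitive on the nonzero vectors of the block. -/
theorem Core.three_col (C : Core (V := V) p r K N φ)
    (hW : ∀ (g : H) (i : H ⧸ M), g • W i = W (g • i)) (hind : iSupIndep W)
    {i₀ : H ⧸ M} {a b : V} (ha : a ∈ W i₀) (hb : b ∈ W i₀) (ha0 : a ≠ 0) (hb0 : b ≠ 0)
    (hab : ∀ m : H, m • i₀ = i₀ → m • a ≠ b) (Δ Δ' : Set (H ⧸ M)) (hdis : ∀ i ∈ Δ, i ∉ Δ') :
    ∃ g : H, g ∉ K ∧ (∀ i ∈ Δ, g • i ∈ Δ) ∧ ∀ i ∈ Δ', g • i ∈ Δ' := by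
  classical
  haveI : Fintype (H ⧸ M) := Fintype.ofFinite _
  choose t ht using fun i => MulAction.exists_smul_eq H i₀ i
  let f : H ⧸ M → V := fun i => if i ∈ Δ then t i • a else if i ∈ Δ' then t i • b else 0
  have hmem : ∀ i (w : V), w ∈ W i₀ → t i • w ∈ W i := by
    intro i w hw
    have := smul_mem_W hW (g := t i) hw
    rwa [ht] at this
  have hf : ∀ i, f i ∈ W i := by
    intro i
    by_cases h : i ∈ Δ
    · simp only [f, if_pos h]; exact hmem i a ha
    · by_cases h' : i ∈ Δ'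
      · simp only [f, if_neg h, if_pos h']; exact hmem i b hb
      · simp only [f, if_neg h, if_neg h']; exact (W i).zero_mem
  have hfΔ : ∀ i, i ∈ Δ → f i = t i • a := fun i h => by simp only [f, if_pos h]
  have hfΔ' : ∀ i, i ∈ Δ' → f i = t i • b := fun i h' => by
    have h : i ∉ Δ := fun h => hdis i h h'
    simp only [f, if_neg h, if_pos h']
  have hf0 : ∀ i, i ∉ Δ → i ∉ Δ' → f i = 0 := fun i h h' => by simp only [f, if_neg h, if_neg h']
  obtain ⟨g, hg, hgv⟩ := C.P1 (∑ i, f i)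
  have hcomp := fix_comp hW hind hf hgv
  -- the element of the block stabilizer
  have hst : ∀ i, ((t (g • i))⁻¹ * g * t i) • i₀ = i₀ := by
    intro i
    rw [mul_smul, mul_smul, ht, inv_smul_eq_iff, ht]
  refine ⟨g, hg, ?_, ?_⟩
  · intro i hi
    by_contra hgi
    have h1 := hcomp i
    rw [hfΔ i hi] at h1
    by_cases hgi' : g • i ∈ Δ'
    · rw [hfΔ' _ hgi'] at h1
      refine hab _ (hst i) ?_
      rw [mul_smul, mul_smul, h1, inv_smul_smul]
    · rw [hf0 _ hgi hgi', smul_eq_zero_iff_eq, smul_eq_zero_iff_eq] at h1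
      exact ha0 h1
  · intro i hi
    by_contra hgi
    have h1 := hcomp i
    rw [hfΔ' i hi] at h1
    by_cases hgi' : g • i ∈ Δ
    · rw [hfΔ _ hgi'] at h1
      refine hab ((t (g • i))⁻¹ * g * t i)⁻¹ ?_ ?_
      · rw [inv_smul_eq_iff, hst]
      · rw [inv_smul_eq_iff, mul_smul, mul_smul, h1, inv_smul_smul]
    · rw [hf0 _ hgi' hgi, smul_eq_zero_iff_eq, smul_eq_zero_iff_eq] at h1
      exact hb0 h1

/-- For odd `p` the block stabilizer is transitive on the nonzero vectors of the block, and `p = 3`, there are `8`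
blocks. -/
theorem Core.imp_odd (h3513 : S3513Stmt) (hp2 : p ≠ 2) (C : Core (V := V) p r K N φ) (hM : IsCoatom M)
    (hW : ∀ (g : H) (i : H ⧸ M), g • W i = W (g • i)) (hind : iSupIndep W) (htop : ⨆ i, W i = ⊤) :
    p = 3 ∧ Nat.card (H ⧸ M) = 8 ∧ 7 ∣ (MulAction.toPermHom H (H ⧸ M)).ker.index ∧
    ∀ i, ∀ a ∈ W i, ∀ b ∈ W i, a ≠ 0 → b ≠ 0 → ∃ m : H, m • i = i ∧ m • a = b := by
  have hker : ∀ g : H, (∀ b : H ⧸ M, g • b = b) → g ∈ K := fun g hg => C.ker_blocks hM hW hind htop hg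
  have h2 := colour_two (B := H ⧸ M) h3513 hp2 (prim_blocks hM) C.nK C.idx C.cop hker (C.two_col hW hind htop)
  refine ⟨h2.1, h2.2.1, h2.2.2, ?_⟩
  intro i₀ a ha b hb ha0 hb0
  by_contra hcon
  push Not at hcon
  have h3 := C.three_col hW hind ha hb ha0 hb0 hcon
  refine colour_false (B := H ⧸ M) h3513 hp2 (prim_blocks hM) C.nK C.idx C.cop hker (C.two_col hW hind htop) ?_
  intro _ b c d hbc hbd hcd
  obtain ⟨g, hg, h4, h5⟩ := h3 {b} {c, d} (by
    intro i hi
    rw [Set.mem_singleton_iff] at hi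
    subst hi
    simp only [Set.mem_insert_iff, Set.mem_singleton_iff]
    push Not
    exact ⟨hbc, hbd⟩)
  refine ⟨g, hg, ?_, ?_, ?_⟩
  · simpa using h4 b (by simp)
  · simpa using h5 c (by simp)
  · simpa using h5 d (by simp)

end core

end Cfsg.Agent.H586.GW
end
end
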