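import Mathlib
import Cfsg.Agent.H586.GW.Colour
import Cfsg.Agent.H878.KerBase
import Cfsg.Agent.Lib.MinNormalNonabelian
import Cfsg.Agent.S0144
import Cfsg.Agent.H662.GW.QPCen_m3
import Cfsg.Agent.H878.KerKnown
import Cfsg.Agent.H531.FMAll
import Cfsg.Agent.H982.LawClassical
import Cfsg.Agent.S0102
import Cfsg.Agent.S0205
import Cfsg.Agent.S0243
import Cfsg.Agent.S0280
import Cfsg.Agent.S2086
import Cfsg.Agent.S2089
import Cfsg.Agent.S3513
import Cfsg.Agent.Solvable.FixedPointFree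
import Cfsg.Agent.H511.Wt.Imp
import Cfsg.Agent.H727.GW.Sp_m3
import Cfsg.Agent.H586.GW.Final
import Cfsg.Agent.S3360
import Cfsg.Agent.FastGrp
import Cfsg.Agent.Prune
set_option linter.all false

section
prune_inst 0x7ff8fefbaff8bddedfff7e7ffefddffc39c0dfffffdff94bffe8e1ffaf9f231229e5abad0de058fe1ed6621410b87813f9ffca3fe36bdc7ffffd5ff45ffbee1fa5e7bd8951d688340fbc0fff63f07f8e7f3fffffffffffffffffffffffffffbeffbdffffffff

-- part: H586/GW/NoCompFin_mg
section
prune_inst 0x600000000000020000000000000000004000000000000000000000000000c02005002000000000001808020000000000000000800000000000000000000000008000400003000104260009801004000000000000000000000000000000000004000000000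
set_option linter.all false
open scoped Cfsg.Agent.FastGrp

-- part: H586/GW/CompQ
section
/-!
# Gluck-Wolf: no component, the quotient part
-/

set_option autoImplicit false
set_option linter.style.haveILetI false
set_option linter.unusedSectionVars false

namespace Cfsg.Agent.H586.GW

open MulAction Cfsg.Agent.Lib.MinNormalNonabelian
open scoped commutatorElement

universe v

/-- The facts on simple groups which are used. -/
structure SimpleFacts : Prop where
  even : ∀ (S : Type v) [Group S] [Finite S] [IsSimpleGroup S], ¬ IsMulCommutative S → 2 ∣ Nat.card S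
  fm : ∀ (S : Type v) [Group S] [Finite S] [IsSimpleGroup S], ¬ IsMulCommutative S →
    ∀ p : ℕ, p.Prime → ¬ p ∣ Nat.card S → ∀ α : MulAut S, orderOf α = p →
      ∃ e : S, α e ∈ Subgroup.zpowers e ∧ α e ≠ e
  away : ∀ (S : Type v) [Group S] [Finite S] [IsSimpleGroup S], ¬ IsMulCommutative S →
    ∀ p r : ℕ, p.Prime → p ≠ 2 → ¬ p ∣ Nat.card S → r.Prime → p < r → H878.Away.{v} r S
  exists_away : ∀ (S : Type v) [Group S] [Finite S] [IsSimpleGroup S], ¬ IsMulCommutative S →
    ∃ r : ℕ, r.Prime ∧ r ∣ Nat.card S ∧ H878.Away.{v} r S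

theorem exists_primePow_notMem {G : Type*} [Group G] [Finite G] (C : Subgroup G) :
    ∀ (n : ℕ) (y : G), orderOf y = n → y ∉ C → ∃ k : ℕ, y ^ k ∉ C ∧ IsPrimePow (orderOf (y ^ k)) := by
  intro n
  induction n using Nat.strong_induction_on with
  | _ n ih =>
  intro y hy hyC
  by_cases hpp : IsPrimePow n
  · exact ⟨1, by simpa using hyC, by simpa [hy] using hpp⟩
  have hn1 : n ≠ 1 := by
    rintro rfl
    exact hyC (by rw [orderOf_eq_one_iff.1 hy]; exact C.one_mem)
  have hn0 : n ≠ 0 := by rw [← hy]; exact (orderOf_pos y).ne'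
  let p := n.minFac
  have hp : p.Prime := Nat.minFac_prime hn1
  have hpn : p ∣ n := Nat.minFac_dvd n
  let a := ordProj[p] n
  let b := ordCompl[p] n
  have hab : a * b = n := Nat.ordProj_mul_ordCompl_eq_self n p
  have hcop : a.Coprime b := (Nat.coprime_ordCompl hp hn0).pow_left _
  have hb0 : b ≠ 0 := by
    intro h
    rw [h, mul_zero] at hab
    exact hn0 hab.symm
  have ha0 : a ≠ 0 := by
    intro h
    rw [h, zero_mul] at hab
    exact hn0 hab.symm
  have ha1 : 1 < a := by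
    have : n.factorization p ≠ 0 := by
      rw [Ne, Nat.factorization_eq_zero_iff]
      push Not
      exact ⟨hp, hpn, hn0⟩
    exact Nat.one_lt_pow this hp.one_lt
  have hb1 : 1 < b := by
    have : b ≠ 1 := by
      intro h
      apply hpp
      rw [← hab, h, mul_one]
      refine (isPrimePow_nat_iff _).2 ⟨p, n.factorization p, hp, ?_, rfl⟩
      exact Nat.pos_of_ne_zero (by
        rw [Ne, Nat.factorization_eq_zero_iff]
        push Not
        exact ⟨hp, hpn, hn0⟩)
    exact Nat.one_lt_iff_ne_zero_and_ne_one.2 ⟨hb0, this⟩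
  have hoa : orderOf (y ^ a) = b := by
    rw [orderOf_pow_of_dvd ha0 (by rw [hy]; exact ⟨b, hab.symm⟩), hy, ← hab,
      Nat.mul_div_cancel_left _ (Nat.pos_of_ne_zero ha0)]
  have hob : orderOf (y ^ b) = a := by
    rw [orderOf_pow_of_dvd hb0 (by rw [hy]; exact ⟨a, by rw [mul_comm]; exact hab.symm⟩), hy, ← hab,
      Nat.mul_div_cancel _ (Nat.pos_of_ne_zero hb0)]
  have hor : y ^ a ∉ C ∨ y ^ b ∉ C := by
    by_contra hcon
    push Not at hcon
    apply hyC
    obtain ⟨s, t, hst⟩ : ∃ s t : ℤ, (a : ℤ) * s + b * t = 1 := by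
      have := Int.isCoprime_iff_gcd_eq_one.2 (by simpa using hcop : Int.gcd a b = 1)
      obtain ⟨s, t, h⟩ := this
      exact ⟨s, t, by rw [← h]; ring⟩
    have : y = (y ^ a) ^ s * (y ^ b) ^ t := by
      rw [← zpow_natCast, ← zpow_natCast, ← zpow_mul, ← zpow_mul, ← zpow_add, hst, zpow_one]
    rw [this]
    exact C.mul_mem (C.zpow_mem hcon.1 _) (C.zpow_mem hcon.2 _)
  rcases hor with h | h
  · obtain ⟨k, hk, hk'⟩ := ih b (by rw [← hab]; exact lt_mul_of_one_lt_left (Nat.pos_of_ne_zero hb0) ha1) _ hoa h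
    exact ⟨a * k, by rw [pow_mul]; exact hk, by rw [pow_mul]; exact hk'⟩
  · obtain ⟨k, hk, hk'⟩ := ih a (by rw [← hab]; exact lt_mul_of_one_lt_right (Nat.pos_of_ne_zero ha0) hb1) _ hob h
    exact ⟨b * k, by rw [pow_mul]; exact hk, by rw [pow_mul]; exact hk'⟩

theorem aut_pow_apply {G : Type*} [Group G] (α : MulAut G) {y : G} {j : ℕ} (h : α y = y ^ j) (m : ℕ) :
    (α ^ m) y = y ^ (j ^ m) := by
  induction m with
  | zero => simp
  | succ m ih => rw [pow_succ', MulAut.mul_apply, ih, map_pow, h, ← pow_mul, pow_succ']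

/-- An automorphism of prime order `p` moving an element of order a power of `r`, inside the cyclic group it
generates, satisfies `p < r` if `p ≠ r`. -/
theorem prime_lt {G : Type*} [Group G] [Finite G] {p r : ℕ} (hp : p.Prime) (hr : r.Prime) (hpr : p ≠ r)
    (α : MulAut G) (hα : α ^ p = 1) {y : G} {a : ℕ} (hy : orderOf y = r ^ a) (h1 : α y ∈ Subgroup.zpowers y)
    (h2 : α y ≠ y) : p < r := by
  haveI : Fact p.Prime := ⟨hp⟩
  obtain ⟨j, hj⟩ := (mem_powers_iff_mem_zpowers).2 h1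
  have hj : α y = y ^ j := hj.symm
  have h3 : y ^ (j ^ p) = y := by
    rw [← aut_pow_apply α hj p, hα]; rfl
  have h4 : ((j : ZMod (r ^ a))) ^ p = 1 := by
    have h5 : j ^ p ≡ 1 [MOD orderOf y] := by
      rw [← pow_eq_pow_iff_modEq, h3, pow_one]
    rw [hy] at h5
    have h6 := (ZMod.natCast_eq_natCast_iff _ _ _).2 h5
    simpa only [_root_.Nat.cast_pow, _root_.Nat.cast_one] using h6
  have h5 : (j : ZMod (r ^ a)) ≠ 1 := by
    intro h
    apply h2
    have h6 : j ≡ 1 [MOD r ^ a] := (ZMod.natCast_eq_natCast_iff _ _ _).1 (by simpa only [_root_.Nat.cast_one] using h)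
    rw [← hy, ← pow_eq_pow_iff_modEq, pow_one] at h6
    rw [hj, h6]
  let w : (ZMod (r ^ a))ˣ := Units.ofPowEqOne _ p h4 hp.ne_zero
  have hw : orderOf w = p := by
    refine orderOf_eq_prime ?_ ?_
    · exact Units.ext (by rw [Units.val_pow_eq_pow_val]; exact h4)
    · intro h
      exact h5 (congrArg Units.val h)
  have ha0 : a ≠ 0 := by
    rintro rfl
    apply h2
    have h6 : y = 1 := by rw [← orderOf_eq_one_iff, hy, pow_zero]
    rw [h6, map_one]
  have hra : 0 < r ^ a := Nat.pow_pos hr.pos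
  haveI : NeZero (r ^ a) := ⟨hra.ne'⟩
  have h6 : p ∣ (r ^ a).totient := by
    rw [← hw, ← ZMod.card_units_eq_totient]
    exact orderOf_dvd_card
  rw [Nat.totient_prime_pow hr (Nat.pos_of_ne_zero ha0)] at h6
  rcases (hp.dvd_mul).1 h6 with h7 | h7
  · exact absurd ((Nat.prime_dvd_prime_iff_eq hp hr).1 (hp.dvd_of_dvd_pow h7)) hpr
  · have h8 := Nat.le_of_dvd (Nat.sub_pos_of_lt hr.one_lt) h7
    have := hr.two_le
    omega

section
variable {Q : Type v} [Group Q] [Finite Q] {p : ℕ} [hp : Fact p.Prime] {K : Subgroup Q}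

/-- An element of order `p` outside `K` normalizing `⟨y⟩` centralizes it if some element outside `K` does. -/
theorem commute_of_commute (hK : K.Normal) (hidx : K.index = p) (hcop : ¬ p ∣ Nat.card K) {g x y : Q}
    (hg : g ∉ K) (hgy : Commute g y) (hxp : x ^ p = 1) (hx : x * y * x⁻¹ ∈ Subgroup.zpowers y) :
    x * y * x⁻¹ = y := by
  have hcyc : Nat.card (Q ⧸ K) = p := by rw [← hidx]; rfl
  have h1 : (QuotientGroup.mk x : Q ⧸ K) ∈ Subgroup.zpowers (QuotientGroup.mk g : Q ⧸ K) := by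
    apply mem_zpowers_of_prime_card hcyc
    intro h
    rw [QuotientGroup.eq_one_iff] at h
    exact hg h
  obtain ⟨i, hi⟩ := h1
  set k := (g ^ i)⁻¹ * x with hk
  have hkK : k ∈ K := by
    rw [hk, ← QuotientGroup.eq]
    exact hi
  obtain ⟨j, hj⟩ := (mem_powers_iff_mem_zpowers).2 hx
  have hj : x * y * x⁻¹ = y ^ j := hj.symm
  have hky : k * y * k⁻¹ = y ^ j := by
    have h2 : k * y * k⁻¹ = (g ^ i)⁻¹ * (x * y * x⁻¹) * g ^ i := by rw [hk]; group
    have h3 : Commute ((g ^ i)⁻¹) (y ^ j) := ((hgy.zpow_left i).inv_left).pow_right j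
    rw [h2, hj, h3.eq]; group
  have hA : ∀ m : ℕ, k ^ m * y * (k ^ m)⁻¹ = x ^ m * y * (x ^ m)⁻¹ := by
    intro m
    have h2 := aut_pow_apply (MulAut.conj k) (y := y) (j := j) hky m
    have h3 := aut_pow_apply (MulAut.conj x) (y := y) (j := j) hj m
    rw [← map_pow] at h2 h3
    exact h2.trans h3.symm
  obtain ⟨n, hn1, hn2⟩ := Nat.chineseRemainder ((Nat.Prime.coprime_iff_not_dvd hp.out).2 hcop) 1 0
  have h4 := hA n
  have h5 : k ^ n = 1 := by
    rw [← orderOf_dvd_iff_pow_eq_one]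
    have h6 : orderOf k ∣ Nat.card K := by
      have := orderOf_dvd_natCard (⟨k, hkK⟩ : K)
      rwa [Subgroup.orderOf_mk] at this
    exact h6.trans ((Nat.modEq_zero_iff_dvd).1 hn2)
  have h6 : x ^ n = x := by
    have h7 : orderOf x ∣ p := orderOf_dvd_of_pow_eq_one hxp
    have h8 : n ≡ 1 [MOD orderOf x] := hn1.of_dvd h7
    rw [← pow_eq_pow_iff_modEq, pow_one] at h8
    exact h8
  rw [h5, h6] at h4
  rw [← h4]; group

/-- The simple case. -/
theorem simple_case (F : SimpleFacts.{v}) (hp2 : p ≠ 2) (hK : K.Normal) (hidx : K.index = p)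
    (hcop : ¬ p ∣ Nat.card K) {R Z : Subgroup Q} (hRn : R.Normal) (hRK : R ≤ K) (hsimp : IsSimpleGroup R)
    (hna : ¬ ∀ x ∈ R, ∀ y ∈ R, Commute x y) (hZ : Z ≤ Subgroup.center Q)
    (gen : ∀ M : Subgroup Q, M.Normal → Z ≤ M → ¬ M ≤ K → M = ⊤) (w : ℕ)
    (key : ∀ e ∈ R, ∀ d : ℕ, e ^ d = 1 → d.Coprime w → ∃ g : Q, g ∉ K ∧ Commute g e)
    (haw : ∀ r : ℕ, r.Prime → H878.Away.{v} r R → ¬ r ∣ w) : False := by
  classical
  have hnaR : ¬ IsMulCommutative R := by
    intro h
    apply hna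
    intro x hx y hy
    exact congrArg Subtype.val (h.is_comm.comm (⟨x, hx⟩ : R) ⟨y, hy⟩)
  have hpR : ¬ p ∣ Nat.card R := fun h => hcop (h.trans (Subgroup.card_dvd_of_le hRK))
  obtain ⟨g, hg⟩ : ∃ g : Q, g ∉ K := by
    by_contra hcon
    push Not at hcon
    have : K = ⊤ := by rw [eq_top_iff]; exact fun x _ => hcon x
    rw [this, Subgroup.index_top] at hidx
    exact hp.out.one_lt.ne hidx
  obtain ⟨hx1, hx2⟩ := pow_card_notMem hK hidx hcop hg
  set x := g ^ Nat.card K with hx
  let α : MulAut R := MulAut.conjNormal x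
  have hαp : α ^ p = 1 := by
    change (MulAut.conjNormal x) ^ p = 1
    rw [← map_pow, hx2, map_one]
  have hα1 : α ≠ 1 := by
    intro h
    have hC : Subgroup.centralizer (R : Set Q) = ⊤ := by
      apply gen
      · exact inferInstance
      · exact hZ.trans (Subgroup.center_le_centralizer _)
      · intro hle
        apply hx1
        apply hle
        rw [Subgroup.mem_centralizer_iff]
        intro y hy
        have h5 : ((α ⟨y, hy⟩ : R) : Q) = y := by rw [h]; rfl
        have h6 : x * y * x⁻¹ = y := h5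
        rw [mul_inv_eq_iff_eq_mul] at h6
        exact h6.symm
    apply hna
    intro a ha b hb
    have : b ∈ Subgroup.centralizer (R : Set Q) := by rw [hC]; trivial
    exact Subgroup.mem_centralizer_iff.1 this a ha
  have hord : orderOf α = p := orderOf_eq_prime hαp hα1
  obtain ⟨e, he1, he2⟩ := F.fm R hnaR p hp.out hpR α hord
  -- the fixed points
  let C : Subgroup R :=
    { carrier := {y | α y = y}
      one_mem' := map_one α
      mul_mem' := fun {a b} ha hb => by
        change α (a * b) = a * b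
        rw [map_mul, ha, hb]
      inv_mem' := fun {a} ha => by
        change α a⁻¹ = a⁻¹
        rw [map_inv, ha] }
  obtain ⟨k, hk1, hk2⟩ := exists_primePow_notMem C _ e rfl (fun h => he2 h)
  set y := e ^ k with hy
  obtain ⟨r, a, hr, ha, hra⟩ := (isPrimePow_nat_iff _).1 hk2
  have hyz : α y ∈ Subgroup.zpowers y := by
    obtain ⟨j, hj⟩ := he1
    refine ⟨j, ?_⟩
    change y ^ j = α y
    have hj' : e ^ j = α e := hj
    rw [hy, map_pow, ← hj', ← zpow_natCast, ← zpow_natCast, ← zpow_mul, ← zpow_mul, mul_comm]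
  have hyne : α y ≠ y := fun h => hk1 h
  have hrR : r ∣ Nat.card R := by
    have h5 : r ∣ orderOf y := by
      rw [← hra]; exact dvd_pow_self r ha.ne'
    exact h5.trans (orderOf_dvd_natCard y)
  have hpr : p ≠ r := fun h => hpR (h ▸ hrR)
  have hlt := prime_lt hp.out hr hpr α hαp hra.symm hyz hyne
  have hrw : ¬ r ∣ w := haw r hr (F.away R hnaR p r hp.out hp2 hpR hr hlt)
  obtain ⟨g', hg', hgy⟩ := key y y.2 (orderOf y) (by
    have h5 := pow_orderOf_eq_one y
    exact congrArg Subtype.val h5) (by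
    rw [← hra]
    exact Nat.Coprime.pow_left _ ((Nat.Prime.coprime_iff_not_dvd hr).2 hrw))
  apply hyne
  apply Subtype.ext
  refine commute_of_commute hK hidx hcop hg' hgy hx2 ?_
  obtain ⟨j, hj⟩ := hyz
  exact ⟨j, congrArg Subtype.val hj⟩

end

end Cfsg.Agent.H586.GW
end

-- part: H586/GW/CompM
section
/-!
# Gluck-Wolf: no component, several factors
-/

set_option autoImplicit false
set_option linter.style.haveILetI false
set_option linter.unusedSectionVars false

namespace Cfsg.Agent.H586.GW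

open MulAction Cfsg.Agent.Lib.MinNormalNonabelian Cfsg.Agent.Lib.MinNormal
open scoped commutatorElement

universe v

section
variable {Q : Type v} [Group Q] [Finite Q] {R : Subgroup Q}

theorem sSup_commute (hind : sSupIndep (minSet R)) {S : Set (Subgroup Q)} (hS : S ⊆ minSet R)
    {T : Subgroup Q} (hT : T ∈ minSet R) (hTS : T ∉ S) {e t : Q} (he : e ∈ sSup S) (ht : t ∈ T) :
    Commute e t := by
  have h1 : sSup S ≤ Subgroup.centralizer (T : Set Q) := by
    refine sSup_le fun U hU => ?_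
    intro a ha
    rw [Subgroup.mem_centralizer_iff]
    intro b hb
    have hne : U ≠ T := fun h => hTS (h ▸ hU)
    exact (commute_of_mem hind (fun S hS => hS.2.2.1) (fun S hS => hS.1) (hS hU) hT hne ha hb).eq.symm
  exact (Subgroup.mem_centralizer_iff.1 (h1 he) t ht).symm

/-- Elements with a prescribed support. -/
theorem supp_elem (hind : sSupIndep (minSet R))
    (hcl : ∀ T ∈ minSet R, ∀ z ∈ T, (∀ t ∈ T, Commute z t) → z = 1) {r : ℕ}
    (hr : ∀ T ∈ minSet R, ∃ a ∈ T, a ≠ 1 ∧ a ^ r = 1) (S : Set (Subgroup Q)) (hS : S ⊆ minSet R) :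
    ∃ e ∈ sSup S, e ^ r = 1 ∧ ∀ T ∈ minSet R, (T ∈ S ↔ ¬ ∀ t ∈ T, Commute e t) := by
  classical
  have hfin : S.Finite := Set.toFinite S
  induction S, hfin using Set.Finite.induction_on with
  | empty =>
    refine ⟨1, Subgroup.one_mem _, one_pow _, fun T hT => ?_⟩
    simp
  | @insert T₀ S hT₀ _ ih =>
    have hS' : S ⊆ minSet R := (Set.subset_insert _ _).trans hS
    have hT₀m : T₀ ∈ minSet R := hS (Set.mem_insert _ _)
    obtain ⟨e, heS, her, he⟩ := ih hS'
    obtain ⟨a, haT, ha1, har⟩ := hr T₀ hT₀m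
    have hea : Commute e a := sSup_commute hind hS' hT₀m hT₀ heS haT
    have hmem1 : a ∈ sSup (insert T₀ S) := (le_sSup (Set.mem_insert _ _) : T₀ ≤ _) haT
    have hmem2 : e ∈ sSup (insert T₀ S) := (sSup_le_sSup (Set.subset_insert _ _) : sSup S ≤ _) heS
    refine ⟨e * a, Subgroup.mul_mem _ hmem2 hmem1, by rw [hea.mul_pow, her, har, one_mul], ?_⟩
    intro T hT
    by_cases h1 : T = T₀
    · subst h1
      refine iff_of_true (Set.mem_insert _ _) ?_
      intro hcomm
      apply ha1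
      apply hcl T hT a haT
      intro t ht
      have h2 : Commute e t := sSup_commute hind hS' hT hT₀ heS ht
      have h3 := hcomm t ht
      have h4 : Commute (e⁻¹ * (e * a)) t := h2.inv_left.mul_left h3
      simpa using h4
    · have h2 : ∀ t ∈ T, Commute a t := fun t ht =>
        commute_of_mem hind (fun S hS => hS.2.2.1) (fun S hS => hS.1) hT₀m hT (Ne.symm h1) haT ht
      rw [Set.mem_insert_iff]
      simp only [h1, false_or]
      rw [he T hT]
      apply not_congr
      constructor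
      · intro h t ht
        exact (h t ht).mul_left (h2 t ht)
      · intro h t ht
        have h4 : Commute (e * a * a⁻¹) t := (h t ht).mul_left (h2 t ht).inv_left
        simpa using h4

/-- An element commuting with `e` preserves the support of `e`. -/
theorem supp_conj [R.Normal] {S : Set (Subgroup Q)} {e g : Q}
    (he : ∀ T ∈ minSet R, (T ∈ S ↔ ¬ ∀ t ∈ T, Commute e t)) (hg : Commute g e) {T : Subgroup Q}
    (hT : T ∈ minSet R) : T.map (MulAut.conj g).toMonoidHom ∈ S ↔ T ∈ S := by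
  rw [he _ (map_conj_mem_minSet hT g), he T hT]
  apply not_congr
  constructor
  · intro h t ht
    have h1 : g * t * g⁻¹ ∈ T.map (MulAut.conj g).toMonoidHom := ⟨t, ht, rfl⟩
    have h2 := h _ h1
    have h3 : e * (g * t * g⁻¹) = (g * t * g⁻¹) * e := h2.eq
    have h4 : e * t = t * e := by
      have h5 : g * (e * t) * g⁻¹ = g * (t * e) * g⁻¹ := by
        calc g * (e * t) * g⁻¹ = (g * e) * t * g⁻¹ := by group
          _ = (e * g) * t * g⁻¹ := by rw [hg.eq]
          _ = e * (g * t * g⁻¹) := by group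
          _ = (g * t * g⁻¹) * e := h3
          _ = g * t * (g⁻¹ * e) := by group
          _ = g * t * (e * g⁻¹) := by rw [(hg.inv_left).eq]
          _ = g * (t * e) * g⁻¹ := by group
      exact mul_left_cancel (mul_right_cancel h5)
    exact h4
  · rintro h _ ⟨t, ht, rfl⟩
    have h2 : e * t = t * e := (h t ht).eq
    change e * (g * t * g⁻¹) = (g * t * g⁻¹) * e
    calc e * (g * t * g⁻¹) = (e * g) * t * g⁻¹ := by group
      _ = (g * e) * t * g⁻¹ := by rw [hg.eq]
      _ = g * (e * t) * g⁻¹ := by group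
      _ = g * (t * e) * g⁻¹ := by rw [h2]
      _ = g * t * (e * g⁻¹) := by group
      _ = g * t * (g⁻¹ * e) := by rw [(hg.inv_left).eq]
      _ = (g * t * g⁻¹) * e := by group

end

theorem exists_order_elem {G : Type*} [Group G] [Finite G] {T : Subgroup G} {r : ℕ} (hr : r.Prime)
    (h : r ∣ Nat.card T) : ∃ a ∈ T, a ≠ 1 ∧ a ^ r = 1 := by
  haveI : Fact r.Prime := ⟨hr⟩
  obtain ⟨a, ha⟩ := exists_prime_orderOf_dvd_card' r h
  refine ⟨a, a.2, ?_, ?_⟩
  · intro h1
    have h2 : a = 1 := Subtype.ext h1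
    rw [h2, orderOf_one] at ha
    exact hr.one_lt.ne ha
  · have h1 := pow_orderOf_eq_one a
    rw [ha] at h1
    exact congrArg Subtype.val h1

/-- Two primes. -/
theorem exists_two_primes (F : SimpleFacts.{v}) (S : Type v) [Group S] [Finite S] [IsSimpleGroup S]
    (hna : ¬ IsMulCommutative S) (h3 : ¬ 3 ∣ Nat.card S) :
    ∃ r s : ℕ, r.Prime ∧ s.Prime ∧ r ≠ s ∧ r ∣ Nat.card S ∧ s ∣ Nat.card S ∧ H878.Away.{v} r S ∧
      H878.Away.{v} s S := by
  classical
  have hns : ¬ Group.IsSolvable S := by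
    intro h
    apply hna
    exact ⟨⟨IsSimpleGroup.comm_iff_isSolvable.2 h⟩⟩
  have h2 : 2 ∣ Nat.card S := F.even S hna
  have hcard : Nat.card S ≠ 0 := Nat.card_pos.ne'
  have h3le : 3 ≤ (Nat.card S).primeFactors.card := by
    by_contra hcon
    apply hns
    have hle : ((Nat.card S).primeFactors.erase 2).card ≤ 1 := by
      rw [Finset.card_erase_of_mem (Nat.mem_primeFactors.2 ⟨Nat.prime_two, h2, hcard⟩)]
      omega
    rw [Finset.card_le_one_iff_subset_singleton] at hle
    obtain ⟨q, hq⟩ := hle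
    have hsub : (Nat.card S).primeFactors ⊆ {2, q} := by
      intro r hr
      by_cases h : r = 2
      · simp [h]
      · have := hq (Finset.mem_erase.2 ⟨h, hr⟩)
        simp only [Finset.mem_singleton] at this
        simp [this]
    have hprod : Nat.card S = 2 ^ (Nat.card S).factorization 2 * (ordCompl[2] (Nat.card S)) :=
      (Nat.ordProj_mul_ordCompl_eq_self _ _).symm
    by_cases hone : ordCompl[2] (Nat.card S) = 1
    · refine S0144.result (G := S) 2 3 ((Nat.card S).factorization 2) 0 Nat.prime_two Nat.prime_three ?_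
      rw [pow_zero]
      rw [hone] at hprod
      exact hprod
    · have hqp : q.Prime := by
        obtain ⟨r, hr, hrd⟩ := Nat.exists_prime_and_dvd hone
        have h5 : r ∈ (Nat.card S).primeFactors :=
          Nat.mem_primeFactors.2 ⟨hr, hrd.trans (Nat.ordCompl_dvd _ _), hcard⟩
        have h6 : r ≠ 2 := by
          rintro rfl
          exact Nat.not_dvd_ordCompl Nat.prime_two hcard hrd
        have h7 := hq (Finset.mem_erase.2 ⟨h6, h5⟩)
        rw [Finset.mem_singleton] at h7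
        exact h7 ▸ hr
      obtain ⟨b, hb⟩ : ∃ b, ordCompl[2] (Nat.card S) = q ^ b := by
        have h5 : (ordCompl[2] (Nat.card S)).primeFactors ⊆ {q} := by
          intro r hr
          have hr' := Nat.mem_primeFactors.1 hr
          have h6 : r ≠ 2 := by
            rintro rfl
            exact Nat.not_dvd_ordCompl Nat.prime_two hcard hr'.2.1
          exact hq (Finset.mem_erase.2 ⟨h6,
            Nat.mem_primeFactors.2 ⟨hr'.1, hr'.2.1.trans (Nat.ordCompl_dvd _ _), hcard⟩⟩)
        refine ⟨(ordCompl[2] (Nat.card S)).factorization q, ?_⟩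
        refine Nat.eq_prime_pow_of_unique_prime_dvd (p := q) ?_ ?_ |>.trans ?_
        · exact (Nat.ordCompl_pos 2 hcard).ne'
        · intro d hd hdd
          have := h5 (Nat.mem_primeFactors.2 ⟨hd, hdd, (Nat.ordCompl_pos 2 hcard).ne'⟩)
          simpa using this
        · congr 1
          have h7 : ordCompl[2] (Nat.card S) = q ^ (ordCompl[2] (Nat.card S)).primeFactorsList.length :=
            Nat.eq_prime_pow_of_unique_prime_dvd (Nat.ordCompl_pos 2 hcard).ne' (by
              intro d hd hdd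
              have := h5 (Nat.mem_primeFactors.2 ⟨hd, hdd, (Nat.ordCompl_pos 2 hcard).ne'⟩)
              simpa using this)
          conv_rhs => rw [h7, hqp.factorization_pow]
          simp
      exact S0144.result (G := S) 2 q ((Nat.card S).factorization 2) b Nat.prime_two hqp (by rw [← hb]; exact hprod)
  have h2le : 1 < ((Nat.card S).primeFactors.erase 2).card := by
    rw [Finset.card_erase_of_mem (Nat.mem_primeFactors.2 ⟨Nat.prime_two, h2, hcard⟩)]
    omega
  obtain ⟨r, s, hr, hs, hrs⟩ := Finset.one_lt_card_iff.1 h2le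
  rw [Finset.mem_erase, Nat.mem_primeFactors] at hr hs
  have hlt : ∀ t : ℕ, t ≠ 2 → t.Prime → t ∣ Nat.card S → 3 < t := by
    intro t ht2 htp htd
    have h5 := htp.two_le
    have h6 : t ≠ 3 := by
      rintro rfl
      exact h3 htd
    omega
  exact ⟨r, s, hr.2.1, hs.2.1, hrs, hr.2.2.1, hs.2.2.1,
    F.away S hna 3 r Nat.prime_three (by decide) h3 hr.2.1 (hlt r hr.1 hr.2.1 hr.2.2.1),
    F.away S hna 3 s Nat.prime_three (by decide) h3 hs.2.1 (hlt s hs.1 hs.2.1 hs.2.2.1)⟩

end Cfsg.Agent.H586.GW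
end

-- part: H586/GW/CompT
section
/-!
# Gluck-Wolf: no component, the quotient theorem
-/

set_option autoImplicit false
set_option linter.style.haveILetI false
set_option linter.unusedSectionVars false

namespace Cfsg.Agent.H586.GW

open MulAction Cfsg.Agent.Lib.MinNormalNonabelian Cfsg.Agent.Lib.MinNormal
open scoped commutatorElement

universe v

section
variable {Q : Type v} [Group Q] [Finite Q] {p : ℕ} [hp : Fact p.Prime] {K R Z : Subgroup Q}

theorem not_mulComm_of_centerless {T : Subgroup Q} (hs : IsSimpleGroup T)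
    (hc : ∀ z ∈ T, (∀ t ∈ T, Commute z t) → z = 1) : ¬ IsMulCommutative T := by
  intro h
  obtain ⟨z, hz⟩ := exists_ne (1 : T)
  apply hz
  apply Subtype.ext
  apply hc z z.2
  intro t ht
  exact congrArg Subtype.val (h.is_comm.comm z ⟨t, ht⟩)

/-- Several factors. -/
theorem multi_case (F : SimpleFacts.{v}) (h3513 : S3513Stmt) (hp2 : p ≠ 2) (hK : K.Normal) (hidx : K.index = p)
    (hcop : ¬ p ∣ Nat.card K) (hRn : R.Normal) (hRK : R ≤ K)
    (hmin : ∀ M : Subgroup Q, M.Normal → M ≤ R → M = ⊥ ∨ M = R)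
    (hna : ¬ ∀ x ∈ R, ∀ y ∈ R, Commute x y) (hZ : Z ≤ Subgroup.center Q)
    (gen : ∀ M : Subgroup Q, M.Normal → Z ≤ M → ¬ M ≤ K → M = ⊤) (w : ℕ)
    (key : ∀ e ∈ R, ∀ d : ℕ, e ^ d = 1 → d.Coprime w → ∃ g : Q, g ∉ K ∧ Commute g e)
    (haw : ∀ r : ℕ, r.Prime → ∀ T ∈ minSet R, H878.Away.{v} r T → ¬ r ∣ w)
    {T₀ : Subgroup Q} (hT₀ : T₀ ∈ minSet R) (hne : Subgroup.normalizer (T₀ : Set Q) ≠ ⊤) : False := by
  classical
  obtain ⟨-, hind, hsup, hsimp, hcl, hconj⟩ := nonabelian_structure R hmin hna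
  have hcardT : ∀ T ∈ minSet R, Nat.card T = Nat.card T₀ := by
    intro T hT
    obtain ⟨g, hg⟩ := hconj T₀ hT₀ T hT
    rw [hg]
    exact Subgroup.card_map_of_injective (MulAut.conj g).injective
  haveI := hsimp T₀ hT₀
  have hnaT := not_mulComm_of_centerless (hsimp T₀ hT₀) (hcl T₀ hT₀)
  -- the maximal subgroup
  obtain ⟨M, hM, hNM⟩ : ∃ M : Subgroup Q, IsCoatom M ∧ Subgroup.normalizer (T₀ : Set Q) ≤ M := by
    rcases eq_top_or_exists_le_coatom (Subgroup.normalizer (T₀ : Set Q)) with h | h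
    · exact absurd h hne
    · exact h
  have hZT : ∀ z ∈ Z, ∀ g : Q, z * g = g * z := fun z hz g => (Subgroup.mem_center_iff.1 (hZ hz) g).symm
  have hZM : Z ≤ M := by
    refine le_trans ?_ hNM
    intro z hz
    rw [Subgroup.mem_normalizer_iff]
    intro h
    have : z * h * z⁻¹ = h := by rw [hZT z hz h]; group
    rw [this]
  have hcore : M.normalCore ≤ K := by
    by_contra hcon
    have h1 : M.normalCore = ⊤ := by
      apply gen _ inferInstance _ hcon
      intro z hz g
      have : g * z * g⁻¹ = z := by rw [← hZT z hz g]; group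
      rw [this]
      exact hZM hz
    apply hM.1
    rw [eq_top_iff, ← h1]
    exact M.normalCore_le
  -- the map
  have hg0 : ∀ T : Subgroup Q, ∃ g : Q, T ∈ minSet R → T = T₀.map (MulAut.conj g).toMonoidHom := by
    intro T
    by_cases hT : T ∈ minSet R
    · obtain ⟨g, hg⟩ := hconj T₀ hT₀ T hT
      exact ⟨g, fun _ => hg⟩
    · exact ⟨1, fun h => absurd h hT⟩
  choose gT hgT using hg0
  let f : Subgroup Q → Q ⧸ M := fun T => QuotientGroup.mk (gT T)
  have hf : ∀ T ∈ minSet R, ∀ h : Q, f (T.map (MulAut.conj h).toMonoidHom) = h • f T := by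
    intro T hT h
    have h1 := hgT _ (map_conj_mem_minSet hT h)
    have h2 := hgT T hT
    change (QuotientGroup.mk _ : Q ⧸ M) = QuotientGroup.mk (h * gT T)
    rw [QuotientGroup.eq]
    apply hNM
    set a := gT (T.map (MulAut.conj h).toMonoidHom) with ha
    set b := gT T with hb
    -- `T₀^(a) = h T h⁻¹ = (h b) T₀ (h b)⁻¹`
    have h3 : T₀.map (MulAut.conj a).toMonoidHom = T₀.map (MulAut.conj (h * b)).toMonoidHom := by
      rw [← h1]
      conv_lhs => rw [h2]
      rw [map_conj_map_conj]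
    rw [Subgroup.mem_normalizer_iff_map_conj_eq]
    have h4 : T₀.map (MulAut.conj (a⁻¹ * (h * b))).toMonoidHom =
        (T₀.map (MulAut.conj (h * b)).toMonoidHom).map (MulAut.conj a⁻¹).toMonoidHom := by
      rw [map_conj_map_conj]
    change T₀.map (MulAut.conj (a⁻¹ * (h * b))).toMonoidHom = T₀
    rw [h4, ← h3, map_conj_map_conj, inv_mul_cancel]
    ext x
    simp only [Subgroup.mem_map, _root_.map_one, _root_.MulEquiv.toMonoidHom_eq_coe, _root_.Subgroup.mem_map, _root_.MonoidHom.coe_coe, _root_.MulAut.one_apply, _root_.exists_eq_right]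
  have hfsurj : ∀ b : Q ⧸ M, ∃ T ∈ minSet R, f T = b := by
    intro b
    obtain ⟨h, rfl⟩ := QuotientGroup.mk_surjective b
    refine ⟨T₀.map (MulAut.conj (h * (gT T₀)⁻¹)).toMonoidHom, map_conj_mem_minSet hT₀ _, ?_⟩
    rw [hf T₀ hT₀]
    change (QuotientGroup.mk (h * (gT T₀)⁻¹ * gT T₀) : Q ⧸ M) = _
    rw [inv_mul_cancel_right]
  -- stabilisers of colourings
  have hcol : ∀ (Δ : Set (Q ⧸ M)) (e g : Q), (∀ T ∈ minSet R,
      (T ∈ {T | T ∈ minSet R ∧ f T ∈ Δ} ↔ ¬ ∀ t ∈ T, Commute e t)) → Commute g e → ∀ b, g • b ∈ Δ ↔ b ∈ Δ := by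
    intro Δ e g he hg b
    obtain ⟨T, hT, rfl⟩ := hfsurj b
    have h1 := supp_conj he hg hT
    simp only [Set.mem_ofPred_eq] at h1
    have h2 := map_conj_mem_minSet hT g
    rw [hf T hT g] at h1
    (clear * - hT h1 h2; tauto)
  have hrp : ∀ r : ℕ, r.Prime → r ∣ Nat.card T₀ → ∀ T ∈ minSet R, ∃ a ∈ T, a ≠ 1 ∧ a ^ r = 1 := by
    intro r hr hrT T hT
    exact exists_order_elem hr (by rw [hcardT T hT]; exact hrT)
  haveI : Nontrivial (Q ⧸ M) := by
    obtain ⟨g, hg⟩ : ∃ g : Q, g ∉ M := by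
      by_contra hcon
      push Not at hcon
      exact hM.1 (by rw [eq_top_iff]; exact fun x _ => hcon x)
    refine ⟨QuotientGroup.mk g, QuotientGroup.mk 1, fun h => hg ?_⟩
    have h1 := (QuotientGroup.eq.1 h)
    simpa using h1
  have hprim : IsPreprimitive Q (Q ⧸ M) := by
    rw [← isCoatom_stabilizer_iff_preprimitive (G := Q) (X := Q ⧸ M) (QuotientGroup.mk 1 : Q ⧸ M)]
    have h1 : stabilizer Q ((1 : Q) : Q ⧸ M) = M := MulAction.stabilizer_quotient M
    rw [h1]
    exact hM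
  have hsupR : ∀ S : Set (Subgroup Q), S ⊆ minSet R → sSup S ≤ R := fun S hS => sSup_le fun T hT => (hS hT).1
  refine colour_false (B := Q ⧸ M) h3513 hp2 hprim hK hidx hcop ?_ ?_ ?_
  · intro g hg
    apply hcore
    intro b
    have h1 : g • (QuotientGroup.mk b⁻¹ : Q ⧸ M) = QuotientGroup.mk b⁻¹ := hg _
    have h2 : (QuotientGroup.mk (g * b⁻¹) : Q ⧸ M) = QuotientGroup.mk b⁻¹ := h1
    rw [eq_comm, QuotientGroup.eq] at h2
    simpa [mul_assoc] using h2
  · intro Δ
    obtain ⟨r, hr, hrT, hrA⟩ := F.exists_away T₀ hnaT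
    have hrw := haw r hr T₀ hT₀ hrA
    obtain ⟨e, heS, her, he⟩ := supp_elem hind hcl (hrp r hr hrT) {T | T ∈ minSet R ∧ f T ∈ Δ} (fun T hT => hT.1)
    obtain ⟨g, hgK, hge⟩ := key e (hsupR _ (fun T hT => hT.1) heS) r her
      ((Nat.Prime.coprime_iff_not_dvd hr).2 hrw)
    exact ⟨g, hgK, hcol Δ e g he hge⟩
  · intro hp3 b c d hbc hbd hcd
    subst hp3
    have h3T : ¬ 3 ∣ Nat.card T₀ := fun h =>
      hcop (h.trans (Subgroup.card_dvd_of_le (hT₀.1.trans hRK)))
    obtain ⟨r, s, hr, hs, hrs, hrT, hsT, hrA, hsA⟩ := exists_two_primes F T₀ hnaT h3T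
    have hrw := haw r hr T₀ hT₀ hrA
    have hsw := haw s hs T₀ hT₀ hsA
    obtain ⟨e, heS, her, he⟩ := supp_elem hind hcl (hrp r hr hrT) {T | T ∈ minSet R ∧ f T ∈ ({b} : Set (Q ⧸ M))}
      (fun T hT => hT.1)
    obtain ⟨e', heS', her', he'⟩ := supp_elem hind hcl (hrp s hs hsT)
      {T | T ∈ minSet R ∧ f T ∈ ({c, d} : Set (Q ⧸ M))} (fun T hT => hT.1)
    have hcomm : Commute e e' := by
      have h1 : sSup {T | T ∈ minSet R ∧ f T ∈ ({c, d} : Set (Q ⧸ M))} ≤ Subgroup.centralizer {e} := by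
        refine sSup_le fun T hT => ?_
        intro t ht
        rw [Subgroup.mem_centralizer_singleton_iff]
        refine (sSup_commute hind (S := {T | T ∈ minSet R ∧ f T ∈ ({b} : Set (Q ⧸ M))}) (fun T hT => hT.1)
          hT.1 ?_ heS ht).eq.symm
        rintro ⟨-, h2⟩
        have h3 := hT.2
        simp only [Set.mem_singleton_iff, Set.mem_insert_iff] at h2 h3
        rcases h3 with h3 | h3
        · exact hbc (h2.symm.trans h3)
        · exact hbd (h2.symm.trans h3)
      exact (Subgroup.mem_centralizer_singleton_iff.1 (h1 heS')).symm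
    obtain ⟨g, hgK, hge⟩ := key (e * e') (R.mul_mem (hsupR _ (fun T hT => hT.1) heS)
      (hsupR _ (fun T hT => hT.1) heS')) (r * s) (by
        rw [hcomm.mul_pow, pow_mul, her, one_pow, mul_comm r s, pow_mul, her', one_pow, one_mul])
      (Nat.Coprime.mul_left ((Nat.Prime.coprime_iff_not_dvd hr).2 hrw)
        ((Nat.Prime.coprime_iff_not_dvd hs).2 hsw))
    have hrs' : r.Coprime s := (Nat.coprime_primes hr hs).2 hrs
    have hce : Commute g e := by
      obtain ⟨n, hn1, hn2⟩ := Nat.chineseRemainder hrs' 1 0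
      have h1 : (e * e') ^ n = e := by
        rw [hcomm.mul_pow]
        have h2 : e ^ n = e := by
          have h3 : n ≡ 1 [MOD orderOf e] := hn1.of_dvd (orderOf_dvd_of_pow_eq_one her)
          rw [← pow_eq_pow_iff_modEq, pow_one] at h3
          exact h3
        have h4 : e' ^ n = 1 := by
          rw [← orderOf_dvd_iff_pow_eq_one]
          exact (orderOf_dvd_of_pow_eq_one her').trans ((Nat.modEq_zero_iff_dvd).1 hn2)
        rw [h2, h4, mul_one]
      rw [← h1]
      exact hge.pow_right n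
    have hce' : Commute g e' := by
      have h1 : Commute g (e⁻¹ * (e * e')) := hce.inv_right.mul_right hge
      simpa using h1
    have hb := hcol {b} e g he hce
    have hcd' := hcol {c, d} e' g he' hce'
    refine ⟨g, hgK, ?_, ?_, ?_⟩
    · simpa using (hb b).2 (by simp)
    · simpa using (hcd' c).2 (by simp)
    · simpa using (hcd' d).2 (by simp)

end

end Cfsg.Agent.H586.GW
end

-- part: H586/GW/CompF
section
/-!
# Gluck-Wolf: the core situation has no component
-/

set_option autoImplicit false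
set_option linter.style.haveILetI false
set_option linter.unusedSectionVars false

namespace Cfsg.Agent.H586.GW

open MulAction Cfsg.Agent.Lib.MinNormalNonabelian Cfsg.Agent.Lib.MinNormal
open scoped commutatorElement

universe v

section
variable {Q : Type v} [Group Q] [Finite Q] {p : ℕ} [hp : Fact p.Prime] {K R Z : Subgroup Q}

/-- The quotient theorem. -/
theorem quot_false (F : SimpleFacts.{v}) (h3513 : S3513Stmt) (hK : K.Normal) (hidx : K.index = p)
    (hcop : ¬ p ∣ Nat.card K) (hRn : R.Normal) (hRK : R ≤ K)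
    (hmin : ∀ M : Subgroup Q, M.Normal → M ≤ R → M = ⊥ ∨ M = R)
    (hna : ¬ ∀ x ∈ R, ∀ y ∈ R, Commute x y) (hZ : Z ≤ Subgroup.center Q)
    (gen : ∀ M : Subgroup Q, M.Normal → Z ≤ M → ¬ M ≤ K → M = ⊤) (w : ℕ)
    (key : ∀ e ∈ R, ∀ d : ℕ, e ^ d = 1 → d.Coprime w → ∃ g : Q, g ∉ K ∧ Commute g e)
    (haw : ∀ r : ℕ, r.Prime → ∀ T ∈ minSet R, H878.Away.{v} r T → ¬ r ∣ w) : False := by
  obtain ⟨⟨T₀, hT₀⟩, hind, hsup, hsimp, hcl, hconj⟩ := nonabelian_structure R hmin hna
  haveI := hsimp T₀ hT₀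
  have hnaT := not_mulComm_of_centerless (hsimp T₀ hT₀) (hcl T₀ hT₀)
  have hp2 : p ≠ 2 := by
    rintro rfl
    exact hcop ((F.even T₀ hnaT).trans (Subgroup.card_dvd_of_le (hT₀.1.trans hRK)))
  by_cases hne : Subgroup.normalizer (T₀ : Set Q) = ⊤
  · have hn : T₀.Normal := Subgroup.normalizer_eq_top_iff.1 hne
    have hTR : T₀ = R := by
      rcases hmin T₀ hn hT₀.1 with h | h
      · exact absurd h hT₀.2.1
      · exact h
    subst hTR
    exact simple_case F hp2 hK hidx hcop hn hRK inferInstance hna hZ gen w key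
      (fun r hr h => haw r hr _ hT₀ h)
  · exact multi_case F h3513 hp2 hK hidx hcop hRn hRK hmin hna hZ gen w key haw hT₀ hne

end

section kernel
variable {H : Type v} [Group H]

/-- Commutators of a central product. -/
theorem commutator_sup_le {A W : Subgroup H} [W.Normal] (hW : ∀ w ∈ W, ∀ x ∈ A ⊔ W, Commute w x) :
    ⁅A ⊔ W, A ⊔ W⁆ ≤ ⁅A, A⁆ := by
  rw [Subgroup.commutator_le]
  intro x hx y hy
  obtain ⟨a, ha, w, hw, rfl⟩ := (Subgroup.mem_sup_of_normal_right).1 hx
  obtain ⟨b, hb, z, hz, rfl⟩ := (Subgroup.mem_sup_of_normal_right).1 hy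
  have haW : a ∈ A ⊔ W := (le_sup_left : A ≤ A ⊔ W) ha
  have hbW : b ∈ A ⊔ W := (le_sup_left : A ≤ A ⊔ W) hb
  have hzW : z ∈ A ⊔ W := (le_sup_right : W ≤ A ⊔ W) hz
  have h1 : Commute w a := hW w hw a haW
  have h2 : Commute w b := hW w hw b hbW
  have h3 : Commute z a := hW z hz a haW
  have h4 : Commute z b := hW z hz b hbW
  have h5 : Commute w z := hW w hw z hzW
  have h6 : ⁅a * w, b * z⁆ = ⁅a, b⁆ := by
    rw [commutatorElement_def, commutatorElement_def, mul_inv_rev, mul_inv_rev]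
    calc a * w * (b * z) * (w⁻¹ * a⁻¹) * (z⁻¹ * b⁻¹)
        = a * (w * b) * z * w⁻¹ * a⁻¹ * z⁻¹ * b⁻¹ := by group
      _ = a * (b * w) * z * w⁻¹ * a⁻¹ * z⁻¹ * b⁻¹ := by rw [h2.eq]
      _ = a * b * (w * z) * w⁻¹ * a⁻¹ * z⁻¹ * b⁻¹ := by group
      _ = a * b * (z * w) * w⁻¹ * a⁻¹ * z⁻¹ * b⁻¹ := by rw [h5.eq]
      _ = a * b * (z * a⁻¹) * z⁻¹ * b⁻¹ := by group
      _ = a * b * (a⁻¹ * z) * z⁻¹ * b⁻¹ := by rw [h3.inv_right.eq]
      _ = a * b * a⁻¹ * b⁻¹ := by group
  rw [h6]
  exact Subgroup.commutator_mem_commutator ha hb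

/-- The centre of a perfect group `R` with `R / W` a direct product of conjugate simple groups away from `r` is an
`r'`-group. -/
theorem away_kernel [Finite H] {R W : Subgroup H} [hWn : W.Normal] (hWR : W ≤ R)
    (hWc : ∀ w ∈ W, ∀ x ∈ R, Commute w x) (hR : ⁅R, R⁆ = R)
    (hind : sSupIndep (minSet (R.map (QuotientGroup.mk' W))))
    (hsup : sSup (minSet (R.map (QuotientGroup.mk' W))) = R.map (QuotientGroup.mk' W))
    (hsimp : ∀ T ∈ minSet (R.map (QuotientGroup.mk' W)), IsSimpleGroup T)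
    (hcl : ∀ T ∈ minSet (R.map (QuotientGroup.mk' W)), ∀ z ∈ T, (∀ t ∈ T, Commute z t) → z = 1)
    (hconj : ∀ S ∈ minSet (R.map (QuotientGroup.mk' W)), ∀ T ∈ minSet (R.map (QuotientGroup.mk' W)),
      ∃ g : H ⧸ W, T = S.map (MulAut.conj g).toMonoidHom)
    {r : ℕ} (hr : r.Prime) {T₀ : Subgroup (H ⧸ W)} (hT₀ : T₀ ∈ minSet (R.map (QuotientGroup.mk' W)))
    (haw : H878.Away.{v} r T₀) : ¬ r ∣ Nat.card W := by
  classical
  haveI : Fact r.Prime := ⟨hr⟩
  obtain ⟨m, hm, hrm⟩ := haw
  let π : H →* H ⧸ W := QuotientGroup.mk' W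
  set Rb := R.map (QuotientGroup.mk' W) with hRb
  have hker : π.ker = W := QuotientGroup.ker_mk' W
  let L : Subgroup (H ⧸ W) → Subgroup H := fun T => ⁅T.comap π, T.comap π⁆
  have hcomapR : Rb.comap π = R := by
    rw [hRb, Subgroup.comap_map_eq, hker, sup_eq_left.2 hWR]
  have hWT : ∀ T : Subgroup (H ⧸ W), W ≤ T.comap π := by
    intro T w hw
    rw [Subgroup.mem_comap]
    have : π w = 1 := by rw [← MonoidHom.mem_ker, hker]; exact hw
    rw [this]
    exact T.one_mem
  have hTR : ∀ T ∈ minSet Rb, T.comap π ≤ R := by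
    intro T hT
    rw [← hcomapR]
    exact Subgroup.comap_mono hT.1
  have hLR : ∀ T ∈ minSet Rb, L T ≤ R := fun T hT => (Subgroup.commutator_le_self _).trans (hTR T hT)
  have hTperf : ∀ T ∈ minSet Rb, ⁅T, T⁆ = T := by
    intro T hT
    haveI := hsimp T hT
    have hna := not_mulComm_of_centerless (hsimp T hT) (hcl T hT)
    have h1 : commutator T = ⊤ := by
      rcases (inferInstance : (commutator T).Normal).eq_bot_or_eq_top with h | h
      · exfalso
        apply hna
        refine ⟨⟨fun a b => ?_⟩⟩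
        have h2 : ⁅a, b⁆ ∈ commutator T := Subgroup.commutator_mem_commutator (Subgroup.mem_top a) (Subgroup.mem_top b)
        rw [h, Subgroup.mem_bot, commutatorElement_eq_one_iff_mul_comm] at h2
        exact h2
      · exact h
    rw [← Subgroup.map_subtype_commutator, h1, ← MonoidHom.range_eq_map, Subgroup.range_subtype]
  have hLmap : ∀ T ∈ minSet Rb, (L T).map π = T := by
    intro T hT
    change (⁅T.comap π, T.comap π⁆ : Subgroup H).map π = T
    rw [Subgroup.map_commutator, Subgroup.map_comap_eq_self_of_surjective (QuotientGroup.mk'_surjective W), hTperf T hT]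
  have hLW : ∀ T ∈ minSet Rb, T.comap π = L T ⊔ W := by
    intro T hT
    conv_lhs => rw [← hLmap T hT]
    rw [Subgroup.comap_map_eq, hker]
  have hLperf : ∀ T ∈ minSet Rb, ⁅L T, L T⁆ = L T := by
    intro T hT
    apply le_antisymm (Subgroup.commutator_le_self _)
    calc L T = ⁅L T ⊔ W, L T ⊔ W⁆ := by
          change ⁅T.comap π, T.comap π⁆ = _
          rw [hLW T hT]
      _ ≤ ⁅L T, L T⁆ := commutator_sup_le (by
          intro w hw x hx
          rw [← hLW T hT] at hx
          exact hWc w hw x (hTR T hT hx))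
  have hLz : ∀ T ∈ minSet Rb, ∀ z ∈ L T, z ∈ W → z ^ m = 1 := by
    intro T hT z hz hzW
    obtain ⟨g, hg⟩ := hconj T₀ hT₀ T hT
    have e : T ≃* T₀ := by
      rw [hg]
      exact (T₀.equivMapOfInjective _ (MulAut.conj g).injective).symm
    have hmT : H878.KerExp.{v} m T := hm.congr e
    let f : L T →* T :=
      { toFun := fun x => ⟨π x, by
          have h1 : π x ∈ (L T).map π := ⟨x, x.2, rfl⟩
          rwa [hLmap T hT] at h1⟩
        map_one' := Subtype.ext (map_one π)
        map_mul' := fun a b => Subtype.ext (map_mul π _ _) }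
    have hf : Function.Surjective f := by
      rintro ⟨t, ht⟩
      rw [← hLmap T hT] at ht
      obtain ⟨x, hx, hxt⟩ := ht
      exact ⟨⟨x, hx⟩, Subtype.ext hxt⟩
    have hfk : ∀ x : L T, x ∈ f.ker ↔ (x : H) ∈ W := by
      intro x
      have hxW : (x : H) ∈ W ↔ π x = 1 := by rw [← MonoidHom.mem_ker, hker]
      rw [MonoidHom.mem_ker, hxW]
      constructor
      · intro h
        exact congrArg Subtype.val h
      · intro h
        exact Subtype.ext h
    have hfc : f.ker ≤ Subgroup.center (L T) := by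
      intro x hx
      rw [Subgroup.mem_center_iff]
      intro y
      exact Subtype.ext (hWc x ((hfk x).1 hx) y (hLR T hT y.2)).eq.symm
    have hLc : commutator (L T) = ⊤ := by
      have h1 := hLperf T hT
      have h2 : (commutator (L T)).map (L T).subtype = (⊤ : Subgroup (L T)).map (L T).subtype := by
        rw [Subgroup.map_subtype_commutator, h1, ← MonoidHom.range_eq_map, Subgroup.range_subtype]
      exact Subgroup.map_injective (L T).subtype_injective h2
    have h3 := hmT (L T) f hf hfc hLc ⟨z, hz⟩ ((hfk _).2 hzW)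
    exact congrArg Subtype.val h3
  have hLnorm : ∀ T ∈ minSet Rb, R ≤ Subgroup.normalizer ((L T : Subgroup H) : Set H) := by
    intro T hT x hx
    have h1 : π x ∈ Subgroup.normalizer (T : Set (H ⧸ W)) := hT.2.2.1 ⟨x, hx, rfl⟩
    rw [Subgroup.mem_normalizer_iff_map_conj_eq] at h1 ⊢
    have h2 : (T.comap π).map (MulAut.conj x).toMonoidHom = T.comap π := by
      apply le_antisymm
      · rintro _ ⟨y, hy, rfl⟩
        change π (x * y * x⁻¹) ∈ T
        rw [map_mul, map_mul, map_inv]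
        have h3 : π x * π y * (π x)⁻¹ ∈ T.map (MulAut.conj (π x)).toMonoidHom := ⟨π y, hy, rfl⟩
        have h4 : T.map (MulAut.conj (π x)).toMonoidHom = T := h1
        rwa [h4] at h3
      · intro y hy
        have h4 : T.map (MulAut.conj (π x)).toMonoidHom = T := h1
        have hy' : π y ∈ T.map (MulAut.conj (π x)).toMonoidHom := by rw [h4]; exact hy
        obtain ⟨t, ht, hty⟩ := hy'
        have hty' : π x * t * (π x)⁻¹ = π y := hty
        refine ⟨x⁻¹ * y * x, ?_, ?_⟩
        · change π (x⁻¹ * y * x) ∈ T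
          rw [map_mul, map_mul, map_inv, ← hty']
          have : (π x)⁻¹ * (π x * t * (π x)⁻¹) * π x = t := by group
          rw [this]
          exact ht
        · change x * (x⁻¹ * y * x) * x⁻¹ = y
          group
    change (⁅T.comap π, T.comap π⁆ : Subgroup H).map (MulAut.conj x).toMonoidHom = _
    rw [Subgroup.map_commutator, h2]
  -- partial products
  have hpart : ∀ S : Set (Subgroup (H ⧸ W)), S.Finite → S ⊆ minSet Rb →
      ∀ z ∈ (⨆ T ∈ S, L T), z ∈ W → z ^ m = 1 := by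
    intro S hfin
    induction S, hfin using Set.Finite.induction_on with
    | empty =>
      intro _ z hz _
      simp only [Set.mem_empty_iff_false, not_false_eq_true, iSup_neg, iSup_bot, Subgroup.mem_bot] at hz
      rw [hz, one_pow]
    | @insert T₁ S hT₁ _ ih =>
      intro hS z hz hzW
      have hS' : S ⊆ minSet Rb := (Set.subset_insert _ _).trans hS
      have hT₁m : T₁ ∈ minSet Rb := hS (Set.mem_insert _ _)
      rw [iSup_insert] at hz
      have hnorm : L T₁ ≤ Subgroup.normalizer (((⨆ T ∈ S, L T : Subgroup H)) : Set H) := by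
        refine (hLR T₁ hT₁m).trans ?_
        intro x hx
        rw [Subgroup.mem_normalizer_iff_map_conj_eq, Subgroup.map_iSup]
        refine iSup_congr fun T => ?_
        rw [Subgroup.map_iSup]
        refine iSup_congr fun hT => ?_
        exact Subgroup.mem_normalizer_iff_map_conj_eq.1 (hLnorm T (hS' hT) hx)
      have hz' : z ∈ ((L T₁ ⊔ (⨆ T ∈ S, L T) : Subgroup H) : Set H) := hz
      rw [Subgroup.coe_mul_of_left_le_normalizer_right _ _ hnorm] at hz'
      obtain ⟨l, hl, y, hy, rfl⟩ := hz'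
      -- mod `W`
      have hπy : π y ∈ sSup S := by
        have h1 : (⨆ T ∈ S, L T) ≤ (sSup S).comap π := by
          refine iSup₂_le fun T hT => ?_
          rw [← Subgroup.map_le_iff_le_comap, hLmap T (hS' hT)]
          exact le_sSup hT
        exact h1 hy
      have hπl : π l ∈ T₁ := by
        have h1 : π l ∈ (L T₁).map π := ⟨l, hl, rfl⟩
        rwa [hLmap T₁ hT₁m] at h1
      have hπ1 : π l * π y = 1 := by
        have h1 : l * y ∈ π.ker := by rw [hker]; exact hzW
        rw [MonoidHom.mem_ker, map_mul] at h1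
        exact h1
      have hπl1 : π l = 1 := by
        have h1 : Disjoint T₁ (sSup (minSet Rb \ {T₁})) := hind hT₁m
        have h2 : sSup S ≤ sSup (minSet Rb \ {T₁}) := sSup_le_sSup fun T hT =>
          ⟨hS' hT, fun h => hT₁ (by rw [← (Set.mem_singleton_iff.1 h)]; exact hT)⟩
        have h3 : π l ∈ sSup (minSet Rb \ {T₁}) := by
          have h4 : π l = (π y)⁻¹ := eq_inv_of_mul_eq_one_left hπ1
          rw [h4]
          exact Subgroup.inv_mem _ (h2 hπy)
        exact Subgroup.disjoint_def.1 h1 hπl h3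
      have hlW : l ∈ W := by rw [← hker, MonoidHom.mem_ker]; exact hπl1
      have hyW : y ∈ W := by
        rw [← hker, MonoidHom.mem_ker]
        rw [hπl1, one_mul] at hπ1
        exact hπ1
      have hc : Commute l y := hWc l hlW y (hWR hyW)
      rw [hc.mul_pow, hLz T₁ hT₁m l hl hlW, ih hS' y hy hyW, one_mul]
  -- `R` is the product of all of them
  have hRL : R ≤ ⨆ T ∈ minSet Rb, L T := by
    have h1 : R ≤ (⨆ T ∈ minSet Rb, L T) ⊔ W := by
      have h2 : ((⨆ T ∈ minSet Rb, L T).map π).comap π = (⨆ T ∈ minSet Rb, L T) ⊔ W := by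
        rw [Subgroup.comap_map_eq, hker]
      rw [← h2]
      have h3 : (⨆ T ∈ minSet Rb, L T).map π = Rb := by
        rw [Subgroup.map_iSup]
        conv_rhs => rw [← hsup, sSup_eq_iSup]
        refine iSup_congr fun T => ?_
        rw [Subgroup.map_iSup]
        refine iSup_congr fun hT => ?_
        exact hLmap T hT
      rw [h3, hcomapR]
    have h4 : (⨆ T ∈ minSet Rb, L T) ⊔ W ≤ R := sup_le (iSup₂_le fun T hT => hLR T hT) hWR
    calc R = ⁅R, R⁆ := hR.symm
      _ ≤ ⁅(⨆ T ∈ minSet Rb, L T) ⊔ W, (⨆ T ∈ minSet Rb, L T) ⊔ W⁆ := Subgroup.commutator_mono h1 h1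
      _ ≤ ⁅(⨆ T ∈ minSet Rb, L T), (⨆ T ∈ minSet Rb, L T)⁆ := commutator_sup_le
          (fun w hw x hx => hWc w hw x (h4 hx))
      _ ≤ _ := Subgroup.commutator_le_self _
  intro hrW
  obtain ⟨w, hw⟩ := exists_prime_orderOf_dvd_card' r hrW
  have h1 : (w : H) ^ m = 1 := hpart _ (Set.toFinite _) subset_rfl w (hRL (hWR w.2)) w.2
  have h2 : orderOf (w : H) = r := by rw [Subgroup.orderOf_coe]; exact hw
  exact hrm (h2 ▸ orderOf_dvd_of_pow_eq_one h1)

end kernel

section final
variable {p r : ℕ} [hp : Fact p.Prime] {H : Type v} {V : Type*} [Group H] [Finite H] [AddCommGroup V] [Finite V]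
  [DistribMulAction H V] {K N : Subgroup H} {φ : N →* ℂˣ}

/-- An element of `R` of order prime to the order of `Z(R)` commutes with an element outside `K`. -/
theorem Core.exists_commute (C : Core (V := V) p r K N φ) {R W : Subgroup H} (hRn : R.Normal) (hRK : R ≤ K)
    (hW : ∀ x, x ∈ W ↔ x ∈ R ∧ ∀ y ∈ R, Commute x y) {c : H} (hc : c ∈ R) {d : ℕ} (hcd : c ^ d = 1)
    (hd : d.Coprime (Nat.card W)) : ∃ g : H, g ∉ K ∧ Commute g c := by
  obtain ⟨h, hh⟩ : ∃ h : H, h ∉ K := by
    by_contra hcon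
    push Not at hcon
    have h1 : K = ⊤ := by rw [eq_top_iff]; exact fun x _ => hcon x
    have h2 := C.idx
    rw [h1, Subgroup.index_top] at h2
    exact hp.out.one_lt.ne h2
  obtain ⟨y, hy, -, hyc⟩ := C.good (0 : V) (hRK hc) (smul_zero c) (by
    intro y _ _ hn
    have hcen : ∀ g : H, g * ⁅c, y⁆ = ⁅c, y⁆ * g := Subgroup.mem_center_iff.1 (C.cen hn)
    have hnR : ⁅c, y⁆ ∈ R := by
      rw [commutatorElement_def]
      have h1 : y * c⁻¹ * y⁻¹ ∈ R := hRn.conj_mem _ (R.inv_mem hc) y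
      have h2 : c * y * c⁻¹ * y⁻¹ = c * (y * c⁻¹ * y⁻¹) := by group
      rw [h2]
      exact R.mul_mem hc h1
    have hnW : ⁅c, y⁆ ∈ W := (hW _).2 ⟨hnR, fun z _ => (hcen z).symm⟩
    have h1 : ⁅c, y⁆ ^ Nat.card W = 1 := by
      have h2 : (⟨⁅c, y⁆, hnW⟩ : W) ^ Nat.card W = 1 := pow_card_eq_one'
      exact congrArg Subtype.val h2
    have h2 : ⁅c, y⁆ ^ d = 1 := by
      have h3 : c = ⁅c, y⁆ * (y * c * y⁻¹) := by rw [commutatorElement_def]; group
      have h4 : Commute ⁅c, y⁆ (y * c * y⁻¹) := (hcen _).symm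
      have h5 : c ^ d = ⁅c, y⁆ ^ d * (y * c * y⁻¹) ^ d := by
        conv_lhs => rw [h3]
        exact h4.mul_pow d
      rw [conj_pow, hcd, mul_one, mul_inv_cancel, mul_one] at h5
      exact h5.symm
    have h3 : orderOf ⁅c, y⁆ ∣ 1 := by
      have := Nat.dvd_gcd (orderOf_dvd_of_pow_eq_one h2) (orderOf_dvd_of_pow_eq_one h1)
      rwa [hd] at this
    exact orderOf_eq_one_iff.1 (Nat.dvd_one.1 h3)) (h := h) (smul_zero h)
  refine ⟨y⁻¹ * h, fun hmem => hh ?_, ?_⟩
  · have := K.mul_mem hy hmem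
    rwa [mul_inv_cancel_left] at this
  · change y⁻¹ * h * c = c * (y⁻¹ * h)
    have h1 : h * c = y * c * y⁻¹ * h := by rw [← hyc]; group
    calc y⁻¹ * h * c = y⁻¹ * (h * c) := by group
      _ = y⁻¹ * (y * c * y⁻¹ * h) := by rw [h1]
      _ = c * (y⁻¹ * h) := by group

/-- The core situation has no component. -/
theorem Core.no_component (F : SimpleFacts.{v}) (h3513 : S3513Stmt) (C : Core (V := V) p r K N φ)
    {R : Subgroup H} (hRn : R.Normal) (hRK : R ≤ K) (hR1 : R ≠ ⊥) (hR : ⁅R, R⁆ = R)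
    (hmin : ∀ M : Subgroup H, M.Normal → M ≤ R → (∀ m ∈ M, ∀ x ∈ R, Commute m x) ∨ M = R) : False := by
  classical
  let W : Subgroup H := R ⊓ Subgroup.centralizer (R : Set H)
  have hWmem : ∀ x, x ∈ W ↔ x ∈ R ∧ ∀ y ∈ R, Commute x y := by
    intro x
    rw [Subgroup.mem_inf, Subgroup.mem_centralizer_iff]
    exact and_congr_right fun _ => ⟨fun h y hy => (h y hy).symm, fun h y hy => (h y hy).eq.symm⟩
  haveI hWn : W.Normal := inferInstance
  have hWR : W ≤ R := inf_le_left
  have hWc : ∀ w ∈ W, ∀ x ∈ R, Commute w x := fun w hw => ((hWmem w).1 hw).2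
  let π : H →* H ⧸ W := QuotientGroup.mk' W
  have hπ : Function.Surjective π := QuotientGroup.mk'_surjective W
  have hker : π.ker = W := QuotientGroup.ker_mk' W
  have hcm : ∀ M : Subgroup H, W ≤ M → (M.map π).comap π = M := by
    intro M hM
    rw [Subgroup.comap_map_eq, hker, sup_eq_left.2 hM]
  have hmc : ∀ M : Subgroup (H ⧸ W), (M.comap π).map π = M := fun M =>
    Subgroup.map_comap_eq_self_of_surjective hπ M
  have hWM : ∀ M : Subgroup (H ⧸ W), W ≤ M.comap π := by
    intro M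
    exact hker.ge.trans (Subgroup.ker_le_comap π M)
  have hKn := C.nK
  have hKbn : (K.map π).Normal := hKn.map π hπ
  have hRbn : (R.map π).Normal := hRn.map π hπ
  have hminb : ∀ M : Subgroup (H ⧸ W), M.Normal → M ≤ R.map π → M = ⊥ ∨ M = R.map π := by
    intro M hM hMR
    have h1 : M.comap π ≤ R := by
      rw [← hcm R hWR]
      exact Subgroup.comap_mono hMR
    rcases hmin (M.comap π) (hM.comap π) h1 with h | h
    · left
      rw [← hmc M, Subgroup.map_eq_bot_iff, hker]
      intro m hm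
      exact (hWmem m).2 ⟨h1 hm, h m hm⟩
    · right
      rw [← h, hmc]
  have hnab : ¬ ∀ x ∈ R.map π, ∀ y ∈ R.map π, Commute x y := by
    intro h
    have h1 : R ≤ W := by
      rw [← hR, Subgroup.commutator_le]
      intro x hx y hy
      rw [← hker, MonoidHom.mem_ker, map_commutatorElement, commutatorElement_eq_one_iff_commute]
      exact h _ ⟨x, hx, rfl⟩ _ ⟨y, hy, rfl⟩
    apply hR1
    rw [← hR, eq_bot_iff, Subgroup.commutator_le]
    intro x hx y hy
    rw [Subgroup.mem_bot, commutatorElement_eq_one_iff_commute]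
    exact hWc x (h1 hx) y hy
  obtain ⟨-, hind, hsup, hsimp, hcl, hconj⟩ := nonabelian_structure (R.map π) hminb hnab
  refine quot_false (Q := H ⧸ W) (p := p) (K := K.map π) (R := R.map π) (Z := N.map π) F h3513 hKbn ?_ ?_ hRbn
    (Subgroup.map_mono hRK) hminb hnab ?_ ?_ (Nat.card W) ?_ ?_
  · rw [Subgroup.index_map_eq K hπ (by rw [hker]; exact hWR.trans hRK)]
    exact C.idx
  · intro h
    exact C.cop (h.trans (Subgroup.card_map_dvd K π))
  · rintro _ ⟨n, hn, rfl⟩
    rw [Subgroup.mem_center_iff]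
    intro g
    obtain ⟨g, rfl⟩ := hπ g
    rw [← map_mul, ← map_mul, Subgroup.mem_center_iff.1 (C.cen hn) g]
  · intro M hM hNM hMK
    have h1 := C.gen (M.comap π) (hM.comap π) (Subgroup.map_le_iff_le_comap.1 hNM) (by
      intro hle
      apply hMK
      rw [← hmc M]
      exact Subgroup.map_mono hle)
    rw [← hmc M, h1, Subgroup.map_top_of_surjective π hπ]
  · intro e he d hed hd
    obtain ⟨c₀, hc₀, rfl⟩ := he
    -- a lift of order dividing `d`
    obtain ⟨n, hn1, hn2⟩ := Nat.chineseRemainder hd 1 0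
    obtain ⟨s, hs⟩ := (Nat.modEq_zero_iff_dvd).1 hn2
    have hc1 : (c₀ ^ n) ^ d = 1 := by
      have h1 : c₀ ^ d ∈ W := by
        rw [← hker, MonoidHom.mem_ker, map_pow]
        exact hed
      have h2 : (c₀ ^ d) ^ Nat.card W = 1 := by
        have h2 : (⟨c₀ ^ d, h1⟩ : W) ^ Nat.card W = 1 := pow_card_eq_one'
        exact congrArg Subtype.val h2
      calc (c₀ ^ n) ^ d = ((c₀ ^ d) ^ Nat.card W) ^ s := by
            rw [← pow_mul, ← pow_mul, ← pow_mul, hs]
            congr 1
            ring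
        _ = 1 := by rw [h2, one_pow]
    obtain ⟨g, hg, hgc⟩ := C.exists_commute hRn hRK hWmem (R.pow_mem hc₀ n) hc1 hd
    refine ⟨π g, ?_, ?_⟩
    · intro h
      apply hg
      rw [← hcm K (hWR.trans hRK)]
      exact h
    · have h1 : π (c₀ ^ n) = π c₀ := by
        rw [map_pow]
        have h3 : n ≡ 1 [MOD orderOf (π c₀)] := hn1.of_dvd (orderOf_dvd_of_pow_eq_one hed)
        rw [← pow_eq_pow_iff_modEq, pow_one] at h3
        exact h3
      rw [← h1]
      exact hgc.map π
  · intro r hr T hT hA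
    exact away_kernel hWR hWc hR hind hsup hsimp hcl hconj hr hT hA

end final

end Cfsg.Agent.H586.GW
end

-- part: H586/GW/NoComp
section
/-!
# Gluck-Wolf: chief factors of the core situation above a central section are abelian
-/

set_option autoImplicit false
set_option linter.style.haveILetI false
set_option linter.unusedSectionVars false

namespace Cfsg.Agent.H586.GW

open MulAction
open scoped commutatorElement

universe v

variable {p r : ℕ} [hp : Fact p.Prime] {H : Type v} {V : Type*} [Group H] [Finite H] [AddCommGroup V] [Finite V]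
  [DistribMulAction H V] {K N : Subgroup H} {φ : N →* ℂˣ}

/-- In the core situation a chief factor `L / Z` of `H` with `L ≤ K` and `Z / N` central in `L / N` is abelian. -/
theorem Core.chief_abelian (F : SimpleFacts.{v}) (h3513 : S3513Stmt) (C : Core (V := V) p r K N φ)
    {L Z : Subgroup H} (hL : L.Normal) (hZ : Z.Normal) (hZL : Z ≤ L) (hLK : L ≤ K) (hZc : ⁅Z, L⁆ ≤ N)
    (hch : ∀ M : Subgroup H, M.Normal → Z ≤ M → M ≤ L → M = Z ∨ M = L) : ⁅L, L⁆ ≤ Z := by
  classical
  by_contra hcon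
  have hLL : ⁅L, L⁆ ⊔ Z = L := by
    rcases hch (⁅L, L⁆ ⊔ Z) inferInstance le_sup_right (sup_le (Subgroup.commutator_le_self L) hZL) with h | h
    · exact absurd (by rw [← h]; exact le_sup_left) hcon
    · exact h
  -- a minimal supplement
  have hfin : {M : Subgroup H | M.Normal ∧ M ≤ L ∧ M ⊔ Z = L}.Finite := Set.toFinite _
  obtain ⟨R, hR⟩ := hfin.exists_minimal ⟨L, hL, le_rfl, sup_eq_left.2 hZL⟩
  have hRn : R.Normal := hR.1.1
  have hRL : R ≤ L := hR.1.2.1
  have hRZ : R ⊔ Z = L := hR.1.2.2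
  have hRmin : ∀ M : Subgroup H, M.Normal → M ≤ R → M ⊔ Z = L → M = R := fun M h1 h2 h3 =>
    le_antisymm h2 (hR.2 ⟨h1, h2.trans hRL, h3⟩ h2)
  let π := QuotientGroup.mk' Z
  have hker : π.ker = Z := QuotientGroup.ker_mk' Z
  have hperf : ⁅R, R⁆ = R := by
    apply hRmin _ inferInstance (Subgroup.commutator_le_self R)
    have h1 : L.map π = R.map π := by
      rw [← hRZ, Subgroup.map_sup]
      have h2 : Z.map π = ⊥ := by
        rw [Subgroup.map_eq_bot_iff, hker]
      rw [h2, sup_bot_eq]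
    have h2 : ⁅L, L⁆ ≤ ⁅R, R⁆ ⊔ Z := by
      have h3 : (⁅L, L⁆).map π = (⁅R, R⁆).map π := by
        rw [Subgroup.map_commutator, Subgroup.map_commutator, h1]
      calc ⁅L, L⁆ ≤ ((⁅L, L⁆).map π).comap π := Subgroup.le_comap_map π _
        _ = ((⁅R, R⁆).map π).comap π := by rw [h3]
        _ = ⁅R, R⁆ ⊔ Z := by rw [Subgroup.comap_map_eq, hker]
    apply le_antisymm
    · exact sup_le ((Subgroup.commutator_le_self R).trans hRL) hZL
    · calc L = ⁅L, L⁆ ⊔ Z := hLL.symm
        _ ≤ ⁅R, R⁆ ⊔ Z := sup_le h2 le_sup_right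
  have hR1 : R ≠ ⊥ := by
    intro h
    rw [h, bot_sup_eq] at hRZ
    exact hcon (by rw [hRZ]; exact Subgroup.commutator_le_self L)
  refine C.no_component F h3513 hRn (hRL.trans hLK) hR1 hperf ?_
  intro M hM hMR
  rcases hch (M ⊔ Z) inferInstance le_sup_right (sup_le (hMR.trans hRL) hZL) with h | h
  · left
    have hMZ : M ≤ Z := by rw [← h]; exact le_sup_left
    have hc1 : ⁅R, M⁆ ≤ Subgroup.center H := by
      rw [Subgroup.commutator_comm]
      exact ((Subgroup.commutator_mono hMZ hRL).trans hZc).trans C.cen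
    have hb1 : ⁅⁅R, M⁆, R⁆ = ⊥ := by
      rw [Subgroup.commutator_eq_bot_iff_le_centralizer]
      exact hc1.trans (Subgroup.center_le_centralizer _)
    have hb2 : ⁅⁅M, R⁆, R⁆ = ⊥ := by
      rw [Subgroup.commutator_comm M R]
      exact hb1
    have hb3 : ⁅⁅R, R⁆, M⁆ = ⊥ := Subgroup.commutator_commutator_eq_bot_of_rotate hb1 hb2
    rw [hperf, Subgroup.commutator_eq_bot_iff_le_centralizer] at hb3
    intro m hm x hx
    exact Subgroup.mem_centralizer_iff.1 (hb3 hx) m hm
  · right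
    exact hRmin M hM hMR h

/-- The form used in the quasi-primitive case. -/
theorem core_nocomp' (F : SimpleFacts.{v}) (h3513 : S3513Stmt) {p r : ℕ} {H : Type v} {V : Type*} [Group H]
    [Finite H] [AddCommGroup V] [Finite V] [DistribMulAction H V] {K N : Subgroup H} {φ : N →* ℂˣ} (hp : p.Prime)
    (C : Core (V := V) p r K N φ) (A L : Subgroup H) (hA : A.Normal) (hL : L.Normal)
    (_hNA : N ≤ A) (hAL : A ≤ L) (hLK : L ≤ K) (hcen : ∀ a ∈ A, ∀ k ∈ K, ⁅a, k⁆ ∈ N)
    (hmin : ∀ M : Subgroup H, M.Normal → A ≤ M → M ≤ L → M = A ∨ M = L) :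
    ∀ a ∈ L, ∀ b ∈ L, ⁅a, b⁆ ∈ A := by
  haveI : Fact p.Prime := ⟨hp⟩
  have h1 := C.chief_abelian F h3513 hL hA hAL hLK (by
    rw [Subgroup.commutator_le]
    intro a ha k hk
    exact hcen a ha k (hLK hk)) hmin
  intro a ha b hb
  exact h1 (Subgroup.commutator_mem_commutator ha hb)

end Cfsg.Agent.H586.GW
end

-- part: H586/GW/SFacts
section
/-!
# Gluck-Wolf: the facts on simple groups
-/

set_option autoImplicit false
set_option linter.style.haveILetI false
set_option linter.unusedSectionVars false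
open Cfsg

namespace Cfsg.Agent.H586.GW

open Cfsg.Agent.H878
open scoped commutatorElement

universe u v

/-- A cyclic Sylow `r`-subgroup. -/
theorem away_of_cyclic {T : Type v} [Group T] [Finite T] (hT : commutator T = ⊤) {r : ℕ} (hr : r.Prime)
    (hcyc : ¬ r ^ 2 ∣ Nat.card T) : Away.{u} r T := by
  haveI : Fact r.Prime := ⟨hr⟩
  have hne : Nat.card T ≠ 0 := Nat.card_pos.ne'
  refine ⟨ordCompl[r] (Nat.card T), ?_, Nat.not_dvd_ordCompl hr hne⟩
  intro C _ _ f hf hc hC z hz
  have h1 : ¬ r ∣ Nat.card f.ker := by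
    refine S0102.result hT ?_ f hf hc hC
    intro P
    have h2 : Nat.card P ∣ r := by
      have h3 := P.card_eq_multiplicity
      rw [h3]
      have h4 : (Nat.card T).factorization r ≤ 1 := by
        by_contra hcon
        push Not at hcon
        exact hcyc ((hr.pow_dvd_iff_le_factorization hne).2 hcon)
      calc r ^ (Nat.card T).factorization r ∣ r ^ 1 := pow_dvd_pow r h4
        _ = r := pow_one r
    rcases (Nat.dvd_prime hr).1 h2 with h | h
    · have : Subsingleton P := (Nat.card_eq_one_iff_unique.1 h).1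
      exact isCyclic_of_subsingleton
    · exact isCyclic_of_prime_card h
  -- the order of `z` divides `|T|`
  have h2 : z ^ Nat.card T = 1 := by
    have h3 : z ∈ (MonoidHom.transferCenterPow C).ker := by
      have h4 : (⊤ : Subgroup C) ≤ (MonoidHom.transferCenterPow C).ker := by
        rw [← hC, commutator_def, Subgroup.commutator_le]
        intro a _ b _
        rw [MonoidHom.mem_ker, map_commutatorElement, commutatorElement_eq_one_iff_commute]
        exact Subtype.ext (Subgroup.mem_center_iff.1 (MonoidHom.transferCenterPow C b).2 _)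
      exact h4 (Subgroup.mem_top z)
    have h5 : z ^ (Subgroup.center C).index = 1 := by
      have h6 : ((MonoidHom.transferCenterPow C z : Subgroup.center C) : C) = 1 := by
        rw [(MonoidHom.mem_ker).1 h3]; rfl
      rwa [MonoidHom.transferCenterPow_apply] at h6
    have h7 : (Subgroup.center C).index ∣ Nat.card T := by
      have h8 : f.ker.index = Nat.card T := by
        rw [Subgroup.index_ker, MonoidHom.range_eq_top.2 hf]
        exact Nat.card_congr Subgroup.topEquiv.toEquiv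
      rw [← h8]
      exact Subgroup.index_dvd_of_le hc
    obtain ⟨k, hk⟩ := h7
    rw [hk, pow_mul, h5, one_pow]
  have h3 : orderOf z ∣ Nat.card f.ker := by
    have := orderOf_dvd_natCard (⟨z, hz⟩ : f.ker)
    rwa [Subgroup.orderOf_mk] at this
  have h4 : (orderOf z).Coprime r := by
    rw [Nat.coprime_comm, Nat.Prime.coprime_iff_not_dvd hr]
    exact fun h => h1 (h.trans h3)
  rw [← orderOf_dvd_iff_pow_eq_one]
  have h5 : orderOf z ∣ r ^ (Nat.card T).factorization r * ordCompl[r] (Nat.card T) := by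
    rw [Nat.ordProj_mul_ordCompl_eq_self]
    exact orderOf_dvd_of_pow_eq_one h2
  exact (Nat.Coprime.pow_right _ h4).dvd_of_dvd_mul_left h5

/-- `PSL_n(q)`. -/
theorem away_psl2 {T : Type v} [Group T] (h : IsPSL T) {r : ℕ} (hr : r.Prime) (h5 : 5 ≤ r)
    (hr2 : r ^ 2 ∣ Nat.card T) : Away.{u} r T ∨
    ∃ (F : Type) (_ : Field F) (_ : Fintype F) (n : ℕ), 2 ≤ n ∧ r ∣ n ∧ r ∣ Fintype.card F - 1 ∧
      Nonempty (T ≃* Matrix.ProjectiveSpecialLinearGroup (Fin n) F) := by
  obtain ⟨F, _, _, n, hn, h2, ⟨e⟩⟩ := h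
  have hc := Nat.card_congr e.toEquiv
  have hS := S0243.result (F := F) rfl n hn
  by_cases hexc : (n, Fintype.card F) ∉ ({(2, 4), (2, 9), (3, 2), (3, 4), (4, 2)} : Set (ℕ × ℕ))
  · by_cases hd : r ∣ Nat.gcd n (Fintype.card F - 1)
    · right
      exact ⟨F, _, _, n, hn, hd.trans (Nat.gcd_dvd_left _ _), hd.trans (Nat.gcd_dvd_right _ _), ⟨e⟩⟩
    · left
      exact (away_cyc' (S2086.result rfl n hn h2 hexc) hd).congr e
  · exfalso
    rw [not_not] at hexc
    simp only [Set.mem_insert_iff, Prod.mk.injEq, Set.mem_singleton_iff] at hexc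
    rw [hc] at hr2
    have h16 : r ^ 2 ∣ ∏ i : Fin n, ((Fintype.card F) ^ n - (Fintype.card F) ^ (i : ℕ)) := by
      rw [← hS]
      exact (hr2.mul_left _).mul_left _
    have key : ∀ N : ℕ, N ∈ [180, 5760, 168, 181440, 20160] → ¬ r ^ 2 ∣ N := by
      intro N hN hdvd
      have hfac : ∀ a b c : ℕ, N = 2 ^ a * 3 ^ b * c → c < 25 ∨ c = 35 → 0 < c → False := by
        intro a b c hab hc25 hc0
        have h2 : Nat.Coprime (r ^ 2) (2 ^ a) :=
          Nat.Coprime.pow _ _ ((Nat.coprime_primes hr Nat.prime_two).2 (by omega))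
        have h3 : Nat.Coprime (r ^ 2) (3 ^ b) :=
          Nat.Coprime.pow _ _ ((Nat.coprime_primes hr Nat.prime_three).2 (by omega))
        have h23 : Nat.Coprime (r ^ 2) (2 ^ a * 3 ^ b) := Nat.Coprime.mul_right h2 h3
        have h4 : 5 ^ 2 ≤ r ^ 2 := Nat.pow_le_pow_left h5 2
        rw [hab] at hdvd
        have h6 := h23.dvd_of_dvd_mul_left hdvd
        have h7 := Nat.le_of_dvd hc0 h6
        rcases hc25 with h | h
        · omega
        · subst h
          have h8 : r < 6 := by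
            by_contra hge
            push Not at hge
            have h9 : 6 ^ 2 ≤ r ^ 2 := Nat.pow_le_pow_left hge 2
            omega
          interval_cases r
          revert h6; decide
      fin_cases hN
      · exact hfac 2 2 5 (by norm_num) (by norm_num) (by norm_num)
      · exact hfac 7 2 5 (by norm_num) (by norm_num) (by norm_num)
      · exact hfac 3 1 7 (by norm_num) (by norm_num) (by norm_num)
      · exact hfac 6 4 35 (by norm_num) (by norm_num) (by norm_num)
      · exact hfac 6 2 35 (by norm_num) (by norm_num) (by norm_num)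
    rcases hexc with ⟨rfl, hq⟩ | ⟨rfl, hq⟩ | ⟨rfl, hq⟩ | ⟨rfl, hq⟩ | ⟨rfl, hq⟩ <;> rw [hq] at h16
    · exact key 180 (by decide) (by simpa only [Fin.prod_univ_succ, _root_.Nat.reducePow, _root_.Fin.isValue, _root_.Fin.coe_ofNat_eq_mod, _root_.Nat.zero_mod, _root_.pow_zero, _root_.Nat.add_one_sub_one, _root_.Finset.univ_unique, _root_.Fin.default_eq_zero, _root_.Fin.val_succ, _root_.Fin.val_eq_zero, _root_.zero_add, _root_.pow_one, _root_.Nat.reduceSub, _root_.Finset.prod_const, _root_.Finset.card_singleton, _root_.Nat.reduceMul] using h16)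
    · exact key 5760 (by decide) (by simpa only [Fin.prod_univ_succ, _root_.Nat.reducePow, _root_.Fin.isValue, _root_.Fin.coe_ofNat_eq_mod, _root_.Nat.zero_mod, _root_.pow_zero, _root_.Nat.add_one_sub_one, _root_.Finset.univ_unique, _root_.Fin.default_eq_zero, _root_.Fin.val_succ, _root_.Fin.val_eq_zero, _root_.zero_add, _root_.pow_one, _root_.Nat.reduceSub, _root_.Finset.prod_const, _root_.Finset.card_singleton, _root_.Nat.reduceMul] using h16)
    · exact key 168 (by decide) (by simpa only [Fin.prod_univ_succ, _root_.Nat.reducePow, _root_.Fin.isValue, _root_.Fin.coe_ofNat_eq_mod, _root_.Nat.zero_mod, _root_.pow_zero, _root_.Nat.add_one_sub_one, _root_.Fin.val_succ, _root_.zero_add, _root_.pow_one, _root_.Nat.reduceSub, _root_.Finset.univ_unique, _root_.Fin.default_eq_zero, _root_.Fin.val_eq_zero, _root_.Nat.reduceAdd, _root_.Finset.prod_const, _root_.Finset.card_singleton, _root_.Nat.reduceMul] using h16)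
    · exact key 181440 (by decide) (by simpa only [Fin.prod_univ_succ, _root_.Nat.reducePow, _root_.Fin.isValue, _root_.Fin.coe_ofNat_eq_mod, _root_.Nat.zero_mod, _root_.pow_zero, _root_.Nat.add_one_sub_one, _root_.Fin.val_succ, _root_.zero_add, _root_.pow_one, _root_.Nat.reduceSub, _root_.Finset.univ_unique, _root_.Fin.default_eq_zero, _root_.Fin.val_eq_zero, _root_.Nat.reduceAdd, _root_.Finset.prod_const, _root_.Finset.card_singleton, _root_.Nat.reduceMul] using h16)
    · exact key 20160 (by decide) (by simpa only [Fin.prod_univ_succ, _root_.Nat.reducePow, _root_.Fin.isValue, _root_.Fin.coe_ofNat_eq_mod, _root_.Nat.zero_mod, _root_.pow_zero, _root_.Nat.add_one_sub_one, _root_.Fin.val_succ, _root_.zero_add, _root_.pow_one, _root_.Nat.reduceSub, _root_.Nat.reduceAdd, _root_.Finset.univ_unique, _root_.Fin.default_eq_zero, _root_.Fin.val_eq_zero, _root_.Finset.prod_const, _root_.Finset.card_singleton, _root_.Nat.reduceMul] using h16)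

theorem psu_exc2 {r : ℕ} (hr : r.Prime) (h5 : 5 ≤ r) {N : ℕ} (hN : N ∈ [77760, 52254720, 82771476480]) :
    ¬ r ^ 2 ∣ N := by
  intro hdvd
  have hfac : ∀ a b c : ℕ, N = 2 ^ a * 3 ^ b * c → (c = 5 ∨ c = 35 ∨ c = 385) → False := by
    intro a b c hab hc
    have h2 : Nat.Coprime (r ^ 2) (2 ^ a) :=
      Nat.Coprime.pow _ _ ((Nat.coprime_primes hr Nat.prime_two).2 (by omega))
    have h3 : Nat.Coprime (r ^ 2) (3 ^ b) :=
      Nat.Coprime.pow _ _ ((Nat.coprime_primes hr Nat.prime_three).2 (by omega))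
    have h23 : Nat.Coprime (r ^ 2) (2 ^ a * 3 ^ b) := Nat.Coprime.mul_right h2 h3
    rw [hab] at hdvd
    have h6 := h23.dvd_of_dvd_mul_left hdvd
    have h7 : r ^ 2 ∣ 385 := by
      rcases hc with h | h | h <;> rw [h] at h6
      · exact h6.trans (by decide)
      · exact h6.trans (by decide)
      · exact h6
    have h8 : r < 20 := by
      by_contra hge
      push Not at hge
      have h9 : 20 ^ 2 ≤ r ^ 2 := Nat.pow_le_pow_left hge 2
      have := Nat.le_of_dvd (by norm_num) h7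
      omega
    interval_cases r <;> revert h7 <;> decide
  fin_cases hN
  · exact hfac 6 5 5 (by norm_num) (by norm_num)
  · exact hfac 11 6 35 (by norm_num) (by norm_num)
  · exact hfac 15 8 385 (by norm_num) (by norm_num)

/-- `PSU_n(q)`. -/
theorem away_psu2 {T : Type v} [Group T] (h : IsPSU T) {r : ℕ} (hr : r.Prime) (h5 : 5 ≤ r)
    (hr2 : r ^ 2 ∣ Nat.card T) : Away.{u} r T ∨
    ∃ (F : Type) (_ : Field F) (_ : Fintype F) (n q : ℕ), Fintype.card F = q ^ 2 ∧ 3 ≤ n ∧ r ∣ n ∧ r ∣ q + 1 ∧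
      ¬ (n = 3 ∧ q = 2) ∧ Nonempty (T ≃* PSU n F q) := by
  obtain ⟨F, _, _, n, q, hq, hn, h32, ⟨e⟩⟩ := h
  have hc := Nat.card_congr e.toEquiv
  have hS := S0280.result hq n (by omega)
  by_cases hexc : (n, q) ∉ ({(4, 2), (4, 3), (6, 2)} : Set (ℕ × ℕ))
  · by_cases hd : r ∣ Nat.gcd n (q + 1)
    · right
      exact ⟨F, _, _, n, q, hq, hn, hd.trans (Nat.gcd_dvd_left _ _), hd.trans (Nat.gcd_dvd_right _ _), h32, ⟨e⟩⟩
    · left
      exact (away_cyc' (S2089.result n q hq hn h32 hexc) hd).congr e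
  · exfalso
    rw [not_not] at hexc
    simp only [Set.mem_insert_iff, Prod.mk.injEq, Set.mem_singleton_iff] at hexc
    rw [hc] at hr2
    have h16 := (hr2.mul_left (q + 1)).mul_left (Nat.gcd n (q + 1))
    rw [hS] at h16
    rcases hexc with ⟨rfl, rfl⟩ | ⟨rfl, rfl⟩ | ⟨rfl, rfl⟩
    · exact psu_exc2 hr h5 (N := 77760) (by decide) (by simpa only [Finset.prod_range_succ, Nat.even_iff, _root_.Nat.add_one_sub_one, _root_.Nat.reduceMul, _root_.Nat.reduceDiv, _root_.Nat.reducePow, _root_.Finset.range_one, _root_.Finset.prod_singleton, _root_.Nat.zero_mod, ↓ _root_.reduceIte, _root_.zero_add, _root_.pow_one, _root_.Nat.reduceAdd, _root_.Nat.mod_succ, _root_.one_ne_zero, _root_.Nat.mod_self, _root_.Nat.reduceMod] using h16)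
    · exact psu_exc2 hr h5 (N := 52254720) (by decide) (by simpa only [Finset.prod_range_succ, Nat.even_iff, _root_.Nat.add_one_sub_one, _root_.Nat.reduceMul, _root_.Nat.reduceDiv, _root_.Nat.reducePow, _root_.Finset.range_one, _root_.Finset.prod_singleton, _root_.Nat.zero_mod, ↓ _root_.reduceIte, _root_.zero_add, _root_.pow_one, _root_.Nat.reduceAdd, _root_.Nat.mod_succ, _root_.one_ne_zero, _root_.Nat.mod_self, _root_.Nat.reduceMod] using h16)
    · exact psu_exc2 hr h5 (N := 82771476480) (by decide) (by simpa only [Finset.prod_range_succ, Nat.even_iff, _root_.Nat.add_one_sub_one, _root_.Nat.reduceMul, _root_.Nat.reduceDiv, _root_.Nat.reducePow, _root_.Finset.range_one, _root_.Finset.prod_singleton, _root_.Nat.zero_mod, ↓ _root_.reduceIte, _root_.zero_add, _root_.pow_one, _root_.Nat.reduceAdd, _root_.Nat.mod_succ, _root_.one_ne_zero, _root_.Nat.mod_self, _root_.Nat.reduceMod] using h16)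

/-- The multiplier of a known simple group at a prime `r ≥ 5`. -/
theorem away_five {T : Type v} [Group T] [Finite T] (hT : commutator T = ⊤) (h : IsKnownSimple' T)
    (hna : ¬ IsMulCommutative T) {r : ℕ} (hr : r.Prime) (h5 : 5 ≤ r) : Away.{u} r T ∨
    (∃ (F : Type) (_ : Field F) (_ : Fintype F) (n : ℕ), 2 ≤ n ∧ r ∣ n ∧ r ∣ Fintype.card F - 1 ∧
      Nonempty (T ≃* Matrix.ProjectiveSpecialLinearGroup (Fin n) F)) ∨
    (∃ (F : Type) (_ : Field F) (_ : Fintype F) (n q : ℕ), Fintype.card F = q ^ 2 ∧ 3 ≤ n ∧ r ∣ n ∧ r ∣ q + 1 ∧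
      ¬ (n = 3 ∧ q = 2) ∧ Nonempty (T ≃* PSU n F q)) := by
  have hodd : Odd r := hr.odd_of_ne_two (by omega)
  by_cases hr2 : ¬ r ^ 2 ∣ Nat.card T
  · exact Or.inl (away_of_cyclic hT hr hr2)
  rw [not_not] at hr2
  have h38 : r = 3 → 3 ^ 8 ∣ Nat.card T := fun h => by omega
  rcases h with h | h | h | h | h | h | h | h | h | h
  · exfalso
    apply hna
    have h1 : Fact (Nat.card T).Prime := ⟨h⟩
    have h2 : IsCyclic T := isCyclic_of_prime_card (p := Nat.card T) rfl
    exact IsCyclic.isMulCommutative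
  · obtain ⟨n, hn, ⟨e⟩⟩ := h
    left
    exact (away_alt hr hodd hn (fun h3 => by rw [← Nat.card_congr e.toEquiv]; exact h38 h3)).congr e
  · rcases away_psl2.{u} h hr h5 hr2 with h | h
    · exact Or.inl h
    · exact Or.inr (Or.inl h)
  · exact Or.inl (away_psp h hr hodd)
  · rcases away_psu2.{u} h hr h5 hr2 with h | h
    · exact Or.inl h
    · exact Or.inr (Or.inr h)
  · rcases away_oodd.{u} h hr hodd with h | h
    · exact Or.inl h
    · omega
  · exact Or.inl (away_oplus h hr hodd)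
  · exact Or.inl (away_ominus h hr hodd)
  · rcases away_exc.{u} h hr hodd h38 with h | h | h
    · exact Or.inl h
    · omega
    · omega
  · rcases away_spor.{u} h hr hodd h38 with h | h | h
    · exact Or.inl h
    · omega
    · omega

section alt

theorem card_alt_dvd_quot {X : Type*} [Group X] [Finite X] {n : ℕ} (hn : 5 ≤ n)
    (f : alternatingGroup (Fin n) →* X) (hf : Function.Injective f) :
    Nat.card (alternatingGroup (Fin n)) ∣ Nat.card (X ⧸ Subgroup.center X) := by
  have hn' : 5 ≤ Nat.card (Fin n) := by rw [Nat.card_fin]; exact hn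
  haveI : IsSimpleGroup (alternatingGroup (Fin n)) := alternatingGroup.isSimpleGroup hn'
  let g := (QuotientGroup.mk' (Subgroup.center X)).comp f
  rcases (inferInstance : g.ker.Normal).eq_bot_or_eq_top with h | h
  · exact Subgroup.card_dvd_of_injective g ((MonoidHom.ker_eq_bot_iff g).1 h)
  · exfalso
    have hc : ∀ a b : alternatingGroup (Fin n), a * b = b * a := by
      intro a b
      apply hf
      have h1 : a ∈ g.ker := by rw [h]; trivial
      have h2 : f a ∈ Subgroup.center X := by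
        have h3 : QuotientGroup.mk' (Subgroup.center X) (f a) = 1 := h1
        rwa [← MonoidHom.mem_ker, QuotientGroup.ker_mk'] at h3
      rw [map_mul, map_mul]
      exact (Subgroup.mem_center_iff.1 h2 _).symm
    have h1 : commutator (alternatingGroup (Fin n)) = ⊥ := by
      rw [commutator_def, eq_bot_iff, Subgroup.commutator_le]
      intro a _ b _
      rw [Subgroup.mem_bot, commutatorElement_eq_one_iff_mul_comm]
      exact hc a b
    rw [commutator_alternatingGroup_eq_top hn'] at h1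
    exact absurd h1 top_ne_bot

theorem prime_dvd_card_alt {n p : ℕ} (hn : 2 ≤ n) (hp : p.Prime) (hp2 : p ≠ 2) (hpn : p ≤ n) :
    p ∣ Nat.card (alternatingGroup (Fin n)) := by
  haveI : Nontrivial (Fin n) := Fin.nontrivial_iff_two_le.2 hn
  have h8 : p ∣ 2 * Nat.card (alternatingGroup (Fin n)) := by
    rw [two_mul_nat_card_alternatingGroup, Nat.card_perm, Nat.card_fin]
    exact (Nat.Prime.dvd_factorial hp).2 hpn
  rcases (hp.dvd_mul).1 h8 with h9 | h9
  · exact absurd ((Nat.prime_dvd_prime_iff_eq hp Nat.prime_two).1 h9) hp2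
  · exact h9

/-- even permutations in `SL` -/
def pSL (F : Type*) [Field F] (n : ℕ) : alternatingGroup (Fin n) →* Matrix.SpecialLinearGroup (Fin n) F where
  toFun σ := ⟨H982.LawFam.pmat F n σ, H982.LawClassical.pmat_det F n σ σ.2⟩
  map_one' := Subtype.ext (by exact map_one (H982.LawFam.pmat F n))
  map_mul' x y := Subtype.ext (by exact map_mul (H982.LawFam.pmat F n) _ _)

theorem pSL_injective (F : Type*) [Field F] (n : ℕ) : Function.Injective (pSL F n) := by
  intro σ τ h
  have := congrArg Subtype.val h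
  exact Subtype.ext (H982.LawFam.pmat_injective F n this)

theorem dvd_psl {F : Type*} [Field F] [Fintype F] {n p : ℕ} (hn : 5 ≤ n) (hp : p.Prime) (hp2 : p ≠ 2) (hpn : p ≤ n) :
    p ∣ Nat.card (Matrix.ProjectiveSpecialLinearGroup (Fin n) F) :=
  (prime_dvd_card_alt (by omega) hp hp2 hpn).trans (card_alt_dvd_quot hn (pSL F n) (pSL_injective F n))

theorem dvd_psu {F : Type*} [Field F] [Fintype F] {n p q : ℕ} (hn : 5 ≤ n) (hp : p.Prime) (hp2 : p ≠ 2)
    (hpn : p ≤ n) : p ∣ Nat.card (PSU n F q) :=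
  (prime_dvd_card_alt (by omega) hp hp2 hpn).trans
    (card_alt_dvd_quot hn (H982.LawClassical.pSU F q n) (H982.LawClassical.pSU_injective F q n))

end alt

section char

theorem exists_char (F : Type*) [Field F] [Fintype F] : ∃ r : ℕ, r.Prime ∧ r ∣ Fintype.card F := by
  have h1 : Fintype.card F ≠ 1 := Fintype.one_lt_card.ne'
  exact Nat.exists_prime_and_dvd h1

theorem away_psl_char {T : Type v} [Group T] {F : Type} [Field F] [Fintype F] {n : ℕ} (hn : 5 ≤ n)
    (e : T ≃* Matrix.ProjectiveSpecialLinearGroup (Fin n) F) :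
    ∃ r : ℕ, r.Prime ∧ r ∣ Nat.card T ∧ Away.{u} r T := by
  obtain ⟨r, hr, hrF⟩ := exists_char F
  have h1 : ¬ r ∣ Fintype.card F - 1 := by
    intro h
    have h2 := (Nat.dvd_sub hrF h)
    have h3 : Fintype.card F - (Fintype.card F - 1) = 1 := by
      have := Fintype.card_pos (α := F)
      omega
    rw [h3] at h2
    exact hr.one_lt.ne' (Nat.dvd_one.1 h2)
  refine ⟨r, hr, ?_, ?_⟩
  · rw [Nat.card_congr e.toEquiv]
    have hS := S0243.result (F := F) rfl n (by omega)
    have h2 : r ∣ ∏ i : Fin n, ((Fintype.card F) ^ n - (Fintype.card F) ^ (i : ℕ)) := by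
      refine Dvd.dvd.trans ?_ (Finset.dvd_prod_of_mem _ (Finset.mem_univ (⟨1, by omega⟩ : Fin n)))
      refine Nat.dvd_sub (hrF.trans (dvd_pow_self _ (by omega))) ?_
      simpa using hrF
    rw [← hS] at h2
    rcases (hr.dvd_mul).1 h2 with h3 | h3
    · exact absurd (h3.trans (Nat.gcd_dvd_right _ _)) h1
    · rcases (hr.dvd_mul).1 h3 with h4 | h4
      · exact absurd h4 h1
      · exact h4
  · refine (away_cyc' (S2086.result rfl n (by omega) (fun h => by omega) ?_)
      (fun h => h1 (h.trans (Nat.gcd_dvd_right _ _)))).congr e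
    simp only [Set.mem_insert_iff, Prod.mk.injEq, Set.mem_singleton_iff]
    omega

theorem away_psu_char {T : Type v} [Group T] {F : Type} [Field F] [Fintype F] {n q : ℕ} (hn : 5 ≤ n)
    (hq : Fintype.card F = q ^ 2) (hne : ¬ (n = 6 ∧ q = 2)) (e : T ≃* PSU n F q) :
    ∃ r : ℕ, r.Prime ∧ r ∣ Nat.card T ∧ Away.{u} r T := by
  obtain ⟨r, hr, hrF⟩ := exists_char F
  rw [hq] at hrF
  have hrq : r ∣ q := hr.dvd_of_dvd_pow hrF
  have h1 : ¬ r ∣ q + 1 := by
    intro h
    have h2 := (Nat.dvd_add_right hrq).1 h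
    exact hr.one_lt.ne' (Nat.dvd_one.1 h2)
  refine ⟨r, hr, ?_, ?_⟩
  · rw [Nat.card_congr e.toEquiv]
    have hS := S0280.result hq n (by omega)
    have h2 : r ∣ q ^ (n * (n - 1) / 2) * ∏ i ∈ Finset.range n, (if Even i then q ^ (i + 1) + 1 else q ^ (i + 1) - 1) := by
      refine Dvd.dvd.mul_right (hrq.trans (dvd_pow_self _ ?_)) _
      have h3 : 2 ≤ n * (n - 1) := by
        calc 2 ≤ 5 * 4 := by norm_num
          _ ≤ n * (n - 1) := Nat.mul_le_mul hn (by omega)
      omega
    rw [← hS] at h2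
    rcases (hr.dvd_mul).1 h2 with h3 | h3
    · exact absurd (h3.trans (Nat.gcd_dvd_right _ _)) h1
    · rcases (hr.dvd_mul).1 h3 with h4 | h4
      · exact absurd h4 h1
      · exact h4
  · refine (away_cyc' (S2089.result n q hq (by omega) (by omega) ?_)
      (fun h => h1 (h.trans (Nat.gcd_dvd_right _ _)))).congr e
    simp only [Set.mem_insert_iff, Prod.mk.injEq, Set.mem_singleton_iff]
    omega

end char

theorem commutator_top {S : Type v} [Group S] [IsSimpleGroup S] (hna : ¬ IsMulCommutative S) :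
    commutator S = ⊤ := by
  rcases (inferInstance : (commutator S).Normal).eq_bot_or_eq_top with h | h
  · exfalso
    apply hna
    refine ⟨⟨fun a b => ?_⟩⟩
    have h2 : ⁅a, b⁆ ∈ commutator S := Subgroup.commutator_mem_commutator (Subgroup.mem_top a) (Subgroup.mem_top b)
    rw [h, Subgroup.mem_bot, commutatorElement_eq_one_iff_mul_comm] at h2
    exact h2
  · exact h

theorem simple_even {S : Type v} [Group S] [Finite S] [IsSimpleGroup S] (hna : ¬ IsMulCommutative S) :
    2 ∣ Nat.card S := by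
  by_contra hcon
  apply hna
  have h1 : Group.IsSolvable S := S0205.result (by rwa [← Nat.not_even_iff_odd, even_iff_two_dvd])
  exact ⟨⟨IsSimpleGroup.comm_iff_isSolvable.2 h1⟩⟩

theorem exists_prime_ge_five {S : Type v} [Group S] [Finite S] [IsSimpleGroup S] (hna : ¬ IsMulCommutative S) :
    ∃ r : ℕ, r.Prime ∧ 5 ≤ r ∧ r ∣ Nat.card S := by
  by_contra hcon
  push Not at hcon
  have hcard : Nat.card S ≠ 0 := Nat.card_pos.ne'
  have h23 : ∀ r : ℕ, r.Prime → r ∣ Nat.card S → r = 2 ∨ r = 3 := by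
    intro r hr hrd
    have h1 : r < 5 := by
      by_contra h
      exact hcon r hr (by omega) hrd
    have := hr.two_le
    interval_cases r
    · exact Or.inl rfl
    · exact Or.inr rfl
    · exact absurd hr (by decide)
  apply hna
  have h1 : Nat.card S = 2 ^ (Nat.card S).factorization 2 * 3 ^ (Nat.card S).factorization 3 := by
    conv_lhs => rw [← Nat.prod_factorization_pow_eq_self hcard]
    rw [Finsupp.prod_of_support_subset (s := {2, 3})]
    · rw [Finset.prod_insert (by decide), Finset.prod_singleton]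
    · intro r hr
      have h2 := Nat.mem_primeFactors.1 (by simpa only [_root_.Nat.mem_primeFactors, _root_.ne_eq, _root_.Nat.support_factorization] using hr : r ∈ (Nat.card S).primeFactors)
      rcases h23 r h2.1 h2.2.1 with h | h <;> simp [h]
    · intro i _
      exact pow_zero i
  exact ⟨⟨IsSimpleGroup.comm_iff_isSolvable.2
    (S0144.result (G := S) 2 3 _ _ Nat.prime_two Nat.prime_three h1)⟩⟩

/-- The facts on simple groups. -/
theorem simpleFacts : SimpleFacts.{v} where
  even := fun S _ _ _ hna => simple_even hna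
  fm := by
    intro S _ _ _ hna p hp hpS α hα
    obtain ⟨x, -, h1, h2, -⟩ := H531.FMAll.fm S hna (Subgroup.zpowers α) (by
      rw [Nat.card_zpowers, hα]
      exact (Nat.Prime.coprime_iff_not_dvd hp).2 hpS)
    refine ⟨x, h1 α (Subgroup.mem_zpowers α), fun h => ?_⟩
    have h3 := h2 α (Subgroup.mem_zpowers α) h
    rw [h3, orderOf_one] at hα
    exact hp.one_lt.ne hα
  away := by
    intro S _ _ _ hna p r hp hp2 hpS hr hpr
    have hp3 : 3 ≤ p := by
      have := hp.two_le
      omega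
    have h5 : 5 ≤ r := by
      by_contra h
      have h4 : r = 4 := by omega
      rw [h4] at hr
      exact absurd hr (by decide)
    rcases away_five.{v} (commutator_top hna) (S0000.result (G := S)) hna hr h5 with h | h | h
    · exact h
    · exfalso
      obtain ⟨F, _, _, n, hn, hrn, -, ⟨e⟩⟩ := h
      have h1 : r ≤ n := Nat.le_of_dvd (by omega) hrn
      exact hpS (by rw [Nat.card_congr e.toEquiv]; exact dvd_psl (by omega) hp hp2 (by omega))
    · exfalso
      obtain ⟨F, _, _, n, q, hq, hn, hrn, -, -, ⟨e⟩⟩ := h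
      have h1 : r ≤ n := Nat.le_of_dvd (by omega) hrn
      exact hpS (by rw [Nat.card_congr e.toEquiv]; exact dvd_psu (by omega) hp hp2 (by omega))
  exists_away := by
    intro S _ _ _ hna
    obtain ⟨r, hr, h5, hrS⟩ := exists_prime_ge_five hna
    rcases away_five.{v} (commutator_top hna) (S0000.result (G := S)) hna hr h5 with h | h | h
    · exact ⟨r, hr, hrS, h⟩
    · obtain ⟨F, _, _, n, hn, hrn, -, ⟨e⟩⟩ := h
      have h1 : r ≤ n := Nat.le_of_dvd (by omega) hrn
      exact away_psl_char (by omega) e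
    · obtain ⟨F, _, _, n, q, hq, hn, hrn, hrq, -, ⟨e⟩⟩ := h
      have h1 : r ≤ n := Nat.le_of_dvd (by omega) hrn
      refine away_psu_char (by omega) hq ?_ e
      rintro ⟨-, rfl⟩
      have := Nat.le_of_dvd (by norm_num) hrq
      omega

end Cfsg.Agent.H586.GW
end

-- part: H586/GW/NoCompFin
section
/-!
# Gluck-Wolf: chief factors of the core situation above a central section are abelian, unconditionally
-/

set_option autoImplicit false

namespace Cfsg.Agent.H586.GW

open scoped commutatorElement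

universe v

theorem s3513Stmt : S3513Stmt := fun n H hprim p hp hdiv h => (S3513.result n H hprim p hp hdiv).1 h

end Cfsg.Agent.H586.GW
end

-- part: H615/GW/Abelian
section
/-!
# Gluck-Wolf: the core situation with `K / Z(K mod N)` abelian does not occur
-/

set_option autoImplicit false
set_option linter.style.haveILetI false
set_option linter.unusedSectionVars false
open Cfsg

namespace Cfsg.Agent.H615.GW

open Cfsg.Agent.H586.GW
open scoped commutatorElement

/-- the action as a homomorphism to the units of the endomorphism ring -/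
def rho (H V : Type*) [Group H] [AddCommGroup V] [DistribMulAction H V] : H →* (AddMonoid.End V)ˣ :=
  (DistribMulAction.toAddMonoidEnd H V).toHomUnits

section
variable {H V : Type*} [Group H] [AddCommGroup V] [DistribMulAction H V]

theorem rho_apply (h : H) (v : V) : ((rho H V h : (AddMonoid.End V)ˣ) : AddMonoid.End V) v = h • v := rfl

theorem rho_eq_one {h : H} : rho H V h = 1 ↔ ∀ v : V, h • v = v := by
  constructor
  · intro h1 v
    rw [← rho_apply, h1]
    rfl
  · intro h1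
    apply Units.ext
    apply AddMonoidHom.ext
    intro v
    exact h1 v

/-- If the elements of `X` outside `N` are fixed point free and `X` is abelian modulo `N`, then it is cyclic modulo
`N`. -/
theorem cyc [Finite H] [Nontrivial V] {N : Subgroup H} (hker : ∀ h : H, (∀ v : V, h • v = v) ↔ h ∈ N)
    (X : Subgroup H) (hX : ∀ a ∈ X, ∀ b ∈ X, ⁅a, b⁆ ∈ N)
    (hf : ∀ a ∈ X, ∀ v : V, v ≠ 0 → a • v = v → a ∈ N) :
    ∃ b₀ ∈ X, ∀ b ∈ X, ∃ m : ℤ, ∃ n ∈ N, b = b₀ ^ m * n := by
  classical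
  have hk : ∀ h : H, rho H V h = 1 ↔ h ∈ N := fun h => rho_eq_one.trans (hker h)
  let A : Subgroup (AddMonoid.End V)ˣ := X.map (rho H V)
  have hcomm : ∀ a b : A, a * b = b * a := by
    rintro ⟨_, a, ha, rfl⟩ ⟨_, b, hb, rfl⟩
    apply Subtype.ext
    change rho H V a * rho H V b = rho H V b * rho H V a
    have h1 := (hk _).2 (hX a ha b hb)
    rw [map_commutatorElement, commutatorElement_eq_one_iff_mul_comm] at h1
    exact h1
  letI : CommGroup A := { (inferInstance : Group A) with mul_comm := hcomm }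
  have hfin : Finite A := by
    change Finite (X.map (rho H V) : Subgroup _)
    exact Set.Finite.image (rho H V) (Set.toFinite (X : Set H))
  have hcyc : IsCyclic A := by
    refine Cfsg.Agent.Solvable.FixedPointFree.isCyclic_of_comm
      ((Units.coeHom (AddMonoid.End V)).comp A.subtype) ?_
    rintro ⟨_, a, ha, rfl⟩ hne v hv
    by_contra hv0
    apply hne
    apply Subtype.ext
    change rho H V a = 1
    rw [hk]
    exact hf a ha v hv0 hv
  obtain ⟨⟨_, b₀, hb₀, rfl⟩, hg⟩ := hcyc.exists_generator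
  refine ⟨b₀, hb₀, fun b hb => ?_⟩
  obtain ⟨m, hm⟩ := Subgroup.mem_zpowers_iff.1 (hg ⟨rho H V b, b, hb, rfl⟩)
  have h1 : rho H V b₀ ^ m = rho H V b := congrArg Subtype.val hm
  refine ⟨m, (b₀ ^ m)⁻¹ * b, ?_, by group⟩
  rw [← hk, map_mul, map_inv, map_zpow, h1, inv_mul_cancel]

end

variable {p r : ℕ} {H V : Type*} [Group H] [Finite H] [AddCommGroup V] [Finite V] [DistribMulAction H V]
  {K N : Subgroup H} {φ : N →* ℂˣ}

theorem cen_comm (C : Core (V := V) p r K N φ) {n : H} (hn : n ∈ N) (h : H) : h * n = n * h :=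
  Subgroup.mem_center_iff.1 (C.cen hn) h

theorem nN (C : Core (V := V) p r K N φ) : N.Normal :=
  ⟨fun n hn g => by rw [cen_comm C hn g, mul_inv_cancel_right]; exact hn⟩

/-- abelian modulo `N` and fixed point free implies abelian -/
theorem comm_of_free (C : Core (V := V) p r K N φ) (X : Subgroup H)
    (hX : ∀ a ∈ X, ∀ b ∈ X, ⁅a, b⁆ ∈ N)
    (hf : ∀ a ∈ X, ∀ v : V, v ≠ 0 → a • v = v → a ∈ N) : ∀ a ∈ X, ∀ b ∈ X, ⁅a, b⁆ = 1 := by
  haveI := C.nt
  obtain ⟨b₀, -, h0⟩ := cyc C.ker X hX hf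
  intro a ha b hb
  obtain ⟨i, n, hn, rfl⟩ := h0 a ha
  obtain ⟨j, m, hm, rfl⟩ := h0 b hb
  rw [commutatorElement_eq_one_iff_mul_comm]
  have e1 := cen_comm C hn
  have e2 := cen_comm C hm
  calc b₀ ^ i * n * (b₀ ^ j * m) = b₀ ^ i * (n * b₀ ^ j) * m := by group
    _ = b₀ ^ i * (b₀ ^ j * n) * m := by rw [e1]
    _ = b₀ ^ j * b₀ ^ i * (n * m) := by group
    _ = b₀ ^ j * b₀ ^ i * (m * n) := by rw [e1 m]
    _ = b₀ ^ j * (b₀ ^ i * m) * n := by group
    _ = b₀ ^ j * (m * b₀ ^ i) * n := by rw [e2]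
    _ = b₀ ^ j * m * (b₀ ^ i * n) := by group

/-- every vector is fixed by an element of order `p` outside `K` -/
theorem exists_fix (hp : p.Prime) (C : Core (V := V) p r K N φ) (v : V) :
    ∃ x : H, x ∉ K ∧ x ^ p = 1 ∧ x • v = v := by
  obtain ⟨y, hy, hyv⟩ := C.P1 v
  haveI := C.nK
  have h1 : y ^ p ∈ K := by
    rw [← C.idx]
    exact Subgroup.pow_index_mem K y
  set m := orderOf (y ^ p) with hm
  have h2 : Nat.Coprime m p := by
    rw [Nat.coprime_comm, hp.coprime_iff_not_dvd]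
    intro h
    refine C.cop (h.trans ?_)
    have h3 : m = orderOf (⟨y ^ p, h1⟩ : K) := by rw [Subgroup.orderOf_mk]
    rw [h3]
    exact orderOf_dvd_natCard _
  refine ⟨y ^ m, ?_, ?_, ?_⟩
  · intro h
    apply hy
    have h4 : y ^ (Nat.gcd m p : ℤ) ∈ K := by
      rw [Nat.gcd_eq_gcd_ab, zpow_add, zpow_mul, zpow_mul, zpow_natCast, zpow_natCast]
      exact K.mul_mem (K.zpow_mem h _) (K.zpow_mem h1 _)
    rwa [Nat.coprime_iff_gcd_eq_one.1 h2, Nat.cast_one, zpow_one] at h4
  · rw [← pow_mul, mul_comm, pow_mul, hm, pow_orderOf_eq_one]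
  · have : ∀ k : ℕ, y ^ k • v = v := by
      intro k
      induction k with
      | zero => rw [pow_zero, one_smul]
      | succ k ih => rw [pow_succ, mul_smul, hyv, ih]
    exact this m

theorem closure_top (hp : p.Prime) (C : Core (V := V) p r K N φ) {x : H} (hx : x ∉ K) {M : Subgroup H} (hK : K ≤ M)
    (hxM : x ∈ M) : M = ⊤ := by
  have h1 : K.relIndex M * M.index = K.index := Subgroup.relIndex_mul_index hK
  rw [C.idx] at h1
  have h2 : K.relIndex M ≠ 1 := by
    intro h
    rw [Subgroup.relIndex_eq_one] at h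
    exact hx (h hxM)
  have h3 : M.index = 1 := by
    rcases (Nat.dvd_prime hp).1 (Dvd.intro_left _ h1) with h | h
    · exact h
    · exfalso
      apply h2
      rw [h] at h1
      exact Nat.eq_of_mul_eq_mul_right hp.pos (by rw [h1, one_mul])
  exact Subgroup.index_eq_one.1 h3

theorem mem_rho (C : Core (V := V) p r K N φ) {a b : H} :
    ⁅a, b⁆ ∈ N ↔ rho H V a * rho H V b = rho H V b * rho H V a := by
  rw [← C.ker, ← rho_eq_one, map_commutatorElement, commutatorElement_eq_one_iff_mul_comm]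

/-- A normal subgroup of `H` in `K`, abelian modulo `N` and fixed point free, is central in `K` modulo `N`. -/
theorem central_of_normal (hp : p.Prime) (C : Core (V := V) p r K N φ) (B : Subgroup H) (hB : B.Normal)
    (hX : ∀ a ∈ B, ∀ b ∈ B, ⁅a, b⁆ ∈ N)
    (hf : ∀ a ∈ B, ∀ v : V, v ≠ 0 → a • v = v → a ∈ N) : ∀ b ∈ B, ∀ k ∈ K, ⁅b, k⁆ ∈ N := by
  haveI := C.nt
  haveI := nN C
  haveI := C.nK
  obtain ⟨b₀, hb₀, h0⟩ := cyc C.ker B hX hf
  -- the centralizer of `b₀` modulo `N`
  let D : Subgroup H := (Subgroup.centralizer ({rho H V b₀} : Set (AddMonoid.End V)ˣ)).comap (rho H V)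
  have hD : ∀ h, h ∈ D ↔ rho H V b₀ * rho H V h = rho H V h * rho H V b₀ := by
    intro h
    rw [Subgroup.mem_comap, Subgroup.mem_centralizer_iff]
    constructor
    · intro h1
      exact h1 _ rfl
    · rintro h1 _ rfl
      exact h1
  have hconj : ∀ h : H, ∃ m : ℤ, rho H V h * rho H V b₀ * (rho H V h)⁻¹ = rho H V b₀ ^ m := by
    intro h
    obtain ⟨m, n, hn, e⟩ := h0 (h * b₀ * h⁻¹) (hB.conj_mem b₀ hb₀ h)
    refine ⟨m, ?_⟩
    rw [← map_inv, ← map_mul, ← map_mul, e, map_mul, map_zpow, rho_eq_one.2 ((C.ker n).2 hn), mul_one]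
  have hcom : commutator H ≤ D := by
    rw [_root_.commutator_def, Subgroup.commutator_le]
    intro a _ b _
    rw [hD]
    obtain ⟨i, hi⟩ := hconj a⁻¹
    obtain ⟨j, hj⟩ := hconj b⁻¹
    have e4 : rho H V ⁅a, b⁆ = (rho H V b⁻¹ * rho H V a⁻¹)⁻¹ * (rho H V a⁻¹ * rho H V b⁻¹) := by
      rw [commutatorElement_def, ← map_mul, ← map_mul, ← map_inv, ← map_mul]
      congr 1
      group
    rw [e4]
    generalize rho H V a⁻¹ = x at *
    generalize rho H V b⁻¹ = y at *
    generalize rho H V b₀ = z at *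
    have e1 : x * y * z * (x * y)⁻¹ = z ^ (i * j) := by
      calc x * y * z * (x * y)⁻¹ = x * (y * z * y⁻¹) * x⁻¹ := by group
        _ = x * z ^ j * x⁻¹ := by rw [hj]
        _ = (x * z * x⁻¹) ^ j := by rw [conj_zpow]
        _ = z ^ (i * j) := by rw [hi, zpow_mul]
    have e2 : y * x * z * (y * x)⁻¹ = z ^ (i * j) := by
      calc y * x * z * (y * x)⁻¹ = y * (x * z * x⁻¹) * y⁻¹ := by group
        _ = y * z ^ i * y⁻¹ := by rw [hi]
        _ = (y * z * y⁻¹) ^ i := by rw [conj_zpow]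
        _ = z ^ (i * j) := by rw [hj, ← zpow_mul, mul_comm]
    have e3 : x * y * z = y * x * z * (y * x)⁻¹ * (x * y) := by
      rw [← mul_inv_eq_iff_eq_mul, e1, e2]
    rw [mul_assoc, e3]
    group
  have hNle : N ≤ D := by
    intro n hn
    rw [hD, rho_eq_one.2 ((C.ker n).2 hn), mul_one, one_mul]
  have hn : ∀ M : Subgroup H, D ≤ M → M.Normal := by
    intro M hM
    refine ⟨fun h hh g => ?_⟩
    have h1 : ⁅g, h⁆ ∈ M := hM (hcom (Subgroup.commutator_mem_commutator (Subgroup.mem_top g) (Subgroup.mem_top h)))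
    have h2 : g * h * g⁻¹ = ⁅g, h⁆ * h := by rw [commutatorElement_def]; group
    rw [h2]
    exact M.mul_mem h1 hh
  have hKD : K ≤ D := by
    by_cases hDK : D ≤ K
    swap
    · rw [C.gen D (hn D le_rfl) hNle hDK]
      exact le_top
    obtain ⟨y, hy, hyp, -⟩ := exists_fix hp C 0
    have h1 : D ⊔ Subgroup.zpowers y = ⊤ := by
      refine C.gen _ (hn _ le_sup_left) (hNle.trans le_sup_left) ?_
      intro h
      exact hy (h (Subgroup.mem_sup_right (Subgroup.mem_zpowers y)))
    intro k hk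
    haveI := hn D le_rfl
    have h2 : k ∈ D ⊔ Subgroup.zpowers y := by rw [h1]; exact Subgroup.mem_top k
    rw [Subgroup.mem_sup_of_normal_left] at h2
    obtain ⟨d, hd, z, hz, rfl⟩ := h2
    obtain ⟨i, rfl⟩ := Subgroup.mem_zpowers_iff.1 hz
    have h3 : y ^ i ∈ K := by
      have := K.mul_mem (K.inv_mem (hDK hd)) hk
      rwa [inv_mul_cancel_left] at this
    have h4 : y ^ i = 1 := by
      rw [← orderOf_eq_one_iff]
      have h5 : orderOf (y ^ i) ∣ p := by
        rw [orderOf_dvd_iff_pow_eq_one, ← zpow_natCast, ← zpow_mul, mul_comm, zpow_mul, zpow_natCast, hyp,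
          one_zpow]
      rcases (Nat.dvd_prime hp).1 h5 with h6 | h6
      · exact h6
      · exfalso
        apply C.cop
        rw [← h6, ← Subgroup.orderOf_mk _ h3]
        exact orderOf_dvd_natCard _
    rw [h4, mul_one]
    exact hd
  intro b hb k hk
  rw [mem_rho C]
  obtain ⟨m, n, hn1, rfl⟩ := h0 b hb
  have h5 := (hD k).1 (hKD hk)
  rw [map_mul, rho_eq_one.2 ((C.ker n).2 hn1), mul_one, map_zpow]
  exact (Commute.zpow_left h5 m).eq

/-- **The abelian case.** -/
theorem core_abelian (hp : p.Prime) (_hr : r.Prime) (C : Core (V := V) p r K N φ)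
    (hqp : ∀ M : Subgroup H, M.Normal → N ≤ M → M ≤ K → ∀ W : AddSubgroup V, W ≠ ⊥ →
      (∀ m ∈ M, ∀ w ∈ W, m • w ∈ W) → ∀ m ∈ M, (∀ w ∈ W, m • w = w) → m ∈ N)
    (A : Subgroup H) (_hA : A.Normal) (hNA : N ≤ A) (hAK : A ≤ K) (hcen : ∀ a ∈ A, ∀ k ∈ K, ⁅a, k⁆ ∈ N)
    (hab : ∀ k ∈ K, ∀ l ∈ K, ⁅k, l⁆ ∈ A) : False := by
  haveI := C.nt
  haveI := nN C
  haveI := C.nK
  have hN1 : ∀ n ∈ N, rho H V n = 1 := fun n hn => rho_eq_one.2 ((C.ker n).2 hn)
  -- elements of normal subgroups abelian modulo `N` are fixed point free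
  have hfree : ∀ B : Subgroup H, B.Normal → N ≤ B → B ≤ K → (∀ a ∈ B, ∀ b ∈ B, ⁅a, b⁆ ∈ N) →
      ∀ a ∈ B, ∀ v : V, v ≠ 0 → a • v = v → a ∈ N := by
    intro B hB hNB hBK hBB a ha v hv hav
    let W : AddSubgroup V :=
      { carrier := {w | a • w = w}
        add_mem' := fun {x y} hx hy => by
          change a • (x + y) = x + y
          rw [smul_add, show a • x = x from hx, show a • y = y from hy]
        zero_mem' := smul_zero a
        neg_mem' := fun {x} hx => by
          change a • (-x) = -x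
          rw [smul_neg, show a • x = x from hx] }
    refine hqp B hB hNB hBK W ?_ ?_ a ha fun w hw => hw
    · intro h
      apply hv
      have h1 : v ∈ W := hav
      rw [h] at h1
      exact h1
    · intro m hm w hw
      have hw' : a • w = w := hw
      change a • m • w = m • w
      have h1 := (C.ker _).2 (hBB a ha m hm) (m • w)
      have h2 : ⁅a, m⁆ • m • a • w = a • m • w := by
        rw [← mul_smul, ← mul_smul, ← mul_smul, commutatorElement_def]
        congr 1
        group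
      rw [hw', h1] at h2
      exact h2.symm
  have hcentral : ∀ B : Subgroup H, B.Normal → N ≤ B → B ≤ K → (∀ a ∈ B, ∀ b ∈ B, ⁅a, b⁆ ∈ N) →
      ∀ b ∈ B, ∀ k ∈ K, ⁅b, k⁆ ∈ N := fun B hB hNB hBK hBB =>
    central_of_normal hp C B hB hBB (hfree B hB hNB hBK hBB)
  -- the full centre of `K` modulo `N`
  let Z : Subgroup H := K ⊓ (Subgroup.centralizer (rho H V '' (K : Set H))).comap (rho H V)
  have hZ : ∀ z, z ∈ Z ↔ z ∈ K ∧ ∀ k ∈ K, rho H V k * rho H V z = rho H V z * rho H V k := by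
    intro z
    rw [Subgroup.mem_inf, Subgroup.mem_comap, Subgroup.mem_centralizer_iff]
    constructor
    · rintro ⟨h1, h2⟩
      exact ⟨h1, fun k hk => h2 _ ⟨k, hk, rfl⟩⟩
    · rintro ⟨h1, h2⟩
      refine ⟨h1, ?_⟩
      rintro _ ⟨k, hk, rfl⟩
      exact h2 k hk
  have hZK : Z ≤ K := inf_le_left
  have hZcen : ∀ a ∈ Z, ∀ k ∈ K, ⁅a, k⁆ ∈ N := by
    intro a ha k hk
    rw [mem_rho C]
    exact (((hZ a).1 ha).2 k hk).symm
  have hZof : ∀ a ∈ K, (∀ k ∈ K, ⁅a, k⁆ ∈ N) → a ∈ Z := by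
    intro a ha h
    rw [hZ]
    refine ⟨ha, fun k hk => ?_⟩
    exact ((mem_rho C).1 (h k hk)).symm
  have hAZ : A ≤ Z := fun a ha => hZof a (hAK ha) (hcen a ha)
  have hNZ : N ≤ Z := hNA.trans hAZ
  have habZ : ∀ k ∈ K, ∀ l ∈ K, ⁅k, l⁆ ∈ Z := fun k hk l hl => hAZ (hab k hk l hl)
  have hZn : Z.Normal := by
    refine ⟨fun z hz g => ?_⟩
    refine hZof _ (C.nK.conj_mem z (hZK hz) g) fun k hk => ?_
    have h1 : ⁅g * z * g⁻¹, k⁆ = g * ⁅z, g⁻¹ * k * g⁆ * g⁻¹ := by
      rw [commutatorElement_def, commutatorElement_def]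
      group
    rw [h1]
    refine (nN C).conj_mem _ (hZcen z hz _ ?_) g
    have := C.nK.conj_mem k hk g⁻¹
    rwa [inv_inv] at this
  have hZfree := hfree Z hZn hNZ hZK fun a ha b hb => hZcen a ha b (hZK hb)
  -- normal subgroups of the form `X ⊔ Z`
  have hnormal : ∀ X : Subgroup H, X ≤ K → (∀ h : H, ∀ c ∈ X, h * c * h⁻¹ ∈ X ⊔ Z) → (X ⊔ Z).Normal := by
    intro X hX h
    refine ⟨fun b hb g => ?_⟩
    rw [Subgroup.mem_sup_of_normal_right] at hb
    obtain ⟨c, hc, a, ha, rfl⟩ := hb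
    have h1 : g * (c * a) * g⁻¹ = (g * c * g⁻¹) * (g * a * g⁻¹) := by group
    rw [h1]
    exact (X ⊔ Z).mul_mem (h g c hc) (Subgroup.mem_sup_right (hZn.conj_mem a ha g))
  have habel : ∀ X : Subgroup H, X ≤ K → (∀ c ∈ X, ∀ d ∈ X, ⁅c, d⁆ ∈ N) → ∀ a ∈ X ⊔ Z, ∀ b ∈ X ⊔ Z, ⁅a, b⁆ ∈ N := by
    intro X hX h a ha b hb
    rw [Subgroup.mem_sup_of_normal_right] at ha hb
    obtain ⟨c, hc, z, hz, rfl⟩ := ha
    obtain ⟨d, hd, w, hw, rfl⟩ := hb
    rw [mem_rho C, map_mul, map_mul]
    have h1 : Commute (rho H V c) (rho H V d) := (mem_rho C).1 (h c hc d hd)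
    have h2 : Commute (rho H V c) (rho H V w) := ((hZ w).1 hw).2 c (hX hc)
    have h3 : Commute (rho H V z) (rho H V d) := (((hZ z).1 hz).2 d (hX hd)).symm
    have h4 : Commute (rho H V z) (rho H V w) := (((hZ z).1 hz).2 w (hZK hw)).symm
    exact ((h1.mul_right h2).mul_left (h3.mul_right h4)).eq
  have hconjK : ∀ X : Subgroup H, X ≤ K → ∀ k ∈ K, ∀ c ∈ X, k * c * k⁻¹ ∈ X ⊔ Z := by
    intro X hX k hk c hc
    have h1 : k * c * k⁻¹ = ⁅k, c⁆ * c := by rw [commutatorElement_def]; group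
    rw [h1]
    exact (X ⊔ Z).mul_mem (Subgroup.mem_sup_right (habZ k hk c (hX hc))) (Subgroup.mem_sup_left hc)
  -- `K / N` is fixed point free
  have hKfree : ∀ k ∈ K, ∀ v : V, v ≠ 0 → k • v = v → k ∈ N := by
    intro k hk v hv hkv
    obtain ⟨y, hy, -, hyv⟩ := exists_fix hp C v
    let X : Subgroup H := K ⊓ MulAction.stabilizer H v
    have hXK : X ≤ K := inf_le_left
    have hXc : ∀ h : H, ∀ c ∈ X, h * c * h⁻¹ ∈ X ⊔ Z := by
      let M : Subgroup H := Subgroup.normalizer ((X ⊔ Z : Subgroup H) : Set H)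
      have hyX : ∀ y : H, y • v = v → ∀ b ∈ X ⊔ Z, y * b * y⁻¹ ∈ X ⊔ Z := by
        intro y hyv b hb
        rw [Subgroup.mem_sup_of_normal_right] at hb
        obtain ⟨c, hc, a, ha, rfl⟩ := hb
        have h1 : y * (c * a) * y⁻¹ = (y * c * y⁻¹) * (y * a * y⁻¹) := by group
        rw [h1]
        refine (X ⊔ Z).mul_mem (Subgroup.mem_sup_left ⟨C.nK.conj_mem c hc.1 y, ?_⟩)
          (Subgroup.mem_sup_right (hZn.conj_mem a ha y))
        have h2 : y⁻¹ • v = v := by rw [inv_smul_eq_iff, hyv]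
        have h3 : c • v = v := hc.2
        change (y * c * y⁻¹) • v = v
        rw [mul_smul, mul_smul, h2, h3, hyv]
      have hkX : ∀ k ∈ K, ∀ b ∈ X ⊔ Z, k * b * k⁻¹ ∈ X ⊔ Z := by
        intro k hk b hb
        have h1 : k * b * k⁻¹ = ⁅k, b⁆ * b := by rw [commutatorElement_def]; group
        rw [h1]
        exact (X ⊔ Z).mul_mem (Subgroup.mem_sup_right (habZ k hk b (sup_le hXK hZK hb))) hb
      have key : ∀ g : H, (∀ b ∈ X ⊔ Z, g * b * g⁻¹ ∈ X ⊔ Z) → (∀ b ∈ X ⊔ Z, g⁻¹ * b * g⁻¹⁻¹ ∈ X ⊔ Z) → g ∈ M := by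
        intro g h1 h2
        rw [Subgroup.mem_normalizer_iff]
        intro b
        refine ⟨h1 b, fun hb => ?_⟩
        have := h2 _ hb
        have e : g⁻¹ * (g * b * g⁻¹) * g⁻¹⁻¹ = b := by group
        rwa [e] at this
      have hM : M = ⊤ := by
        refine closure_top hp C hy ?_ ?_
        · intro k hk
          exact key k (hkX k hk) (hkX k⁻¹ (K.inv_mem hk))
        · refine key y (hyX y hyv) (hyX y⁻¹ ?_)
          rw [inv_smul_eq_iff, hyv]
      intro h c hc
      have h1 : h ∈ M := by rw [hM]; exact Subgroup.mem_top h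
      exact (Subgroup.mem_normalizer_iff.1 h1 c).1 (Subgroup.mem_sup_left hc)
    have h1 := hcentral (X ⊔ Z) (hnormal X hXK hXc) (hNZ.trans le_sup_right) (sup_le hXK hZK) (habel X hXK ?_) k
      (Subgroup.mem_sup_left ⟨hk, hkv⟩)
    · exact hZfree k (hZof k hk h1) v hv hkv
    · intro c hc d hd
      refine hZfree _ (habZ c hc.1 d hd.1) v hv ?_
      have h2 : ⁅c, d⁆ ∈ MulAction.stabilizer H v :=
        (MulAction.stabilizer H v).mul_mem ((MulAction.stabilizer H v).mul_mem
          ((MulAction.stabilizer H v).mul_mem hc.2 hd.2) ((MulAction.stabilizer H v).inv_mem hc.2))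
          ((MulAction.stabilizer H v).inv_mem hd.2)
      exact h2
  -- commuting modulo `N` implies commuting
  have hcm : ∀ k ∈ K, ∀ l ∈ K, ⁅k, l⁆ ∈ N → ⁅k, l⁆ = 1 := by
    intro k hk l hl hkl
    let X : Subgroup H := Subgroup.closure {k, l}
    have hXK : X ≤ K := by
      rw [Subgroup.closure_le]
      rintro z (rfl | rfl)
      · exact hk
      · exact hl
    refine comm_of_free C X ?_ (fun a ha v hv hav => hKfree a (hXK ha) v hv hav) k
      (Subgroup.subset_closure (by simp)) l (Subgroup.subset_closure (by simp))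
    intro a ha b hb
    rw [mem_rho C]
    have h0 : rho H V k * rho H V l = rho H V l * rho H V k := (mem_rho C).1 hkl
    have h1 : IsMulCommutative (Subgroup.closure {rho H V k, rho H V l}) := by
      apply Subgroup.isMulCommutative_closure
      rintro a (rfl | rfl) b (rfl | rfl)
      · rfl
      · exact h0
      · exact h0.symm
      · rfl
    have h2 : ∀ a ∈ X, rho H V a ∈ Subgroup.closure {rho H V k, rho H V l} := by
      intro a ha
      have h3 := Subgroup.mem_map_of_mem (rho H V) ha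
      rw [MonoidHom.map_closure, Set.image_pair] at h3
      exact h3
    exact congrArg Subtype.val (isMulCommutative_iff.1 h1 ⟨_, h2 a ha⟩ ⟨_, h2 b hb⟩)
  -- every element of `K` is good
  have hgood : ∀ k ∈ K, ∀ h : H, ∃ y ∈ K, h * k * h⁻¹ = y * k * y⁻¹ := by
    intro k hk h
    obtain ⟨y, hy, -, e⟩ := C.good 0 hk (smul_zero k) (fun y hy _ hky => hcm k hk y hy hky) (smul_zero h)
    exact ⟨y, hy, e⟩
  -- `K` is central modulo `N`
  have hKZ : ∀ k ∈ K, k ∈ Z := by
    intro k hk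
    let X : Subgroup H := Subgroup.zpowers k
    have hXK : X ≤ K := by rw [Subgroup.zpowers_le]; exact hk
    have hXc : ∀ h : H, ∀ c ∈ X, h * c * h⁻¹ ∈ X ⊔ Z := by
      rintro h c hc
      obtain ⟨y, hy, e⟩ := hgood c (hXK hc) h
      rw [e]
      exact hconjK X hXK y hy c hc
    have h1 := hcentral (X ⊔ Z) (hnormal X hXK hXc) (hNZ.trans le_sup_right) (sup_le hXK hZK) (habel X hXK ?_) k
      (Subgroup.mem_sup_left (Subgroup.mem_zpowers k))
    · exact hZof k hk h1
    · intro c hc d hd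
      obtain ⟨i, rfl⟩ := Subgroup.mem_zpowers_iff.1 hc
      obtain ⟨j, rfl⟩ := Subgroup.mem_zpowers_iff.1 hd
      have h2 : ⁅k ^ i, k ^ j⁆ = 1 := by
        rw [commutatorElement_eq_one_iff_mul_comm]
        exact (Commute.refl k).zpow_zpow i j
      rw [h2]
      exact N.one_mem
  have hKcomm : ∀ k ∈ K, ∀ l ∈ K, k * l = l * k := by
    intro k hk l hl
    rw [← commutatorElement_eq_one_iff_mul_comm]
    exact hcm k hk l hl (hZcen k (hKZ k hk) l hl)
  have hKcen : ∀ k ∈ K, ∀ h : H, h * k = k * h := by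
    intro k hk h
    obtain ⟨y, hy, e⟩ := hgood k hk h
    rw [hKcomm y hy k hk, mul_inv_cancel_right, mul_inv_eq_iff_eq_mul] at e
    exact e
  -- the end
  obtain ⟨v, hv⟩ := exists_ne (0 : V)
  obtain ⟨y, hy, -, hyv⟩ := exists_fix hp C v
  have htop : Subgroup.centralizer ({y} : Set H) = ⊤ := by
    refine closure_top hp C hy ?_ ?_
    · intro k hk
      rw [Subgroup.mem_centralizer_iff]
      rintro _ rfl
      exact hKcen k hk _
    · rw [Subgroup.mem_centralizer_iff]
      rintro _ rfl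
      rfl
  have hyc : ∀ h : H, y * h = h * y := by
    intro h
    have h1 : h ∈ Subgroup.centralizer ({y} : Set H) := by rw [htop]; exact Subgroup.mem_top h
    rw [Subgroup.mem_centralizer_iff] at h1
    exact h1 y rfl
  let W : AddSubgroup V :=
    { carrier := {w | y • w = w}
      add_mem' := fun {a b} ha hb => by
        change y • (a + b) = a + b
        rw [smul_add, show y • a = a from ha, show y • b = b from hb]
      zero_mem' := smul_zero y
      neg_mem' := fun {a} ha => by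
        change y • (-a) = -a
        rw [smul_neg, show y • a = a from ha] }
  rcases C.irr W (by
    intro h w hw
    change y • h • w = h • w
    rw [← mul_smul, hyc, mul_smul, show y • w = w from hw]) with h | h
  · apply hv
    have h1 : v ∈ W := hyv
    rw [h] at h1
    exact h1
  · apply hy
    apply C.NK
    rw [← C.ker]
    intro w
    have h1 : w ∈ W := by rw [h]; exact AddSubgroup.mem_top w
    exact h1

end Cfsg.Agent.H615.GW
end

-- part: H676/GW/Perm
section
/-!
# Gluck-Wolf: the action on the blocks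
-/

set_option autoImplicit false
set_option linter.style.haveILetI false
set_option linter.unusedSectionVars false

namespace Cfsg.Agent.H676.GW

open scoped Pointwise

/-- numerology of the alternating case -/
theorem num_alt {n p a s : ℕ} (hp : p.Prime) (hs : 1 ≤ s) (ha : 1 ≤ a) (_ : a ≤ p - 1)
    (hn : n + 1 = a * p ^ s) (h1 : ¬ (a = 1 ∧ s = 1)) (hn2 : 2 ≤ n) :
    (n = 3 ∧ p = 2) ∨ (5 ≤ n ∧ p ≤ n ∧ (p = 2 ∨ 3 ≤ p)) := by
  have hp2 := hp.two_le
  have h2 : 2 * p ≤ n + 1 := by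
    rw [hn]
    by_cases h : s = 1
    · subst h
      have : 2 ≤ a := by
        by_contra h3
        exact h1 ⟨by omega, rfl⟩
      rw [pow_one]
      exact Nat.mul_le_mul_right p this
    · have h3 : 2 ≤ s := by omega
      calc 2 * p ≤ p * p := Nat.mul_le_mul_right p hp2
        _ = p ^ 2 := (sq p).symm
        _ ≤ p ^ s := Nat.pow_le_pow_right (by omega) h3
        _ ≤ a * p ^ s := Nat.le_mul_of_pos_left _ ha
  by_cases h5 : 5 ≤ n
  · right
    refine ⟨h5, by omega, by omega⟩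
  · left
    have hd : p ∣ n + 1 := by
      rw [hn]
      exact Dvd.dvd.mul_left (dvd_pow_self p (by omega)) a
    have hn4 : n = 2 ∨ n = 3 ∨ n = 4 := by omega
    rcases hn4 with rfl | rfl | rfl
    · exfalso
      have := (Nat.prime_dvd_prime_iff_eq hp Nat.prime_three).1 hd
      omega
    · have h4 : p ∣ 2 ^ 2 := by simpa using hd
      have := (Nat.prime_dvd_prime_iff_eq hp Nat.prime_two).1 (hp.dvd_of_dvd_pow h4)
      exact ⟨rfl, this⟩
    · exfalso
      have := (Nat.prime_dvd_prime_iff_eq hp Nat.prime_five).1 hd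
      omega

theorem fac_big {n : ℕ} (h : 5 ≤ n) : 4 * n ≤ n.factorial := by
  obtain ⟨m, rfl⟩ : ∃ m, n = m + 5 := ⟨n - 5, by omega⟩
  rw [Nat.factorial_succ]
  have : 4 ≤ (m + 4).factorial :=
    (Nat.self_le_factorial 4).trans (Nat.factorial_le (by omega))
  nlinarith

/-- the statement `S3513` -/
def PowSet : Prop :=
  ∀ (n : ℕ) (H : Subgroup (Equiv.Perm (Fin n))) (_ : MulAction.IsPreprimitive H (Fin n)) (p : ℕ)
    (_ : p.Prime) (_ : p ∣ Nat.card H),
    (∀ s : Set (Fin n), ¬ p ∣ Nat.card {t : Set (Fin n) // ∃ h ∈ H, t = h '' s}) ↔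
    ((alternatingGroup (Fin n) ≤ H ∧ ∃ a s : ℕ, 1 ≤ s ∧ 1 ≤ a ∧ a ≤ p - 1 ∧ n + 1 = a * p ^ s ∧ ¬ (a = 1 ∧ s = 1) ∧
        ¬ (n = 3 ∧ p = 2 ∧ H = alternatingGroup (Fin n))) ∨
     (n = 8 ∧ p = 3 ∧ (Nat.card H = 1344 ∨ (Nat.card H = 168 ∧ Group.IsSolvable H))) ∨
     (n = 5 ∧ p = 2 ∧ Nat.card H = 10))

/-- the permutation group on the blocks -/
theorem perm_cases (h3513 : PowSet) {H Ω : Type*} [Group H] [Finite H] [MulAction H Ω] [Finite Ω]
    (hprim : MulAction.IsPreprimitive H Ω) (hΩ : 2 ≤ Nat.card Ω) {p : ℕ} (hp : p.Prime)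
    (K : Subgroup H) [K.Normal] (hidx : K.index = p) (hcop : ¬ p ∣ Nat.card K)
    (hker : ∀ h : H, (∀ i : Ω, h • i = i) → h ∈ K)
    (hset : ∀ Δ : Set Ω, ∃ x : H, x ∉ K ∧ x ^ p = 1 ∧ x • Δ = Δ) :
    ∃ t : ℕ, t.Prime ∧ (∃ k ∈ K, k ^ t ∈ (MulAction.toPermHom H Ω).ker ∧ k ∉ (MulAction.toPermHom H Ω).ker) ∧
      ((p = 2 ∧ t = 3 ∧ Nat.card Ω = 3) ∨ (p = 2 ∧ t = 5 ∧ Nat.card Ω = 5) ∨
        (p = 3 ∧ t = 7 ∧ Nat.card Ω = 8)) ∧
      (p = 2 → ∀ k ∈ K, k ∉ (MulAction.toPermHom H Ω).ker → ∀ k' ∈ K, ∃ j : ℤ, ∀ i : Ω,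
        k' • i = k ^ j • i) := by
  classical
  haveI : Fact p.Prime := ⟨hp⟩
  set n := Nat.card Ω with hn
  let e : Ω ≃ Fin n := Finite.equivFin Ω
  let f : H →* Equiv.Perm (Fin n) := (e.permCongrHom.toMonoidHom).comp (MulAction.toPermHom H Ω)
  have hf : ∀ (h : H) (i : Ω), f h (e i) = e (h • i) := by
    intro h i
    simp only [f, Equiv.permCongrHom, Equiv.permCongr_apply, _root_.Equiv.permCongrHom, _root_.MulEquiv.toMonoidHom_eq_coe, _root_.MonoidHom.coe_comp, _root_.MonoidHom.coe_coe, _root_.MulEquiv.coe_mk, _root_.Function.comp_apply, _root_.MulAction.toPermHom_apply, _root_.Equiv.permCongr_apply, _root_.Equiv.symm_apply_apply, _root_.MulAction.toPerm_apply]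
  have hfker : ∀ h : H, f h = 1 ↔ ∀ i : Ω, h • i = i := by
    intro h
    constructor
    · intro h1 i
      have := hf h i
      rw [h1, Equiv.Perm.one_apply] at this
      exact (e.injective this).symm
    · intro h1
      ext j
      obtain ⟨i, rfl⟩ := e.surjective j
      rw [hf, h1, Equiv.Perm.one_apply]
  let R : Subgroup (Equiv.Perm (Fin n)) := f.range
  have hcard : Nat.card H = p * Nat.card K := by
    rw [← hidx, mul_comm, Subgroup.card_mul_index]
  have hp2 : ∀ m, m ∣ Nat.card H → ¬ p * p ∣ m := by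
    intro m hm h
    have h1 : p * p ∣ p * Nat.card K := hcard ▸ (h.trans hm)
    exact hcop (Nat.dvd_of_mul_dvd_mul_left hp.pos h1)
  have hRcard : Nat.card R ∣ Nat.card H := Subgroup.card_range_dvd f
  -- an element of order `p`
  have hord : ∀ x : H, x ∉ K → x ^ p = 1 → orderOf (f x) = p := by
    intro x hx hxp
    refine orderOf_eq_prime (by rw [← map_pow, hxp, map_one]) ?_
    intro h
    exact hx (hker x ((hfker x).1 h))
  obtain ⟨x₀, hx₀, hx₀p, -⟩ := hset ∅
  have hdiv : p ∣ Nat.card R := by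
    rw [← hord x₀ hx₀ hx₀p]
    have : orderOf (f x₀) = orderOf (f.rangeRestrict x₀) := by
      rw [← Subgroup.orderOf_coe]
      rfl
    rw [this]
    exact orderOf_dvd_natCard _
  have hprimR : MulAction.IsPreprimitive R (Fin n) := by
    let φ : H → R := fun h => f.rangeRestrict h
    let g : Ω →ₑ[φ] Fin n := MulActionHom.mk e (fun h i => by
      change e (h • i) = f h (e i)
      rw [hf])
    exact MulAction.IsPreprimitive.of_surjective (f := g) e.surjective
  have horb : ∀ s : Set (Fin n), ¬ p ∣ Nat.card {t : Set (Fin n) // ∃ h ∈ R, t = h '' s} := by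
    intro s hd
    have e1 : Nat.card {t : Set (Fin n) // ∃ h ∈ R, t = h '' s} = Nat.card (MulAction.orbit R s) := by
      refine Nat.card_congr (Equiv.subtypeEquivRight fun t => ?_)
      constructor
      · rintro ⟨h, hh, rfl⟩
        exact ⟨⟨h, hh⟩, rfl⟩
      · rintro ⟨h, rfl⟩
        exact ⟨h, h.2, rfl⟩
    rw [e1] at hd
    have e2 : Nat.card (MulAction.orbit R s) * Nat.card (MulAction.stabilizer R s) = Nat.card R := by
      rw [← Nat.card_prod]
      exact Nat.card_congr (MulAction.orbitProdStabilizerEquivGroup R s)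
    obtain ⟨x, hx, hxp, hxs⟩ := hset (e ⁻¹' s)
    have h3 : p ∣ Nat.card (MulAction.stabilizer R s) := by
      have h4 : (f.rangeRestrict x : R) ∈ MulAction.stabilizer R s := by
        rw [MulAction.mem_stabilizer_iff]
        change (f x) '' s = s
        have h5 : ∀ j, j ∈ s → f x j ∈ s := by
          intro j hj
          obtain ⟨i, rfl⟩ := e.surjective j
          rw [hf]
          have h6 : x • i ∈ x • (e ⁻¹' s) := Set.smul_mem_smul_set hj
          rw [hxs] at h6
          exact h6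
        apply Set.eq_of_subset_of_ncard_le
        · rintro _ ⟨j, hj, rfl⟩
          exact h5 j hj
        · rw [Set.ncard_image_of_injective _ (f x).injective]
        · exact Set.toFinite s
      have h7 : orderOf (⟨f.rangeRestrict x, h4⟩ : MulAction.stabilizer R s) = p := by
        rw [← Subgroup.orderOf_coe, ← Subgroup.orderOf_coe]
        exact hord x hx hxp
      rw [← h7]
      exact orderOf_dvd_natCard _
    exact hp2 _ hRcard (by rw [← e2]; exact mul_dvd_mul hd h3)
  -- the image of `K`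
  let Kh : Subgroup R := K.map f.rangeRestrict
  have hsur : Function.Surjective f.rangeRestrict := f.rangeRestrict_surjective
  haveI hKh : Kh.Normal := Subgroup.Normal.map ‹K.Normal› _ hsur
  have hKi' : Kh.index = p := by
    rw [← hidx]
    refine Subgroup.index_map_eq K hsur ?_
    intro h hh
    refine hker h ((hfker h).1 ?_)
    exact congrArg Subtype.val (MonoidHom.mem_ker.1 hh)
  have hKi : Kh.index ∣ p := by rw [hKi']
  have hKc : Nat.card Kh ∣ Nat.card K := Subgroup.card_map_dvd _ _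
  have hcyc : ∀ t : ℕ, t.Prime → Nat.card R = p * t → ∀ k ∈ K, k ∉ (MulAction.toPermHom H Ω).ker →
      ∀ k' ∈ K, ∃ j : ℤ, ∀ i : Ω, k' • i = k ^ j • i := by
    intro t ht hR k hk hk1 k' hk'
    haveI : Fact t.Prime := ⟨ht⟩
    have h1 : Nat.card Kh = t := by
      have := Kh.card_mul_index
      rw [hKi', hR, mul_comm] at this
      exact Nat.eq_of_mul_eq_mul_left hp.pos this
    let a : Kh := ⟨f.rangeRestrict k, ⟨k, hk, rfl⟩⟩
    let b : Kh := ⟨f.rangeRestrict k', ⟨k', hk', rfl⟩⟩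
    have ha : a ≠ 1 := by
      intro h
      apply hk1
      have h2 : f k = 1 := congrArg (fun z : Kh => ((z : R) : Equiv.Perm (Fin n))) h
      rw [MonoidHom.mem_ker]
      ext i
      exact (hfker k).1 h2 i
    obtain ⟨j, hj⟩ := Subgroup.mem_zpowers_iff.1 (mem_zpowers_of_prime_card (g' := b) h1 ha)
    refine ⟨j, fun i => ?_⟩
    have h3 : f (k ^ j) = f k' := by
      rw [map_zpow]
      exact congrArg (fun z : Kh => ((z : R) : Equiv.Perm (Fin n))) hj
    apply e.injective
    rw [← hf, ← hf, h3]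
  have key := (h3513 n R hprimR p hp hdiv).1 horb
  -- from a prime divisor `t` of `|R|` to an element of `K`
  have fin : ∀ t : ℕ, t.Prime → t ≠ p → t ∣ Nat.card R →
      ∃ k ∈ K, k ^ t ∈ (MulAction.toPermHom H Ω).ker ∧ k ∉ (MulAction.toPermHom H Ω).ker := by
    intro t ht htp hd
    haveI : Fact t.Prime := ⟨ht⟩
    obtain ⟨⟨_, y, rfl⟩, hy⟩ := exists_prime_orderOf_dvd_card' t hd
    rw [← Subgroup.orderOf_coe] at hy
    change orderOf (f y) = t at hy
    have hkerm : ∀ h : H, h ∈ (MulAction.toPermHom H Ω).ker ↔ f h = 1 := by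
      intro h
      rw [hfker, MonoidHom.mem_ker]
      constructor
      · intro h1 i
        exact congrArg (fun g : Equiv.Perm Ω => g i) h1
      · intro h1
        ext i
        exact h1 i
    refine ⟨y ^ p, ?_, ?_, ?_⟩
    · rw [← hidx]
      exact Subgroup.pow_index_mem K y
    · rw [hkerm, ← pow_mul, mul_comm, pow_mul, map_pow, map_pow, ← hy, pow_orderOf_eq_one, one_pow]
    · rw [hkerm, map_pow]
      intro h1
      have h2 := orderOf_dvd_of_pow_eq_one h1
      rw [hy, Nat.prime_dvd_prime_iff_eq ht hp] at h2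
      exact htp h2
  rcases key with ⟨hA, a, s, hs, ha, hap, hna, has, -⟩ | ⟨h8, h3, hc⟩ | ⟨h5, h2, hc⟩
  · rcases num_alt hp hs ha hap hna has hΩ with ⟨h3, h2⟩ | ⟨h5, hpn, hp3⟩
    · have h4 : Nat.card (alternatingGroup (Fin n)) ∣ Nat.card R := Subgroup.card_dvd_of_le hA
      haveI : Nontrivial (Fin n) := Fin.nontrivial_iff_two_le.2 hΩ
      have h7 : n.factorial = 6 := by rw [h3]; rfl
      have h5 : Nat.card (alternatingGroup (Fin n)) = 3 := by
        have h6 := two_mul_nat_card_alternatingGroup (α := Fin n)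
        rw [Nat.card_perm, Nat.card_fin, h7] at h6
        omega
      rw [h5] at h4
      have h8 : Nat.card R = p * 3 := by
        have h9 : Nat.card R ∣ 6 := by
          rw [← h7]
          have := Subgroup.card_subgroup_dvd_card R
          rwa [Nat.card_perm, Nat.card_fin] at this
        rw [h2] at hdiv ⊢
        have h10 := Nat.le_of_dvd (by norm_num) h9
        have h11 : 0 < Nat.card R := Nat.card_pos
        obtain ⟨c, hc⟩ := (show 6 ∣ Nat.card R from
          Nat.Coprime.mul_dvd_of_dvd_of_dvd (by norm_num : Nat.Coprime 2 3) hdiv h4)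
        rw [hc] at h10 h11 ⊢
        omega
      refine ⟨3, Nat.prime_three, fin 3 Nat.prime_three (by omega) h4, Or.inl ⟨h2, rfl, h3⟩, ?_⟩
      intro _
      exact hcyc 3 Nat.prime_three h8
    · exfalso
      haveI : Nontrivial (Fin n) := Fin.nontrivial_iff_two_le.2 hΩ
      have h6 := two_mul_nat_card_alternatingGroup (α := Fin n)
      rw [Nat.card_perm, Nat.card_fin] at h6
      haveI hsimp : IsSimpleGroup (alternatingGroup (Fin n)) :=
        alternatingGroup.isSimpleGroup (by rw [Nat.card_fin]; exact h5)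
      let ψ : alternatingGroup (Fin n) →* R ⧸ Kh := (QuotientGroup.mk' Kh).comp (Subgroup.inclusion hA)
      have hfac : p ∣ Nat.card (alternatingGroup (Fin n)) := by
        rcases hp3 with h2 | h3'
        · have h4 : 4 ∣ n.factorial := Nat.dvd_factorial (by norm_num) (by omega)
          rw [h2]
          omega
        · have h4 : p ∣ n.factorial := Nat.dvd_factorial (by omega) hpn
          rw [← h6] at h4
          refine (Nat.Coprime.dvd_mul_left ?_).1 h4
          exact (Nat.coprime_primes hp Nat.prime_two).2 (by omega)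
      rcases hsimp.eq_bot_or_eq_top_of_normal ψ.ker inferInstance with h | h
      · have h7 : Function.Injective ψ := (MonoidHom.ker_eq_bot_iff ψ).1 h
        have h8 : Nat.card (alternatingGroup (Fin n)) ≤ Nat.card (R ⧸ Kh) :=
          Nat.card_le_card_of_injective ψ h7
        have h9 : Nat.card (R ⧸ Kh) ≤ p := Nat.le_of_dvd hp.pos hKi
        have h10 : 4 * n ≤ n.factorial := fac_big h5
        omega
      · apply hcop
        refine hfac.trans (Dvd.dvd.trans ?_ hKc)
        have h7 : ∀ g : alternatingGroup (Fin n), Subgroup.inclusion hA g ∈ Kh := by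
          intro g
          have h8 : ψ g = 1 := by rw [← MonoidHom.mem_ker, h]; trivial
          exact (QuotientGroup.eq_one_iff _).1 h8
        let χ : alternatingGroup (Fin n) →* Kh := (Subgroup.inclusion hA).codRestrict Kh h7
        refine Subgroup.card_dvd_of_injective χ ?_
        intro a b hab
        have h8 := congrArg (fun z : Kh => (z : R)) hab
        exact Subgroup.inclusion_injective hA h8
  · refine ⟨7, by norm_num, fin 7 (by norm_num) (by omega) ?_, Or.inr (Or.inr ⟨h3, rfl, h8⟩),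
      fun h2 => absurd (h2.symm.trans h3) (by norm_num)⟩
    rcases hc with hc | ⟨hc, -⟩ <;> rw [hc] <;> norm_num
  · refine ⟨5, Nat.prime_five, fin 5 Nat.prime_five (by omega) ?_, Or.inr (Or.inl ⟨h2, rfl, h5⟩),
      fun _ => hcyc 5 Nat.prime_five (by rw [hc, h2])⟩
    rw [hc]; norm_num

end Cfsg.Agent.H676.GW
end

-- part: H676/GW/Comm
section
/-!
# Commutators with values in a central subgroup
-/

set_option autoImplicit false

namespace Cfsg.Agent.H676.GW

open scoped commutatorElement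

variable {H : Type*} [Group H] {N : Subgroup H}

theorem comm_mul_right (hN : N ≤ Subgroup.center H) {y h k : H} (h2 : ⁅y, k⁆ ∈ N) :
    ⁅y, h * k⁆ = ⁅y, h⁆ * ⁅y, k⁆ := by
  have h3 := Subgroup.mem_center_iff.1 (hN h2) h
  have e : ⁅y, h * k⁆ = ⁅y, h⁆ * (h * ⁅y, k⁆ * h⁻¹) := by
    simp only [commutatorElement_def]; group
  rw [e, h3, mul_inv_cancel_right]

theorem comm_mul_left (hN : N ≤ Subgroup.center H) {y h k : H} (h2 : ⁅k, y⁆ ∈ N) :
    ⁅h * k, y⁆ = ⁅h, y⁆ * ⁅k, y⁆ := by
  have h3 := Subgroup.mem_center_iff.1 (hN h2) h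
  have h4 := Subgroup.mem_center_iff.1 (hN h2) ⁅h, y⁆
  have e : ⁅h * k, y⁆ = (h * ⁅k, y⁆ * h⁻¹) * ⁅h, y⁆ := by
    simp only [commutatorElement_def]; group
  rw [e, h3, mul_inv_cancel_right, h4]

theorem comm_pow_right (hN : N ≤ Subgroup.center H) {y h : H} (h1 : ⁅y, h⁆ ∈ N) (n : ℕ) :
    ⁅y, h ^ n⁆ = ⁅y, h⁆ ^ n := by
  induction n with
  | zero => simp
  | succ n ih => rw [pow_succ, pow_succ, comm_mul_right hN h1, ih]

theorem comm_pow_left (hN : N ≤ Subgroup.center H) {y h : H} (h1 : ⁅y, h⁆ ∈ N) (n : ℕ) :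
    ⁅y ^ n, h⁆ = ⁅y, h⁆ ^ n := by
  induction n with
  | zero => simp
  | succ n ih => rw [pow_succ, pow_succ, comm_mul_left hN h1, ih]

theorem comm_inv_left (hN : N ≤ Subgroup.center H) {y h : H} (h1 : ⁅y, h⁆ ∈ N) :
    ⁅y⁻¹, h⁆ = ⁅y, h⁆⁻¹ := by
  have h3 := Subgroup.mem_center_iff.1 (hN h1) y
  have e : ⁅y⁻¹, h⁆ = y⁻¹ * ⁅y, h⁆⁻¹ * y := by
    simp only [commutatorElement_def]; group
  rw [e]
  have h4 := Subgroup.mem_center_iff.1 (hN (N.inv_mem h1)) y⁻¹
  rw [h4, inv_mul_cancel_right]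

theorem comm_inv_right (hN : N ≤ Subgroup.center H) {y h : H} (h1 : ⁅y, h⁆ ∈ N) :
    ⁅y, h⁻¹⁆ = ⁅y, h⁆⁻¹ := by
  have e : ⁅y, h⁻¹⁆ = h⁻¹ * ⁅y, h⁆⁻¹ * h := by
    simp only [commutatorElement_def]; group
  rw [e]
  have h4 := Subgroup.mem_center_iff.1 (hN (N.inv_mem h1)) h⁻¹
  rw [h4, inv_mul_cancel_right]

theorem comm_mul_self_right (y h : H) (j : ℤ) : ⁅y, h * y ^ j⁆ = ⁅y, h⁆ := by
  simp only [commutatorElement_def]
  rw [mul_inv_rev, ← zpow_neg]
  have : y * (h * y ^ j) * y⁻¹ * (y ^ (-j) * h⁻¹) = y * h * (y ^ j * y⁻¹ * y ^ (-j)) * h⁻¹ := by group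
  rw [this]
  have h2 : y ^ j * y⁻¹ * y ^ (-j) = y⁻¹ := by
    rw [← zpow_neg_one, ← zpow_add, ← zpow_add]
    congr 1
    ring
  rw [h2]

theorem comm_mul_central_left (hN : N ≤ Subgroup.center H) {n y h : H} (hn : n ∈ N) :
    ⁅n * y, h⁆ = ⁅y, h⁆ := by
  have h3 := fun g => Subgroup.mem_center_iff.1 (hN hn) g
  have e : ⁅n * y, h⁆ = n * (y * h * y⁻¹) * n⁻¹ * h⁻¹ := by
    simp only [commutatorElement_def]; group
  rw [e, ← h3, mul_inv_cancel_right]
  rfl

theorem conj_comm (x y h : H) : x * ⁅y, h⁆ * x⁻¹ = ⁅x * y * x⁻¹, x * h * x⁻¹⁆ := by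
  simp only [commutatorElement_def]; group

theorem conj_comm_central (hN : N ≤ Subgroup.center H) (x : H) {y h : H} (h1 : ⁅y, h⁆ ∈ N) :
    ⁅x * y * x⁻¹, x * h * x⁻¹⁆ = ⁅y, h⁆ := by
  rw [← conj_comm, Subgroup.mem_center_iff.1 (hN h1) x, mul_inv_cancel_right]

end Cfsg.Agent.H676.GW
end

-- part: H676/GW/Blk
section
/-!
# Gluck-Wolf: systems of imprimitivity in the core situation
-/

set_option autoImplicit false
set_option linter.style.haveILetI false
set_option linter.unusedSectionVars false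

namespace Cfsg.Agent.H676.GW

open Cfsg.Agent.H586.GW Cfsg.Agent.H511.Wt Cfsg.Agent.H615.GW
open scoped Pointwise commutatorElement

section imp

variable {H V : Type*} [Group H] [Finite H] [AddCommGroup V] [DistribMulAction H V]
  {M : Subgroup H} {W : H ⧸ M → AddSubgroup V}

theorem comp_eq (D : Imp M W) [Fintype (H ⧸ M)] {f f' : H ⧸ M → V} (hf : ∀ i, f i ∈ W i)
    (hf' : ∀ i, f' i ∈ W i) (h : ∑ i, f i = ∑ i, f' i) (i : H ⧸ M) : f i = f' i := by
  have h1 := sum_unique D.ind (f := fun i => f i - f' i) (fun i => (W i).sub_mem (hf i) (hf' i)) (by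
    rw [Finset.sum_sub_distrib]
    exact sub_eq_zero.2 h) i
  exact sub_eq_zero.1 h1

/-- An element fixing a vector permutes its components. -/
theorem comp_smul (D : Imp M W) [Fintype (H ⧸ M)] {f : H ⧸ M → V} (hf : ∀ i, f i ∈ W i) {x : H}
    (hx : x • ∑ i, f i = ∑ i, f i) (i : H ⧸ M) : x • f i = f (x • i) := by
  have h1 : ∑ i, f i = ∑ i, x • f (x⁻¹ • i) := by
    rw [← Finset.smul_sum]
    conv_lhs => rw [← hx]
    congr 1
    exact (Equiv.sum_comp (MulAction.toPerm x⁻¹) f).symm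
  have h2 := comp_eq D hf (fun j => by
    have := D.smul_mem x (hf (x⁻¹ • j))
    rwa [smul_inv_smul] at this) h1 (x • i)
  rw [h2, inv_smul_smul]

theorem W_ne_bot (D : Imp M W) [Nontrivial V] (i : H ⧸ M) : W i ≠ ⊥ := by
  intro h
  have h1 : ∀ j, W j = ⊥ := by
    intro j
    obtain ⟨g, rfl⟩ := MulAction.exists_smul_eq H i j
    rw [← D.smul, h]
    ext v
    rw [mem_smul_iff, AddSubgroup.mem_bot, AddSubgroup.mem_bot]
    constructor
    · intro h2
      rwa [inv_smul_eq_iff, smul_zero] at h2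
    · rintro rfl
      rw [smul_zero]
  have h2 := D.top
  simp only [h1, iSup_bot] at h2
  exact bot_ne_top h2

theorem W_disj (D : Imp M W) {i j : H ⧸ M} (hij : i ≠ j) {v : V} (h1 : v ∈ W i) (h2 : v ∈ W j) :
    v = 0 := by
  have h3 := D.ind.pairwiseDisjoint hij
  rw [Function.onFun, disjoint_iff] at h3
  have h4 : v ∈ W i ⊓ W j := ⟨h1, h2⟩
  rw [h3] at h4
  exact (AddSubgroup.mem_bot).1 h4

theorem exists_ne (D : Imp M W) [Nontrivial V] (i : H ⧸ M) : ∃ v ∈ W i, v ≠ 0 := by
  by_contra h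
  push Not at h
  exact W_ne_bot D i ((AddSubgroup.eq_bot_iff_forall _).2 h)

/-- an element which fixes a nonzero vector of a block fixes the block -/
theorem fix_of_smul (D : Imp M W) {i : H ⧸ M} {g : H} {v w : V} (hv : v ∈ W i) (hw : w ∈ W i)
    (hw0 : w ≠ 0) (h : g • v = w) : g • i = i := by
  by_contra h1
  have h2 := D.smul_mem g hv
  rw [h] at h2
  exact hw0 (W_disj D h1 h2 hw)

end imp

variable {p r : ℕ} {H V : Type*} [Group H] [Finite H] [AddCommGroup V] [Finite V]
  [DistribMulAction H V] {K N : Subgroup H} {φ : N →* ℂˣ} {M : Subgroup H}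
  {W : H ⧸ M → AddSubgroup V}

theorem exists_set (hp : p.Prime) (C : Core (V := V) p r K N φ) (D : Imp M W) (Δ : Set (H ⧸ M)) :
    ∃ x : H, x ∉ K ∧ x ^ p = 1 ∧ x • Δ = Δ := by
  classical
  haveI := C.nt
  letI : Fintype (H ⧸ M) := Fintype.ofFinite _
  choose w hw hw0 using exists_ne D
  let f : H ⧸ M → V := fun i => if i ∈ Δ then w i else 0
  have hf : ∀ i, f i ∈ W i := by
    intro i
    by_cases h : i ∈ Δ
    · simp only [f, if_pos h]; exact hw i
    · simp only [f, if_neg h]; exact (W i).zero_mem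
  have hf0 : ∀ i, f i ≠ 0 ↔ i ∈ Δ := by
    intro i
    by_cases h : i ∈ Δ
    · simp only [f, if_pos h]; exact ⟨fun _ => h, fun _ => hw0 i⟩
    · simp only [f, if_neg h]; exact ⟨fun h1 => absurd rfl h1, fun h1 => absurd h1 h⟩
  obtain ⟨x, hx, hxp, hxv⟩ := exists_fix hp C (∑ i, f i)
  refine ⟨x, hx, hxp, ?_⟩
  have h1 : ∀ i ∈ Δ, x • i ∈ Δ := by
    intro i hi
    rw [← hf0] at hi ⊢
    rw [← comp_smul D hf hxv i]
    intro h
    exact hi (by rw [smul_eq_zero_iff_eq] at h; exact h)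
  apply Set.eq_of_subset_of_ncard_le
  · rintro _ ⟨i, hi, rfl⟩
    exact h1 i hi
  · rw [Set.ncard_smul_set]
  · exact Set.toFinite _

theorem ker_le (C : Core (V := V) p r K N φ) (D : Imp M W) (hM : M ≠ ⊤) {h : H}
    (hh : ∀ i : H ⧸ M, h • i = i) : h ∈ K := by
  haveI := C.nt
  have hmem : ∀ g : H, g ∈ M.normalCore ↔ ∀ i : H ⧸ M, g • i = i := by
    intro g
    rw [Subgroup.normalCore_eq_ker, MonoidHom.mem_ker]
    constructor
    · intro h1 i
      exact congrArg (fun e : Equiv.Perm (H ⧸ M) => e i) h1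
    · intro h1
      ext i
      exact h1 i
  by_contra hK
  have h1 := C.gen M.normalCore (Subgroup.normalCore_normal M) ?_ ?_
  · apply hM
    rw [eq_top_iff, ← h1]
    exact Subgroup.normalCore_le M
  · intro n hn
    rw [hmem]
    intro i
    obtain ⟨v, hv, hv0⟩ := exists_ne D i
    exact fix_of_smul D hv hv hv0 ((C.ker n).2 hn v)
  · intro h2
    exact hK (h2 ((hmem h).2 hh))

theorem prim (hM : IsCoatom M) : MulAction.IsPreprimitive H (H ⧸ M) := by
  haveI : Nontrivial (H ⧸ M) := by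
    rw [QuotientGroup.nontrivial_iff]
    exact hM.1
  rw [← MulAction.isCoatom_stabilizer_iff_preprimitive H ((1 : H) : H ⧸ M), MulAction.stabilizer_quotient]
  exact hM

theorem two_le (hM : M ≠ ⊤) : 2 ≤ Nat.card (H ⧸ M) := by
  haveI : Nontrivial (H ⧸ M) := by
    rw [QuotientGroup.nontrivial_iff]
    exact hM
  exact Finite.one_lt_card

end Cfsg.Agent.H676.GW
end

-- part: H676/GW/PermB
section
/-!
# Permutations of prime order
-/

set_option autoImplicit false
set_option linter.style.haveILetI false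
set_option linter.unusedSectionVars false

namespace Cfsg.Agent.H676.GW

variable {H Ω : Type*} [Group H] [MulAction H Ω]

/-- an element of prime order `t` acts transitively on `t` points -/
theorem trans_of_prime [Finite Ω] {t : ℕ} (ht : t.Prime) (hΩ : Nat.card Ω = t) {y : H}
    (hy : ∀ i : Ω, y ^ t • i = i) (hy1 : ¬ ∀ i : Ω, y • i = i) (i j : Ω) : ∃ m : ℤ, y ^ m • i = j := by
  classical
  letI : Fintype Ω := Fintype.ofFinite Ω
  let σ : Equiv.Perm Ω := MulAction.toPermHom H Ω y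
  have hσ : ∀ i, σ i = y • i := fun _ => rfl
  have hσt : σ ^ t = 1 := by
    rw [← map_pow]
    ext i
    exact hy i
  have hσ1 : σ ≠ 1 := by
    intro h
    apply hy1
    intro i
    rw [← hσ, h, Equiv.Perm.one_apply]
  have ho : orderOf σ = t := by
    rcases (Nat.dvd_prime ht).1 (orderOf_dvd_of_pow_eq_one hσt) with h | h
    · exact absurd (orderOf_eq_one_iff.1 h) hσ1
    · exact h
  have hcard : Fintype.card Ω = t := by rw [← Nat.card_eq_fintype_card, hΩ]
  have hc : σ.IsCycle := by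
    refine Equiv.Perm.isCycle_of_prime_order' (by rw [ho]; exact ht) ?_
    rw [ho, hcard]
    have := ht.pos
    omega
  have hs : σ.support = Finset.univ := by
    rw [← Finset.card_eq_iff_eq_univ, ← hc.orderOf, ho, hcard]
  have hne : ∀ i, σ i ≠ i := fun i => Equiv.Perm.mem_support.1 (by rw [hs]; exact Finset.mem_univ i)
  obtain ⟨m, hm⟩ := hc.exists_zpow_eq (hne i) (hne j)
  refine ⟨m, ?_⟩
  rw [← hm, ← map_zpow]
  rfl

/-- what commutes with a transitive element is a power of it -/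
theorem pow_of_comm {y g : H} (hy : ∀ i j : Ω, ∃ m : ℤ, y ^ m • i = j) (i₀ : Ω)
    (hg : ∀ i : Ω, g • y • i = y • g • i) : ∃ m : ℤ, ∀ i : Ω, g • i = y ^ m • i := by
  have h1 : Commute (MulAction.toPermHom H Ω g) (MulAction.toPermHom H Ω y) := by
    ext i
    exact hg i
  obtain ⟨m, hm⟩ := hy i₀ (g • i₀)
  refine ⟨m, fun i => ?_⟩
  obtain ⟨k, rfl⟩ := hy i₀ i
  have h2 := congrArg (fun e : Equiv.Perm Ω => e i₀) (h1.zpow_right k).eq
  rw [← map_zpow, ← map_mul, ← map_mul] at h2
  change (g * y ^ k) • i₀ = (y ^ k * g) • i₀ at h2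
  rw [mul_smul, mul_smul] at h2
  rw [h2, ← hm, smul_smul, smul_smul, ← zpow_add, ← zpow_add, add_comm]

/-- an element inverting a transitive element of odd order has at most one fixed point -/
theorem fix_unique {x y : H} (hy : ∀ i j : Ω, ∃ m : ℤ, y ^ m • i = j)
    (hx : ∀ i : Ω, x • y • i = y⁻¹ • x • i) {t s : ℤ} (hts : t = 2 * s + 1)
    (hyt : ∀ i : Ω, y ^ t • i = i) {a b : Ω}
    (ha : x • a = a) (hb : x • b = b) : a = b := by
  have h0 : ∀ (m : ℤ) (i : Ω), x • y ^ m • i = y ^ (-m) • x • i := by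
    have hsemi : SemiconjBy (MulAction.toPermHom H Ω x) (MulAction.toPermHom H Ω y)
        (MulAction.toPermHom H Ω y⁻¹) := by
      ext i
      exact hx i
    intro m i
    have h2 := congrArg (fun e : Equiv.Perm Ω => e i) (hsemi.zpow_right m).eq
    rw [← map_zpow, ← map_zpow, ← map_mul, ← map_mul] at h2
    change (x * y ^ m) • i = (y⁻¹ ^ m * x) • i at h2
    rw [mul_smul, mul_smul, inv_zpow'] at h2
    exact h2
  obtain ⟨m, rfl⟩ := hy a b
  have h1 := h0 m a
  rw [hb, ha] at h1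
  have h2 : y ^ (2 * m) • a = a := by
    rw [two_mul, zpow_add, mul_smul, h1, smul_smul, ← zpow_add, add_neg_cancel, zpow_zero, one_smul]
  have hfix : ∀ (n k : ℤ) (i : Ω), y ^ n • i = i → y ^ (n * k) • i = i := by
    intro n k i h
    have h3 : y ^ n ∈ MulAction.stabilizer H i := h
    have h4 := (MulAction.stabilizer H i).zpow_mem h3 k
    rw [← zpow_mul] at h4
    exact h4
  have h3 := hfix t m a (hyt a)
  have h4 := hfix (2 * m) (-s) a h2
  have e : m = t * m + 2 * m * (-s) := by rw [hts]; ring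
  rw [e, zpow_add, mul_smul, h4, h3]

end Cfsg.Agent.H676.GW
end
end

-- part: H662/GW/TwoFin
section
prune_inst 0x101005005000100000180010200018229200000000080000002005000588084000400001880000020000004000340020034c0000420000000a000000400005010020000200000000000000000000000000000000000000000000000000000000200000000
set_option linter.all false
open scoped Cfsg.Agent.FastGrp

-- part: H511/GW/PTwoFin
section
/-!
# TEAM GW: [P2], [P2'] (helper511)
-/

set_option autoImplicit false

namespace Cfsg.Agent.H511.GW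

open Cfsg.Agent.H662.GW

/-- [P2] `p = 2`, linear -/
theorem p2_lin {s n j f : ℕ} {Y U : Type*} [Group Y] [Finite Y] [AddCommGroup U] [Finite U]
    [DistribMulAction Y U] {X : Subgroup Y} {x : Y} {B : U → U → ZMod s}
    (h : SA (U := U) 2 s n j X x B) (hf : 1 ≤ f) (hsq : s ∣ 2 ^ f - 1)
    (hI : Ineq 2 s n j (2 ^ f) (Subgroup.centralizer ({x} : Set Y)).index) : False :=
  p2_lin_core h hf hsq hI (card_dvd_sr h.toSR)

/-- [P2'] `p = 2`, semilinear -/
theorem p2_semi {s n f f₀ : ℕ} {Y U : Type*} [Group Y] [Finite Y] [AddCommGroup U] [Finite U]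
    [DistribMulAction Y U] {X : Subgroup Y} {x : Y} {B : U → U → ZMod s}
    (h : SR (U := U) 2 s n X x B) (hf : 1 ≤ f₀) (hff : f = 2 * f₀) (hsq : s ∣ 2 ^ f - 1)
    (hI : ((2 ^ f) ^ (s ^ n) - 1) * (2 ^ f₀ - 1) * Nat.card {u : U // x • u = u} ≤
      s ^ (2 * n) * (Subgroup.centralizer ({x} : Set Y)).index * ((2 ^ f₀) ^ (s ^ n) - 1) * (2 ^ f - 1)) : False :=
  p2_semi_core h hf hff hsq hI (card_dvd_sr h)

end Cfsg.Agent.H511.GW
end

-- part: H662/GW/AsmTwo
section
/-!
# Gluck-Wolf: no core for `p = r = 2` (helper662)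
-/

set_option autoImplicit false

open scoped commutatorElement

namespace Cfsg.Agent.H662.GW

open Cfsg.Agent.H586.GW Cfsg.Agent.H511.Wt

universe u

section
variable {H V : Type u} [Group H] [Finite H] [AddCommGroup V] [Finite V] [DistribMulAction H V]
  {K N : Subgroup H}

/-- no chief factor above the centre -/
theorem no_chief_two {φ : N →* ℂˣ} (F : SimpleFacts.{u}) (h3513 : S3513Stmt) (C : Core (V := V) 2 2 K N φ)
    (hqp : QP V K N) [N.Normal] {L : Subgroup H} (hL : ChiefAbove K N L) : False := by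
  have hp : Nat.Prime 2 := Nat.prime_two
  have hab := core_nocomp' F h3513 hp C (cenK K N) L (cenK_normal C.nK) hL.nL
    (fun n hn => ⟨C.NK hn, fun y _ => by
      have h := Subgroup.mem_center_iff.1 (C.cen hn) y
      have h1 : ⁅n, y⁆ = 1 := by rw [commutatorElement_eq_one_iff_mul_comm]; exact h.symm
      rw [h1]; exact one_mem N⟩) hL.le hL.LK (fun a ha k hk => ha.2 k hk) hL.min
  obtain ⟨s, n, x, U, Y, W, _, _, _, _, _, _, _, G, _, hxG, B, π, a, hxK, hxp, hπs, hSR, hLW, hlin, hπ1⟩ :=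
    chief_data C hp hp hqp hL.nL hL.le hL.ne hL.LK hL.min hab
  obtain ⟨f, hf, hsf, hI⟩ := LW_ineq hLW (x := ⟨x, hxG⟩) hxK (Subtype.ext hxp)
  rcases hI with ⟨hZ, hj⟩ | ⟨f₀, hf₀, hff, hI⟩
  · obtain ⟨j, hSA⟩ := H727.GW.SR.exists_SA hSR (hlin hZ)
    exact H511.GW.p2_lin hSA hf hsf (hj j hSA.hjn hSA.fix)
  · exact H511.GW.p2_semi hSR hf₀ hff hsf hI

end

theorem noCore_two_of (F : SimpleFacts.{u}) (h3513 : S3513Stmt)
    (himp : ∀ {H V : Type u} [Group H] [Finite H] [AddCommGroup V] [Finite V] [DistribMulAction H V]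
      (K N : Subgroup H) (φ : N →* ℂˣ), Core (V := V) 2 2 K N φ → ¬ ImpP H V) : NoCore.{u} 2 2 := by
  intro H V _ _ _ _ _ K N φ C
  have hN : N.Normal := core_nN C
  have hqp : QP V K N := qp_of_not_impP C (himp K N φ C)
  refine H615.GW.core_abelian Nat.prime_two Nat.prime_two C hqp (cenK K N) (cenK_normal C.nK)
    (fun n hn => ⟨C.NK hn, fun y _ => by
      have h := Subgroup.mem_center_iff.1 (C.cen hn) y
      have h1 : ⁅n, y⁆ = 1 := by rw [commutatorElement_eq_one_iff_mul_comm]; exact h.symm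
      rw [h1]; exact one_mem N⟩) (fun k hk => hk.1) (fun a ha k hk => ha.2 k hk)
    (comm_mem_of_all C Nat.prime_two hqp fun L hL => (no_chief_two F h3513 C hqp hL).elim)

end Cfsg.Agent.H662.GW
end

-- part: H676/GW/Semi
section
/-!
# Gluck-Wolf: semilinear blocks
-/

set_option autoImplicit false
set_option linter.style.haveILetI false
set_option linter.unusedSectionVars false

namespace Cfsg.Agent.H676.GW

open Cfsg.Agent.H586.GW Cfsg.Agent.H511.Wt Cfsg.Agent.H615.GW
open scoped Pointwise commutatorElement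

universe u

/-- the statement `S3360` -/
def Huppert : Prop :=
  ∀ (q : ℕ) [Fact q.Prime] {V : Type u} [AddCommGroup V] [Module (ZMod q) V] [Finite V] [Nontrivial V]
    {G : Type u} [Group G] [Finite G] (_ : Group.IsSolvable G)
    (ρ : G →* (V ≃ₗ[ZMod q] V)) (_ : Function.Injective ρ)
    (_ : ∀ v w : V, v ≠ 0 → w ≠ 0 → ∃ g : G, ρ g v = w),
    (∃ (F : Type) (_ : Field F) (_ : Fintype F) (e : V ≃+ F),
        ∀ g : G, ∃ (a : F) (σ : F ≃+* F), ∀ v : V, e (ρ g v) = a * σ (e v)) ∨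
    Nat.card V ∈ ({9, 25, 49, 121, 529, 81} : Set ℕ)

/-- ring automorphisms of a finite field commute -/
theorem aut_comm {F : Type*} [Field F] [Finite F] (σ τ : F ≃+* F) (z : F) : σ (τ z) = τ (σ z) := by
  by_cases hz : z = 0
  · subst hz; simp
  obtain ⟨g, hg⟩ := IsCyclic.exists_generator (α := Fˣ)
  obtain ⟨k, hk⟩ := Subgroup.mem_zpowers_iff.1 (hg (Units.mk0 z hz))
  obtain ⟨i, hi⟩ := Subgroup.mem_zpowers_iff.1 (hg (Units.map (σ : F →* F) g))
  obtain ⟨j, hj⟩ := Subgroup.mem_zpowers_iff.1 (hg (Units.map (τ : F →* F) g))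
  have hi' : σ (g : F) = (g : F) ^ i := by
    have := congrArg Units.val hi
    rw [Units.val_zpow_eq_zpow_val] at this
    exact this.symm
  have hj' : τ (g : F) = (g : F) ^ j := by
    have := congrArg Units.val hj
    rw [Units.val_zpow_eq_zpow_val] at this
    exact this.symm
  have hz' : z = (g : F) ^ k := by
    have := congrArg Units.val hk
    rw [Units.val_zpow_eq_zpow_val] at this
    exact this.symm
  have h1 : σ (τ (g : F)) = τ (σ (g : F)) := by
    rw [hj', map_zpow₀, hi', map_zpow₀, hj', ← zpow_mul, ← zpow_mul, mul_comm]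
  rw [hz', map_zpow₀ τ, map_zpow₀ σ, h1, map_zpow₀ σ, map_zpow₀ τ]

variable {H V : Type u} [Group H] [AddCommGroup V] [DistribMulAction H V]
  {U : AddSubgroup V} {F : Type*} [Field F] (e : U ≃+ F)

/-- `g` acts semilinearly on `U` -/
def Semi (g : H) : Prop :=
  ∃ (a : F) (σ : F ≃+* F), ∀ (u : V) (hu : u ∈ U) (hu' : g • u ∈ U),
    e ⟨g • u, hu'⟩ = a * σ (e ⟨u, hu⟩)

/-- `g` acts as the scalar `c` on `U` -/
def Sc (g : H) (c : F) : Prop :=
  ∀ (u : V) (hu : u ∈ U) (hu' : g • u ∈ U), e ⟨g • u, hu'⟩ = c * e ⟨u, hu⟩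

variable {e}

theorem Semi.ne_zero [Nontrivial U] {g : H} (hg : ∀ u ∈ U, g • u ∈ U) {a : F} {σ : F ≃+* F}
    (h : ∀ (u : V) (hu : u ∈ U) (hu' : g • u ∈ U), e ⟨g • u, hu'⟩ = a * σ (e ⟨u, hu⟩)) : a ≠ 0 := by
  rintro rfl
  obtain ⟨⟨u, hu⟩, hu0⟩ := _root_.exists_ne (0 : U)
  have h1 := h u hu (hg u hu)
  rw [zero_mul, map_eq_zero_iff e e.injective] at h1
  have h2 : g • u = 0 := congrArg Subtype.val h1
  rw [smul_eq_zero_iff_eq] at h2
  exact hu0 (Subtype.ext h2)

/-- commutators are scalars -/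
theorem Sc.comm [Finite F] [Nontrivial U] {g h : H} (hg : ∀ u ∈ U, g • u ∈ U) (hh : ∀ u ∈ U, h • u ∈ U)
    (hgi : ∀ u ∈ U, g⁻¹ • u ∈ U) (hhi : ∀ u ∈ U, h⁻¹ • u ∈ U) (sg : Semi e g) (sh : Semi e h) :
    ∃ c, Sc e ⁅g, h⁆ c := by
  obtain ⟨a, σ, h1⟩ := sg
  obtain ⟨b, τ, h2⟩ := sh
  have ha := Semi.ne_zero hg h1
  have hb := Semi.ne_zero hh h2
  refine ⟨a * σ b / (b * τ a), ?_⟩
  intro u hu hu'
  obtain ⟨v, hv, rfl⟩ : ∃ v, v ∈ U ∧ h • g • v = u :=
    ⟨g⁻¹ • h⁻¹ • u, hgi _ (hhi _ hu), by simp⟩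
  have e1 : ⁅g, h⁆ • h • g • v = g • h • v := by
    rw [commutatorElement_def, ← mul_smul, ← mul_smul, ← mul_smul]
    congr 1
    group
  have e2 : e ⟨⁅g, h⁆ • h • g • v, hu'⟩ = e ⟨g • h • v, hg _ (hh _ hv)⟩ := by
    congr 1
    exact Subtype.ext e1
  rw [e2, h1 _ (hh _ hv), h2 _ hv, h2 _ (hg _ hv), h1 _ hv, map_mul, map_mul, aut_comm τ σ]
  have hσb : σ b ≠ 0 := by rwa [Ne, map_eq_zero_iff σ σ.injective]
  have hτa : τ a ≠ 0 := by rwa [Ne, map_eq_zero_iff τ τ.injective]
  field_simp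

theorem Sc.mul {g h : H} (hh : ∀ u ∈ U, h • u ∈ U) {c d : F} (sg : Sc e g c) (sh : Sc e h d) :
    Sc e (g * h) (c * d) := by
  intro u hu hu'
  have h1 : g • h • u ∈ U := by rwa [← mul_smul]
  have h2 : e ⟨(g * h) • u, hu'⟩ = e ⟨g • h • u, h1⟩ := by
    congr 1
    exact Subtype.ext (mul_smul _ _ _)
  rw [h2, sg _ (hh _ hu), sh _ hu, mul_assoc]

theorem Sc.one : Sc e (1 : H) 1 := by
  intro u hu hu'
  rw [one_mul]
  congr 1
  exact Subtype.ext (one_smul _ _)

theorem Sc.pow {g : H} (hg : ∀ u ∈ U, g • u ∈ U) {c : F} (sg : Sc e g c) (n : ℕ) :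
    Sc e (g ^ n) (c ^ n) := by
  induction n with
  | zero => rw [pow_zero, pow_zero]; exact Sc.one
  | succ n ih => rw [pow_succ, pow_succ]; exact ih.mul hg sg

theorem Sc.unique [Nontrivial U] {g : H} (hg : ∀ u ∈ U, g • u ∈ U) {c d : F} (h1 : Sc e g c)
    (h2 : Sc e g d) : c = d := by
  obtain ⟨⟨u, hu⟩, hu0⟩ := _root_.exists_ne (0 : U)
  have h3 := (h1 u hu (hg u hu)).symm.trans (h2 u hu (hg u hu))
  refine mul_right_cancel₀ ?_ h3
  rwa [Ne, map_eq_zero_iff e e.injective]

theorem Sc.trivial_of_one {g : H} (hg : ∀ u ∈ U, g • u ∈ U) (h1 : Sc e g 1) : ∀ u ∈ U, g • u = u := by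
  intro u hu
  have h2 := h1 u hu (hg u hu)
  rw [one_mul] at h2
  exact congrArg Subtype.val (e.injective h2)

/-- a scalar fixing a nonzero vector is trivial -/
theorem Sc.eq_one {g : H} {c : F} (h1 : Sc e g c) {w : V} (hw : w ∈ U) (hw0 : w ≠ 0)
    (h : g • w = w) : c = 1 := by
  have h2 := h1 w hw (by rw [h]; exact hw)
  have h3 : e ⟨g • w, by rw [h]; exact hw⟩ = e ⟨w, hw⟩ := by
    congr 1
    exact Subtype.ext h
  rw [h3] at h2
  have h4 : e ⟨w, hw⟩ ≠ 0 := by
    rw [Ne, map_eq_zero_iff e e.injective]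
    exact fun h => hw0 (congrArg Subtype.val h)
  exact (mul_right_cancel₀ h4 (by rw [one_mul]; exact h2)).symm

theorem Sc.inv [Nontrivial U] {g : H} (hg : ∀ u ∈ U, g • u ∈ U) (hgi : ∀ u ∈ U, g⁻¹ • u ∈ U) {c : F}
    (sg : Sc e g c) : Sc e g⁻¹ c⁻¹ := by
  have hc : c ≠ 0 := by
    rintro rfl
    obtain ⟨⟨u, hu⟩, hu0⟩ := _root_.exists_ne (0 : U)
    have h1 := sg u hu (hg u hu)
    rw [zero_mul, map_eq_zero_iff e e.injective] at h1
    have h2 : g • u = 0 := congrArg Subtype.val h1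
    rw [smul_eq_zero_iff_eq] at h2
    exact hu0 (Subtype.ext h2)
  intro u hu hu'
  have h1 := sg (g⁻¹ • u) (hgi u hu) (by rw [smul_inv_smul]; exact hu)
  have h2 : e ⟨g • g⁻¹ • u, by rw [smul_inv_smul]; exact hu⟩ = e ⟨u, hu⟩ := by
    congr 1
    exact Subtype.ext (smul_inv_smul g u)
  rw [h2] at h1
  rw [h1, ← mul_assoc, inv_mul_cancel₀ hc, one_mul]

theorem semi_abs' (hup : Huppert.{u}) {q : ℕ} [Fact q.Prime] {G U : Type u} [Group G] [Finite G]
    [AddCommGroup U] [Module (ZMod q) U] [Finite U] [Nontrivial U] [DistribMulAction G U]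
    (hsol : Group.IsSolvable G)
    (htr : ∀ u w : U, u ≠ 0 → w ≠ 0 → ∃ m : G, m • u = w)
    (hcard : Nat.card U ∉ ({9, 25, 49, 121, 529, 81} : Set ℕ)) :
    ∃ (F : Type) (_ : Field F) (_ : Fintype F) (e : U ≃+ F), ∀ g : G, ∃ (a : F) (σ : F ≃+* F),
      ∀ u : U, e (g • u) = a * σ (e u) := by
  classical
  haveI : SMulCommClass G (ZMod q) U :=
    ⟨fun m c u => ZMod.map_smul (DistribMulAction.toAddEquiv U m) c u⟩
  let g : G →* (U ≃ₗ[ZMod q] U) := DistribMulAction.toModuleAut (ZMod q) U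
  have hg : ∀ (m : G) (u : U), g m u = m • u := fun _ _ => rfl
  haveI : Finite (U ≃ₗ[ZMod q] U) := Finite.of_injective (fun x => (x : U → U)) DFunLike.coe_injective
  haveI : Finite g.range := inferInstance
  have hsolr : Group.IsSolvable g.range := Group.isSolvable_of_surjective g.rangeRestrict_surjective
  rcases hup q (V := U) (G := g.range) hsolr g.range.subtype (Subgroup.subtype_injective _) (by
    intro v w hv hw
    obtain ⟨m, hmv⟩ := htr v w hv hw
    exact ⟨g.rangeRestrict m, hmv⟩) with ⟨F, hF, hFf, e, he⟩ | h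
  · refine ⟨F, hF, hFf, e, ?_⟩
    intro m
    obtain ⟨a, σ, h⟩ := he (g.rangeRestrict m)
    exact ⟨a, σ, h⟩
  · exact absurd h hcard

theorem semi_abs (hup : Huppert.{u}) {q : ℕ} [Fact q.Prime] {G U : Type u} [Group G] [Finite G]
    [AddCommGroup U] [Finite U] [Nontrivial U] [DistribMulAction G U] (hq : ∀ v : U, q • v = 0)
    (hsol : Group.IsSolvable G)
    (htr : ∀ u w : U, u ≠ 0 → w ≠ 0 → ∃ m : G, m • u = w)
    (hcard : Nat.card U ∉ ({9, 25, 49, 121, 529, 81} : Set ℕ)) :
    ∃ (F : Type) (_ : Field F) (_ : Fintype F) (e : U ≃+ F), ∀ g : G, ∃ (a : F) (σ : F ≃+* F),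
      ∀ u : U, e (g • u) = a * σ (e u) := by
  letI : Module (ZMod q) U := AddCommGroup.zmodModule hq
  exact semi_abs' (q := q) hup hsol htr hcard

/-- a solvable group acting transitively on the nonzero vectors is semilinear -/
theorem semi_of_trans (hup : Huppert.{u}) {q : ℕ} [Fact q.Prime] {H V : Type u} [Group H] [Finite H]
    [AddCommGroup V] [Finite V] [DistribMulAction H V] (hq : ∀ v : V, q • v = 0) (M : Subgroup H)
    (hsol : Group.IsSolvable M) (U : AddSubgroup V) [Nontrivial U] (hU : ∀ m ∈ M, ∀ u ∈ U, m • u ∈ U)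
    (htr : ∀ u ∈ U, ∀ w ∈ U, u ≠ 0 → w ≠ 0 → ∃ m ∈ M, m • u = w)
    (hcard : Nat.card U ∉ ({9, 25, 49, 121, 529, 81} : Set ℕ)) :
    ∃ (F : Type) (_ : Field F) (_ : Fintype F) (e : U ≃+ F), ∀ m ∈ M, Semi e m := by
  letI := resAct M U hU
  obtain ⟨F, hF, hFf, e, he⟩ := semi_abs hup (G := M) (U := U) (fun u => Subtype.ext (hq u)) hsol (by
    intro u w hu hw
    obtain ⟨m, hm, hmv⟩ := htr u u.2 w w.2 (fun h => hu (Subtype.ext h)) (fun h => hw (Subtype.ext h))
    exact ⟨⟨m, hm⟩, Subtype.ext hmv⟩) hcard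
  refine ⟨F, hF, hFf, e, ?_⟩
  intro m hm
  obtain ⟨a, σ, h⟩ := he ⟨m, hm⟩
  exact ⟨a, σ, fun u hu _ => h ⟨u, hu⟩⟩

end Cfsg.Agent.H676.GW
end

-- part: H676/GW/ImpTwo
section
/-!
# Gluck-Wolf for `p = 2`: the module is primitive
-/

set_option autoImplicit false
set_option linter.style.haveILetI false
set_option linter.unusedSectionVars false

namespace Cfsg.Agent.H676.GW

open Cfsg.Agent.H586.GW Cfsg.Agent.H511.Wt Cfsg.Agent.H615.GW
open scoped Pointwise commutatorElement

universe u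

section gen

variable {p r : ℕ} {H V : Type u} [Group H] [Finite H] [AddCommGroup V] [Finite V]
  [DistribMulAction H V] {K N : Subgroup H} {φ : N →* ℂˣ} {M : Subgroup H}
  {W : H ⧸ M → AddSubgroup V}

theorem comm_zpow_mem (C : Core (V := V) p r K N φ) {y g : H} (h : ⁅y, g⁆ ∈ N) (m : ℤ) :
    ⁅y ^ m, g⁆ ∈ N := by
  haveI := nN C
  have key : ∀ a b : H, ⁅a, b⁆ ∈ N ↔ Commute (a : H ⧸ N) (b : H ⧸ N) := by
    intro a b
    rw [← QuotientGroup.eq_one_iff, ← commutatorElement_eq_one_iff_commute]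
    rfl
  rw [key] at h ⊢
  rw [QuotientGroup.mk_zpow]
  exact h.zpow_left m

/-- An element of the kernel on the blocks which commutes modulo `N` with a transitive element and is trivial on one
block lies in `N`. -/
theorem mem_N (C : Core (V := V) p r K N φ) (D : Imp M W) {y g : H}
    (hy : ∀ i j : H ⧸ M, ∃ m : ℤ, y ^ m • i = j) (hyg : ⁅y, g⁆ ∈ N) {i₀ : H ⧸ M}
    (hg : ∀ v ∈ W i₀, g • v = v) : g ∈ N := by
  rw [← C.ker]
  refine D.trivial_of ?_
  intro i v hv
  obtain ⟨m, rfl⟩ := hy i₀ i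
  have h1 := comm_zpow_mem C hyg m
  have h2 : y ^ (-m) • v ∈ W i₀ := by
    have := D.smul_mem (y ^ (-m)) hv
    rwa [smul_smul, ← zpow_add, neg_add_cancel, zpow_zero, one_smul] at this
  obtain ⟨w, hw, rfl⟩ : ∃ w ∈ W i₀, y ^ m • w = v :=
    ⟨_, h2, by rw [smul_smul, ← zpow_add, add_neg_cancel, zpow_zero, one_smul]⟩
  have h3 : (⁅y ^ m, g⁆ * (g * y ^ m)) • w = (y ^ m * g) • w := by
    congr 1
    rw [commutatorElement_def]; group
  rw [mul_smul, (C.ker _).2 h1, mul_smul, mul_smul, hg w hw] at h3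
  exact h3

/-- If `y` is good in `K_v`, fixed by `x` outside `K`, we get an element outside `K` commuting with `y`. -/
theorem no_good (C : Core (V := V) p r K N φ) (D : Imp M W) (hM : M ≠ ⊤) {y x : H} (hyK : y ∈ K)
    (hxK : x ∉ K) {v : V} (hyv : y • v = v) (hxv : x • v = v)
    (hy : ∀ i j : H ⧸ M, ∃ m : ℤ, y ^ m • i = j)
    (hgood : ∀ h ∈ K, h • v = v → ⁅y, h⁆ ∈ N → ⁅y, h⁆ = 1) : False := by
  obtain ⟨z, hz, hzv, hxz⟩ := C.good v hyK hyv hgood hxv
  have h1 : Commute (z⁻¹ * x) y := by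
    change z⁻¹ * x * y = y * (z⁻¹ * x)
    have : x * y = z * y * z⁻¹ * x := by rw [← hxz]; group
    rw [mul_assoc, this]; group
  obtain ⟨m, hm⟩ := pow_of_comm hy ((1 : H) : H ⧸ M) (g := z⁻¹ * x) (by
    intro i
    rw [smul_smul, smul_smul, h1.eq])
  have h2 : z⁻¹ * x * (y ^ m)⁻¹ ∈ K := by
    apply ker_le C D hM
    intro i
    rw [mul_smul, hm, smul_inv_smul]
  apply hxK
  have h3 : x = z * (z⁻¹ * x * (y ^ m)⁻¹) * y ^ m := by group
  rw [h3]
  exact K.mul_mem (K.mul_mem hz h2) (K.zpow_mem hyK m)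

end gen

variable {H V : Type u} [Group H] [Finite H] [AddCommGroup V] [Finite V]
  [DistribMulAction H V] {K N : Subgroup H} {φ : N →* ℂˣ} {M : Subgroup H}
  {W : H ⧸ M → AddSubgroup V}

theorem one_of_sq (C : Core (V := V) 2 2 K N φ) {n : H} (hn : n ∈ N) (h : n ^ 2 = 1) : n = 1 := by
  have h1 : orderOf n ∣ 2 := orderOf_dvd_of_pow_eq_one h
  rcases (Nat.dvd_prime Nat.prime_two).1 h1 with h2 | h2
  · exact orderOf_eq_one_iff.1 h2
  · exfalso
    apply C.cop
    rw [← h2, ← Subgroup.orderOf_mk n (C.NK hn)]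
    exact orderOf_dvd_natCard _

theorem good_of (C : Core (V := V) 2 2 K N φ) (D : Imp M W) {F : Type*} [Field F] [Finite F]
    {e : W ((1 : H) : H ⧸ M) ≃+ F} (hS : ∀ m ∈ M, Semi e m)
    {x y n₀ : H} (hxM : x ∈ M) (hx2 : x ^ 2 = 1) (hn₀ : n₀ ∈ N)
    (hxy : x * y * x⁻¹ = n₀ * y⁻¹)
    (hy : ∀ i j : H ⧸ M, ∃ m : ℤ, y ^ m • i = j)
    {v : V} (hxv : x • v = v) (hyv : y • v = v)
    (hsc : ∀ g : H, (∀ i : H ⧸ M, g • i = i) → g • v = v → ⁅y, g⁆ ∈ N → (∃ c, Sc e g c) →
      x * g * x⁻¹ = g⁻¹ → ⁅y, g⁆ = 1) :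
    ∀ h ∈ K, h • v = v → ⁅y, h⁆ ∈ N → ⁅y, h⁆ = 1 := by
  intro h hK hv hyh
  haveI := nN C
  haveI := C.nt
  have hNZ := C.cen
  have key : ∀ a b : H, ⁅a, b⁆ ∈ N ↔ Commute (a : H ⧸ N) (b : H ⧸ N) := by
    intro a b
    rw [← QuotientGroup.eq_one_iff, ← commutatorElement_eq_one_iff_commute]
    rfl
  have hNact : ∀ n ∈ N, ∀ i : H ⧸ M, n • i = i := by
    intro n hn i
    obtain ⟨w, hw, hw0⟩ := exists_ne D i
    exact fix_of_smul D hw hw hw0 ((C.ker n).2 hn w)
  obtain ⟨m, hm⟩ := pow_of_comm hy ((1 : H) : H ⧸ M) (g := h) (by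
    intro i
    have h1 : y * h = ⁅y, h⁆ * (h * y) := by rw [commutatorElement_def]; group
    rw [smul_smul, smul_smul, h1, mul_smul ⁅y, h⁆, hNact _ hyh])
  set g' := h * y ^ (-m) with hg'
  have hg'i : ∀ i : H ⧸ M, g' • i = i := by
    intro i
    rw [hg', mul_smul, hm, smul_smul, ← zpow_add, add_neg_cancel, zpow_zero, one_smul]
  have hyzv : ∀ k : ℤ, y ^ k • v = v := by
    intro k
    exact (MulAction.stabilizer H v).zpow_mem (show y ∈ MulAction.stabilizer H v from hyv) k
  have hg'v : g' • v = v := by rw [hg', mul_smul, hyzv, hv]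
  have e1 : ⁅y, g'⁆ = ⁅y, h⁆ := comm_mul_self_right y h (-m)
  have hyg' : ⁅y, g'⁆ ∈ N := by rw [e1]; exact hyh
  set l := ⁅y, g'⁆ with hl
  have hxx : x⁻¹ = x := by
    rw [inv_eq_iff_mul_eq_one, ← sq, hx2]
  -- the conjugate
  set k := x * g' * x⁻¹ with hk
  have hlk : ⁅y⁻¹, k⁆ = l := by
    have h1 := conj_comm_central hNZ x hyg'
    rw [hxy, comm_mul_central_left hNZ hn₀] at h1
    exact h1
  have hyk : ⁅y, k⁆ ∈ N := by
    rw [key]
    have h1 : ⁅y⁻¹, k⁆ ∈ N := by rw [hlk]; exact hyg'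
    rw [key, QuotientGroup.mk_inv] at h1
    have := h1.inv_left
    rwa [inv_inv] at this
  have hlk' : ⁅y, k⁆ = l⁻¹ := by
    rw [← hlk, comm_inv_left hNZ hyk, inv_inv]
  -- the commutator
  have hg'M : ∀ g : H, (∀ i : H ⧸ M, g • i = i) → g ∈ M := by
    intro g hg
    have h1 := hg ((1 : H) : H ⧸ M)
    rw [MulAction.Quotient.smul_coe, smul_eq_mul, mul_one] at h1
    rw [eq_comm, QuotientGroup.eq] at h1
    simpa using h1
  have hki : ∀ i : H ⧸ M, k • i = i := by
    intro i
    rw [hk, mul_smul, mul_smul, hg'i, smul_inv_smul]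
  have hMst : ∀ m ∈ M, ∀ u ∈ W ((1 : H) : H ⧸ M), m • u ∈ W ((1 : H) : H ⧸ M) := D.res_mem
  haveI : Nontrivial (W ((1 : H) : H ⧸ M)) := by
    rw [AddSubgroup.nontrivial_iff_ne_bot]
    exact W_ne_bot D _
  have hgM := hg'M g' hg'i
  have hsc1 : ∃ c, Sc e ⁅x, g'⁆ c := Sc.comm (hMst x hxM) (hMst g' hgM)
    (hMst _ (M.inv_mem hxM)) (hMst _ (M.inv_mem hgM)) (hS x hxM) (hS g' hgM)
  have eg : ⁅x, g'⁆ = k * g'⁻¹ := by rw [hk, commutatorElement_def]
  have hcomm : ⁅y, ⁅x, g'⁆⁆ = l⁻¹ * l⁻¹ := by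
    have h2 : ⁅y, g'⁻¹⁆ = l⁻¹ := comm_inv_right hNZ hyg'
    rw [eg, comm_mul_right hNZ (by rw [h2]; exact N.inv_mem hyg'), hlk', h2]
  have h3 := hsc ⁅x, g'⁆ (by
      intro i
      rw [eg, mul_smul, hki]
      rw [inv_smul_eq_iff, hg'i]) (by
      have h5 : g'⁻¹ • v = v := by rw [inv_smul_eq_iff, hg'v]
      have h6 : x⁻¹ • v = v := by rw [inv_smul_eq_iff, hxv]
      rw [eg, mul_smul, h5, hk, mul_smul, mul_smul, h6, hg'v, hxv]) (by
      rw [hcomm]
      exact N.mul_mem (N.inv_mem hyg') (N.inv_mem hyg')) hsc1 (by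
      rw [commutatorElement_def]
      simp only [mul_inv_rev, inv_inv]
      have : x * (x * g' * x⁻¹ * g'⁻¹) * x⁻¹ = (x * x) * g' * x⁻¹ * g'⁻¹ * x⁻¹ := by group
      rw [this, ← sq, hx2, one_mul, hxx]
      simp only [mul_assoc])
  rw [hcomm] at h3
  have h4 : l = 1 := by
    apply one_of_sq C hyg'
    rw [← mul_inv_rev, inv_eq_one] at h3
    rw [sq, h3]
  rw [← e1]
  exact h4

theorem mem_M {g : H} (hg : g • ((1 : H) : H ⧸ M) = ((1 : H) : H ⧸ M)) : g ∈ M := by
  rw [MulAction.Quotient.smul_coe, smul_eq_mul, mul_one] at hg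
  rw [eq_comm, QuotientGroup.eq] at hg
  simpa using hg

/-- The case where `y ^ t` is trivial. -/
theorem stage2 (C : Core (V := V) 2 2 K N φ) (D : Imp M W) (hM : M ≠ ⊤) {F : Type*} [Field F] [Finite F]
    {e : W ((1 : H) : H ⧸ M) ≃+ F} (hS : ∀ m ∈ M, Semi e m)
    {x y n₀ : H} (hxM : x ∈ M) (hx2 : x ^ 2 = 1) (hxK : x ∉ K) (hyK : y ∈ K) (hn₀ : n₀ ∈ N)
    (hxy : x * y * x⁻¹ = n₀ * y⁻¹)
    (hy : ∀ i j : H ⧸ M, ∃ m : ℤ, y ^ m • i = j) {t : ℕ} (ht : 0 < t) (hΩ : Nat.card (H ⧸ M) = t)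
    (hyt : y ^ t ∈ N) {w : V} (hw : w ∈ W ((1 : H) : H ⧸ M)) (hw0 : w ≠ 0) (hxw : x • w = w) :
    False := by
  classical
  haveI := C.nt
  have hNv : ∀ n ∈ N, ∀ v : V, n • v = v := fun n hn v => (C.ker n).2 hn v
  have hNact : ∀ n ∈ N, ∀ i : H ⧸ M, n • i = i := by
    intro n hn i
    obtain ⟨w, hw, hw0⟩ := exists_ne D i
    exact fix_of_smul D hw hw hw0 ((C.ker n).2 hn w)
  have hytw : y ^ t • w = w := hNv _ hyt w
  have hmem : ∀ j : ℕ, y ^ j • w ∈ W (y ^ j • ((1 : H) : H ⧸ M)) := fun j => D.smul_mem _ hw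
  let v : V := ∑ j ∈ Finset.range t, y ^ j • w
  have hsh : ∑ j ∈ Finset.range t, y ^ (j + 1) • w = v := by
    have h1 := Finset.sum_range_succ (fun j => y ^ j • w) t
    rw [Finset.sum_range_succ' (fun j => y ^ j • w) t] at h1
    simp only [pow_zero, one_smul, hytw] at h1
    exact add_right_cancel h1
  have hyv : y • v = v := by
    rw [← hsh]
    conv_lhs => rw [hsh]
    change y • ∑ j ∈ Finset.range t, y ^ j • w = _
    rw [Finset.smul_sum]
    refine Finset.sum_congr rfl fun j _ => ?_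
    rw [smul_smul, pow_succ']
  have hxu : ∀ u : V, x • y • u = y⁻¹ • x • u := by
    intro u
    have h1 : x * y = n₀ * (y⁻¹ * x) := by
      have h2 : x * y = (x * y * x⁻¹) * x := by group
      rw [h2, hxy, mul_assoc]
    rw [smul_smul, h1, mul_smul, hNv n₀ hn₀, mul_smul]
  have hxj : ∀ j : ℕ, x • y ^ j • w = (y ^ j)⁻¹ • w := by
    intro j
    induction j with
    | zero => rw [pow_zero, inv_one, one_smul, hxw]
    | succ j ih =>
      rw [pow_succ', mul_smul, hxu, ih, mul_inv_rev, smul_smul, ← mul_inv_rev, ← pow_succ, ← mul_inv_rev,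
        ← pow_succ']
  have hxv : x • v = v := by
    change x • ∑ j ∈ Finset.range t, y ^ j • w = _
    rw [Finset.smul_sum]
    have h1 := Finset.sum_range_reflect (fun j => y ^ (j + 1) • w) t
    rw [← hsh, ← h1]
    refine Finset.sum_congr rfl fun j hj => ?_
    rw [Finset.mem_range] at hj
    have h2 : t - 1 - j + 1 = t - j := by omega
    rw [hxj, h2, inv_smul_eq_iff, smul_smul, ← pow_add]
    have h3 : j + (t - j) = t := by omega
    rw [h3, hytw]
  have hyti : ∀ i : H ⧸ M, y ^ t • i = i := fun i => hNact _ hyt i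
  let ι : Fin t → H ⧸ M := fun j => y ^ (j : ℕ) • ((1 : H) : H ⧸ M)
  have hιs : Function.Surjective ι := by
    intro i
    obtain ⟨m, hm⟩ := hy ((1 : H) : H ⧸ M) i
    have ht' : (0 : ℤ) < t := by exact_mod_cast ht
    have h1 := Int.emod_nonneg m ht'.ne'
    have h2 := Int.emod_lt_of_pos m ht'
    refine ⟨⟨(m % t).toNat, by omega⟩, ?_⟩
    change y ^ (m % t).toNat • _ = i
    rw [← hm]
    have h3 : y ^ m = y ^ (m % t).toNat * (y ^ t) ^ (m / t) := by
      have h4 : ((m % t).toNat : ℤ) = m % t := Int.toNat_of_nonneg h1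
      rw [← zpow_natCast y (m % t).toNat, h4, ← zpow_natCast y t, ← zpow_mul, ← zpow_add,
        Int.emod_add_mul_ediv]
    rw [h3, mul_smul]
    congr 1
    have h5 : y ^ t ∈ MulAction.stabilizer H ((1 : H) : H ⧸ M) := hyti _
    exact ((MulAction.stabilizer H ((1 : H) : H ⧸ M)).zpow_mem h5 (m / t)).symm
  have hιb : Function.Bijective ι := by
    refine hιs.bijective_of_nat_card_le ?_
    rw [hΩ, Nat.card_eq_fintype_card, Fintype.card_fin]
  have hcompw : ∀ g : H, (∀ i : H ⧸ M, g • i = i) → g • v = v → g • w = w := by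
    intro g hg hgv
    have h1 : ∑ j : Fin t, (g • y ^ (j : ℕ) • w - y ^ (j : ℕ) • w) = 0 := by
      rw [Finset.sum_sub_distrib, ← Finset.smul_sum, Fin.sum_univ_eq_sum_range (fun j => y ^ j • w) t]
      exact sub_eq_zero.2 hgv
    have h2 := sum_unique (W := fun j => W (ι j)) (D.ind.comp hιb.1)
      (f := fun j : Fin t => g • y ^ (j : ℕ) • w - y ^ (j : ℕ) • w) (by
        intro j
        refine (W (ι j)).sub_mem ?_ (hmem j)
        have := D.smul_mem g (hmem j)
        rwa [hg] at this) h1 ⟨0, ht⟩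
    simp only [pow_zero, one_smul] at h2
    exact sub_eq_zero.1 h2
  have hgood := good_of C D hS hxM hx2 hn₀ hxy hy hxv hyv (by
    rintro g hgi hgv hyg ⟨c, hc⟩ -
    have h1 := hc.eq_one hw hw0 (hcompw g hgi hgv)
    subst h1
    have hgM : g ∈ M := mem_M (hgi _)
    have h2 : g ∈ N := mem_N C D hy hyg (hc.trivial_of_one (D.res_mem g hgM))
    rw [commutatorElement_eq_one_iff_mul_comm]
    exact Subgroup.mem_center_iff.1 (C.cen h2) y)
  exact no_good C D hM hyK hxK hyv hxv hy hgood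

theorem cyc_compare {F : Type*} [Field F] {t : ℕ} (ht : t.Prime) {c d : F} {a b : ℕ}
    (hc : c ^ t ^ a = 1) (hd : d ^ t ^ b = 1) :
    (∃ m : ℕ, c = d ^ m) ∨ ∃ m : ℕ, d = (c ^ t) ^ m := by
  obtain ⟨i, -, hi⟩ := (Nat.dvd_prime_pow ht).1 (orderOf_dvd_of_pow_eq_one hc)
  obtain ⟨j, -, hj⟩ := (Nat.dvd_prime_pow ht).1 (orderOf_dvd_of_pow_eq_one hd)
  by_cases hij : i ≤ j
  · left
    have h1 : IsPrimitiveRoot d (t ^ j) := by rw [← hj]; exact IsPrimitiveRoot.orderOf d
    haveI : NeZero (t ^ j) := ⟨(pow_pos ht.pos j).ne'⟩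
    have h2 : c ^ t ^ j = 1 := by
      rw [← orderOf_dvd_iff_pow_eq_one, hi]
      exact pow_dvd_pow t hij
    obtain ⟨m, -, hm⟩ := h1.eq_pow_of_pow_eq_one h2
    exact ⟨m, hm.symm⟩
  · right
    push Not at hij
    have h0 : IsPrimitiveRoot c (t ^ i) := by rw [← hi]; exact IsPrimitiveRoot.orderOf c
    have h1 : IsPrimitiveRoot (c ^ t) (t ^ (i - 1)) := by
      refine h0.pow (pow_pos ht.pos i) ?_
      rw [← pow_succ']
      congr 1
      omega
    haveI : NeZero (t ^ (i - 1)) := ⟨(pow_pos ht.pos _).ne'⟩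
    have h2 : d ^ t ^ (i - 1) = 1 := by
      rw [← orderOf_dvd_iff_pow_eq_one, hj]
      exact pow_dvd_pow t (by omega)
    obtain ⟨m, -, hm⟩ := h1.eq_pow_of_pow_eq_one h2
    exact ⟨m, hm.symm⟩

end Cfsg.Agent.H676.GW
end

-- part: H676/GW/ImpTwoMain
section
/-!
# Gluck-Wolf for `p = 2`: the module is primitive (conclusion)
-/

set_option autoImplicit false
set_option linter.style.haveILetI false
set_option linter.unusedSectionVars false

namespace Cfsg.Agent.H676.GW

open Cfsg.Agent.H586.GW Cfsg.Agent.H511.Wt Cfsg.Agent.H615.GW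
open scoped Pointwise commutatorElement

universe u

variable {H V : Type u} [Group H] [Finite H] [AddCommGroup V] [Finite V]
  [DistribMulAction H V] {K N : Subgroup H} {φ : N →* ℂˣ} {M : Subgroup H}
  {W : H ⧸ M → AddSubgroup V}

/-- one of `x`, `x'` outside a subgroup of index two differ by an element of it -/
theorem inv_mul_mem_of_index_two (hK : K.index = 2) {x x' : H} (hx : x ∉ K) (hx' : x' ∉ K) :
    x⁻¹ * x' ∈ K := by
  have := Subgroup.mul_mem_iff_of_index_two hK (a := x⁻¹) (b := x')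
  rw [this]
  constructor
  · intro h
    exact absurd (K.inv_mem_iff.1 h) hx
  · intro h
    exact absurd h hx'

theorem not_imp_two (h3513 : PowSet) (hup : Huppert.{u}) (hsol : Group.IsSolvable H)
    (C : Core (V := V) 2 2 K N φ) (hM : IsCoatom M) (D : Imp M W) : False := by
  classical
  haveI := C.nt
  haveI := C.nK
  haveI : Fact (Nat.Prime 2) := ⟨Nat.prime_two⟩
  letI : Fintype (H ⧸ M) := Fintype.ofFinite _
  have hMt : M ≠ ⊤ := hM.1
  have hNv : ∀ n ∈ N, ∀ v : V, n • v = v := fun n hn v => (C.ker n).2 hn v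
  have hker : ∀ h : H, h ∈ (MulAction.toPermHom H (H ⧸ M)).ker ↔ ∀ i : H ⧸ M, h • i = i := by
    intro h
    rw [MonoidHom.mem_ker]
    constructor
    · intro h1 i
      exact congrArg (fun e : Equiv.Perm (H ⧸ M) => e i) h1
    · intro h1
      ext i
      exact h1 i
  have hNact : ∀ n ∈ N, ∀ i : H ⧸ M, n • i = i := by
    intro n hn i
    obtain ⟨w, hw, hw0⟩ := exists_ne D i
    exact fix_of_smul D hw hw hw0 ((C.ker n).2 hn w)
  obtain ⟨t, ht, ⟨k, hkK, hkt, hk1⟩, hcase, hcyc⟩ := perm_cases h3513 (prim hM) (two_le hMt)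
    Nat.prime_two K C.idx C.cop (fun h hh => ker_le C D hMt hh) (exists_set Nat.prime_two C D)
  have hcyc := hcyc rfl
  have hΩ : Nat.card (H ⧸ M) = t := by omega
  have ht3 : t = 3 ∨ t = 5 := by omega
  obtain ⟨s, hs⟩ : ∃ s : ℤ, (t : ℤ) = 2 * s + 1 := by
    rcases ht3 with rfl | rfl
    · exact ⟨1, by norm_num⟩
    · exact ⟨2, by norm_num⟩
  have ht2 : t ≠ 2 := by omega
  rw [hker] at hkt hk1
  have hktr := trans_of_prime ht hΩ hkt hk1
  -- the involution
  obtain ⟨w, hw, hw0⟩ := exists_ne D ((1 : H) : H ⧸ M)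
  obtain ⟨x, hxK, hx2, hxw⟩ := exists_fix Nat.prime_two C w
  have hxM : x ∈ M := mem_M (fix_of_smul D hw hw hw0 hxw)
  have hxx : x⁻¹ = x := by
    rw [inv_eq_iff_mul_eq_one, ← sq, hx2]
  -- the inverted element
  set u := ⁅x, k⁆ with hu
  have hxk : x * k * x⁻¹ ∈ K := C.nK.conj_mem k hkK x
  have huK : u ∈ K := by
    rw [hu, commutatorElement_def]
    exact K.mul_mem hxk (K.inv_mem hkK)
  have hxu : x * u * x⁻¹ = u⁻¹ := by
    rw [hu, commutatorElement_inv, commutatorElement_def, commutatorElement_def]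
    have : x * (x * k * x⁻¹ * k⁻¹) * x⁻¹ = (x * x) * k * x⁻¹ * k⁻¹ * x⁻¹ := by group
    rw [this, ← sq, hx2, one_mul, hxx]
  have hu1 : ¬ ∀ i : H ⧸ M, u • i = i := by
    intro h
    obtain ⟨m, hm⟩ := pow_of_comm hktr ((1 : H) : H ⧸ M) (g := x) (by
      intro i
      have h1 : x * k = u * (k * x) := by rw [hu, commutatorElement_def]; group
      rw [smul_smul, h1, mul_smul, h, mul_smul])
    apply hxK
    have h2 : x * (k ^ m)⁻¹ ∈ K := by
      apply ker_le C D hMt
      intro i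
      rw [mul_smul, hm, smul_inv_smul]
    have h3 := K.mul_mem h2 (K.zpow_mem hkK m)
    rwa [inv_mul_cancel_right] at h3
  have hallt : ∀ g ∈ K, ∀ i : H ⧸ M, g ^ t • i = i := by
    intro g hg i
    obtain ⟨j, hj⟩ := hcyc k hkK (by rw [hker]; exact hk1) g hg
    have h1 : MulAction.toPermHom H (H ⧸ M) g = MulAction.toPermHom H (H ⧸ M) (k ^ j) := by
      ext i
      exact hj i
    have h2 : MulAction.toPermHom H (H ⧸ M) (g ^ t) = 1 := by
      have h3 : MulAction.toPermHom H (H ⧸ M) (k ^ t) = 1 := by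
        ext i
        exact hkt i
      rw [map_pow, h1, ← map_pow, ← zpow_natCast, ← zpow_mul, mul_comm, zpow_mul, zpow_natCast, map_zpow, h3,
        one_zpow]
    exact congrArg (fun e : Equiv.Perm (H ⧸ M) => e i) h2
  -- the `t`-part
  obtain ⟨a, m, hm, ho⟩ := Nat.exists_eq_pow_mul_and_not_dvd (isOfFinOrder_of_finite u).orderOf_pos.ne' t ht.ne_one
  set y := u ^ m with hy
  have hyK : y ∈ K := K.pow_mem huK m
  have hyta : y ^ t ^ a = 1 := by
    rw [hy, ← pow_mul, mul_comm, ← ho, pow_orderOf_eq_one]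
  have hxy : x * y * x⁻¹ = y⁻¹ := by
    rw [hy, ← conj_pow, hxu, inv_pow]
  have hcop : Nat.Coprime m t := (Nat.coprime_comm.1 ((Nat.Prime.coprime_iff_not_dvd ht).2 hm))
  have hy1 : ¬ ∀ i : H ⧸ M, y • i = i := by
    intro h
    apply hu1
    intro i
    have h1 : u ^ m ∈ MulAction.stabilizer H i := h i
    have h2 : u ^ t ∈ MulAction.stabilizer H i := hallt u huK i
    have h3 : u ∈ MulAction.stabilizer H i := by
      have h4 : u = (u ^ m) ^ (Nat.gcdA m t) * (u ^ t) ^ (Nat.gcdB m t) := by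
        rw [← zpow_natCast u m, ← zpow_natCast u t, ← zpow_mul, ← zpow_mul, ← zpow_add,
          ← Nat.gcd_eq_gcd_ab, hcop.gcd_eq_one, Nat.cast_one, zpow_one]
      rw [h4]
      exact (MulAction.stabilizer H i).mul_mem ((MulAction.stabilizer H i).zpow_mem h1 _)
        ((MulAction.stabilizer H i).zpow_mem h2 _)
    exact h3
  have hyt := hallt y hyK
  have hytr := trans_of_prime ht hΩ hyt hy1
  have hcycy := hcyc y hyK (by rw [hker]; exact hy1)
  -- transitivity on the block
  have htr : ∀ b ∈ W ((1 : H) : H ⧸ M), ∀ c ∈ W ((1 : H) : H ⧸ M), b ≠ 0 → c ≠ 0 → ∃ g ∈ M, g • b = c := by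
    intro b hb c hc hb0 hc0
    have hne : y • ((1 : H) : H ⧸ M) ≠ ((1 : H) : H ⧸ M) := by
      intro h
      apply hy1
      intro i
      obtain ⟨n, hn⟩ := hytr ((1 : H) : H ⧸ M) i
      have h1 : y ∈ MulAction.stabilizer H ((1 : H) : H ⧸ M) := h
      have h2 : y ^ n • ((1 : H) : H ⧸ M) = ((1 : H) : H ⧸ M) :=
        (MulAction.stabilizer H ((1 : H) : H ⧸ M)).zpow_mem h1 n
      rw [← hn, h2, h]
    have hyc := D.smul_mem y hc
    let f : H ⧸ M → V := Pi.single ((1 : H) : H ⧸ M) b + Pi.single (y • ((1 : H) : H ⧸ M)) (y • c)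
    have hf1 : f ((1 : H) : H ⧸ M) = b := by
      simp only [f, Pi.add_apply, Pi.single_eq_same, Pi.single_eq_of_ne hne.symm, add_zero]
    have hf2 : f (y • ((1 : H) : H ⧸ M)) = y • c := by
      simp only [f, Pi.add_apply, Pi.single_eq_same, Pi.single_eq_of_ne hne, zero_add]
    have hf3 : ∀ i, i ≠ ((1 : H) : H ⧸ M) → i ≠ y • ((1 : H) : H ⧸ M) → f i = 0 := by
      intro i h1 h2
      simp only [f, Pi.add_apply, Pi.single_eq_of_ne h1, Pi.single_eq_of_ne h2, add_zero]
    have hf : ∀ i, f i ∈ W i := by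
      intro i
      by_cases h1 : i = ((1 : H) : H ⧸ M)
      · subst h1; rw [hf1]; exact hb
      by_cases h2 : i = y • ((1 : H) : H ⧸ M)
      · subst h2; rw [hf2]; exact hyc
      · rw [hf3 i h1 h2]; exact (W i).zero_mem
    obtain ⟨z, hzK, hz2, hzv⟩ := exists_fix Nat.prime_two C (∑ i, f i)
    have hz := comp_smul D hf hzv
    have hyc0 : y • c ≠ 0 := by
      rw [Ne, smul_eq_zero_iff_eq]
      exact hc0
    have hz1 : z • ((1 : H) : H ⧸ M) = ((1 : H) : H ⧸ M) ∨ z • ((1 : H) : H ⧸ M) = y • ((1 : H) : H ⧸ M) := by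
      by_contra h
      push Not at h
      have h1 := hz ((1 : H) : H ⧸ M)
      rw [hf1, hf3 _ h.1 h.2, smul_eq_zero_iff_eq] at h1
      exact hb0 h1
    have hz2' : z • y • ((1 : H) : H ⧸ M) = ((1 : H) : H ⧸ M) ∨
        z • y • ((1 : H) : H ⧸ M) = y • ((1 : H) : H ⧸ M) := by
      by_contra h
      push Not at h
      have h1 := hz (y • ((1 : H) : H ⧸ M))
      rw [hf2, hf3 _ h.1 h.2, smul_eq_zero_iff_eq] at h1
      exact hyc0 h1
    rcases hz1 with h1 | h1
    · exfalso
      have h2 : z • y • ((1 : H) : H ⧸ M) = y • ((1 : H) : H ⧸ M) := by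
        rcases hz2' with h3 | h3
        · exfalso
          rw [← h1] at h3
          have h4 := MulAction.injective z h3
          rw [h1] at h4
          exact hne h4
        · exact h3
      refine hne (fix_unique (x := z) hytr ?_ hs (fun i => ?_) h2 h1)
      · intro i
        obtain ⟨j, hj⟩ := hcycy (x⁻¹ * z) (inv_mul_mem_of_index_two C.idx hxK hzK)
        have h5 : ∀ i : H ⧸ M, z • i = x • y ^ j • i := by
          intro i
          rw [← hj, smul_smul, mul_inv_cancel_left]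
        rw [h5, h5, smul_smul, smul_smul, smul_smul, smul_smul]
        congr 1
        have h6 : x * y = y⁻¹ * x := by rw [← hxy]; group
        calc _ = x * y * y ^ j := by group
          _ = y⁻¹ * x * y ^ j := by rw [h6]
          _ = _ := by group
      · rw [zpow_natCast]; exact hyt i
    · have h2 := hz ((1 : H) : H ⧸ M)
      rw [h1, hf1, hf2] at h2
      refine ⟨y⁻¹ * z, ?_, ?_⟩
      · apply mem_M
        rw [mul_smul, h1, inv_smul_smul]
      · rw [mul_smul, h2, inv_smul_smul]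
  -- semilinearity
  haveI hWnt : Nontrivial (W ((1 : H) : H ⧸ M)) := by
    rw [AddSubgroup.nontrivial_iff_ne_bot]
    exact W_ne_bot D _
  have hev : 2 ∣ Nat.card (W ((1 : H) : H ⧸ M)) := by
    have h1 : addOrderOf (⟨w, hw⟩ : W ((1 : H) : H ⧸ M)) = 2 := by
      apply addOrderOf_eq_prime
      · exact Subtype.ext (C.exp w)
      · intro h
        exact hw0 (congrArg Subtype.val h)
    rw [← h1]
    exact addOrderOf_dvd_natCard _
  have hsolM : Group.IsSolvable M := inferInstance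
  obtain ⟨F, hF, hFf, e, hS⟩ := semi_of_trans hup (q := 2) C.exp M hsolM (W ((1 : H) : H ⧸ M)) D.res_mem htr (by
    intro h
    simp only [Set.mem_insert_iff, Set.mem_singleton_iff] at h
    omega)
  -- the two cases
  have hyM : ∀ g : H, (∀ i : H ⧸ M, g • i = i) → g ∈ M := fun g hg => mem_M (hg _)
  have hst := D.res_mem
  by_cases hgood : ∀ g : H, (∀ i : H ⧸ M, g • i = i) → g • (0 : V) = 0 → ⁅y, g⁆ ∈ N →
      (∃ c, Sc e g c) → x * g * x⁻¹ = g⁻¹ → ⁅y, g⁆ = 1
  · exact no_good C D hMt hyK hxK (smul_zero y) (smul_zero x) hytr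
      (good_of C D hS hxM hx2 N.one_mem (by rw [one_mul]; exact hxy) hytr (smul_zero x) (smul_zero y) hgood)
  · push Not at hgood
    obtain ⟨g, hgi, -, hyg, ⟨c, hc⟩, hxg, hyg1⟩ := hgood
    have hNZ := C.cen
    have hgM := hyM g hgi
    -- the `t`-part of `g`
    obtain ⟨b, m', hm', ho'⟩ := Nat.exists_eq_pow_mul_and_not_dvd
      (isOfFinOrder_of_finite g).orderOf_pos.ne' t ht.ne_one
    have hcop' : Nat.Coprime m' t := (Nat.coprime_comm.1 ((Nat.Prime.coprime_iff_not_dvd ht).2 hm'))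
    set h := g ^ m' with hh
    have hhi : ∀ i : H ⧸ M, h • i = i := by
      intro i
      exact (MulAction.stabilizer H i).pow_mem (show g ∈ MulAction.stabilizer H i from hgi i) m'
    have hhM := hyM h hhi
    have hhb : h ^ t ^ b = 1 := by
      rw [hh, ← pow_mul, mul_comm, ← ho', pow_orderOf_eq_one]
    have hxh : x * h * x⁻¹ = h⁻¹ := by
      rw [hh, ← conj_pow, hxg, inv_pow]
    have hyh : ⁅y, h⁆ = ⁅y, g⁆ ^ m' := comm_pow_right hNZ hyg m'
    have hyhN : ⁅y, h⁆ ∈ N := by rw [hyh]; exact N.pow_mem hyg m'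
    have hyh1 : ⁅y, h⁆ ≠ 1 := by
      intro h1
      rw [hyh] at h1
      apply hyg1
      have h2 : ⁅y, g⁆ ^ t ^ a = 1 := by
        rw [← comm_pow_left hNZ hyg, hyta, commutatorElement_one_left]
      have h3 : Nat.Coprime m' (t ^ a) := Nat.Coprime.pow_right a hcop'
      have h4 := pow_gcd_eq_one.2 ⟨h1, h2⟩
      rwa [h3.gcd_eq_one, pow_one] at h4
    have hsch : Sc e h (c ^ m') := hc.pow (hst g hgM) m'
    have hcb : (c ^ m') ^ t ^ b = 1 := by
      have h1 : Sc e (h ^ t ^ b) ((c ^ m') ^ t ^ b) := hsch.pow (hst h hhM) _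
      rw [hhb] at h1
      exact Sc.unique (by intro u hu; rw [one_smul]; exact hu) h1 Sc.one
    -- `y ^ t` is a scalar
    have hyti : ∀ i : H ⧸ M, y ^ t • i = i := hyt
    have hytM := hyM _ hyti
    obtain ⟨d₁, hd₁⟩ : ∃ c, Sc e ⁅x, y ^ t⁆ c := Sc.comm (hst x hxM) (hst _ hytM)
      (hst _ (M.inv_mem hxM)) (hst _ (M.inv_mem hytM)) (hS x hxM) (hS _ hytM)
    have e1 : ⁅x, y ^ t⁆ = ((y ^ t) ^ 2)⁻¹ := by
      rw [commutatorElement_def, ← conj_pow, hxy, inv_pow]
      group
    have hodd : ∃ n : ℕ, t ^ a = 2 * n + 1 := by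
      have : Odd (t ^ a) := Odd.pow (ht.odd_of_ne_two ht2)
      obtain ⟨n, hn⟩ := this
      exact ⟨n, hn⟩
    obtain ⟨n, hn⟩ := hodd
    have e2 : (⁅x, y ^ t⁆) ^ n = y ^ t := by
      rw [e1, inv_pow, inv_eq_iff_mul_eq_one, ← pow_mul, ← pow_succ, ← hn, ← pow_mul, mul_comm, pow_mul,
        hyta, one_pow]
    obtain ⟨d, hd⟩ : ∃ d, Sc e (y ^ t) d := by
      refine ⟨d₁ ^ n, ?_⟩
      have h1 := hd₁.pow (hst _ (by
        rw [e1]
        exact M.inv_mem (M.pow_mem hytM 2))) n
      rwa [e2] at h1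
    have hdb : d ^ t ^ a = 1 := by
      have h1 : Sc e ((y ^ t) ^ t ^ a) (d ^ t ^ a) := hd.pow (hst _ hytM) _
      rw [← pow_mul, mul_comm, pow_mul, hyta, one_pow] at h1
      exact Sc.unique (by intro u hu; rw [one_smul]; exact hu) h1 Sc.one
    have hcomm_yt : ⁅y, y ^ t⁆ = 1 := by
      rw [commutatorElement_eq_one_iff_mul_comm, ← pow_succ, ← pow_succ']
    rcases cyc_compare ht hcb hdb with ⟨n₁, hn₁⟩ | ⟨n₁, hn₁⟩
    · -- `h` is a power of `y ^ t`
      apply hyh1
      set q := (y ^ t) ^ n₁ with hq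
      have hqi : ∀ i : H ⧸ M, q • i = i := by
        intro i
        exact (MulAction.stabilizer H i).pow_mem (show y ^ t ∈ MulAction.stabilizer H i from hyti i) n₁
      have hqM := hyM q hqi
      have hyq : ⁅y, q⁆ = 1 := by
        rw [commutatorElement_eq_one_iff_commute]
        exact ((Commute.refl y).pow_right t).pow_right n₁
      have hscq : Sc e q (d ^ n₁) := hd.pow (hst _ hytM) n₁
      have h1 : Sc e (h * q⁻¹) (c ^ m' * (d ^ n₁)⁻¹) := hsch.mul (hst _ (M.inv_mem hqM))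
        (hscq.inv (hst q hqM) (hst _ (M.inv_mem hqM)))
      have hd0 : d ^ n₁ ≠ 0 := by
        rw [← hn₁]
        intro h0
        rw [h0, zero_pow (pow_pos ht.pos b).ne'] at hcb
        exact zero_ne_one hcb
      rw [hn₁, mul_inv_cancel₀ hd0] at h1
      have hyhq : ⁅y, h * q⁻¹⁆ = ⁅y, h⁆ := by
        have h2 : ⁅y, q⁻¹⁆ = 1 := by
          rw [commutatorElement_eq_one_iff_commute] at hyq ⊢
          exact hyq.inv_right
        rw [comm_mul_right hNZ (by rw [h2]; exact N.one_mem), h2, mul_one]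
      have h2 : h * q⁻¹ ∈ N := mem_N C D hytr (by rw [hyhq]; exact hyhN)
        (h1.trivial_of_one (hst _ (M.mul_mem hhM (M.inv_mem hqM))))
      rw [← hyhq, commutatorElement_eq_one_iff_mul_comm]
      exact Subgroup.mem_center_iff.1 (hNZ h2) y
    · -- replace `y`
      set q := h ^ n₁ with hq
      have hqi : ∀ i : H ⧸ M, q • i = i := by
        intro i
        exact (MulAction.stabilizer H i).pow_mem (show h ∈ MulAction.stabilizer H i from hhi i) n₁
      have hqM := hyM q hqi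
      have hqK : q ∈ K := ker_le C D hMt hqi
      have hxq : x * q * x⁻¹ = q⁻¹ := by
        rw [hq, ← conj_pow, hxh, inv_pow]
      have hyq : ⁅y, q⁆ ∈ N := by rw [hq, comm_pow_right hNZ hyhN]; exact N.pow_mem hyhN n₁
      have hyq' : ⁅y⁻¹, q⁆ ∈ N := by rw [comm_inv_left hNZ hyq]; exact N.inv_mem hyq
      have hscq : Sc e q ((c ^ m') ^ n₁) := hsch.pow (hst _ hhM) n₁
      have hqiM := M.inv_mem hqM
      -- the new element
      have hact : ∀ i : H ⧸ M, (y * q⁻¹) • i = y • i := by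
        intro i
        rw [mul_smul]
        congr 1
        rw [inv_smul_eq_iff, hqi]
      have htoperm : MulAction.toPermHom H (H ⧸ M) (y * q⁻¹) = MulAction.toPermHom H (H ⧸ M) y := by
        ext i
        exact hact i
      have hzp : ∀ (n : ℤ) (i : H ⧸ M), (y * q⁻¹) ^ n • i = y ^ n • i := by
        intro n i
        have h1 : MulAction.toPermHom H (H ⧸ M) ((y * q⁻¹) ^ n) = MulAction.toPermHom H (H ⧸ M) (y ^ n) := by
          rw [map_zpow, map_zpow, htoperm]
        exact congrArg (fun e : Equiv.Perm (H ⧸ M) => e i) h1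
      have hytr' : ∀ i j : H ⧸ M, ∃ m : ℤ, (y * q⁻¹) ^ m • i = j := by
        intro i j
        obtain ⟨n, hn⟩ := hytr i j
        exact ⟨n, by rw [hzp, hn]⟩
      have hxy' : x * (y * q⁻¹) * x⁻¹ = ⁅y⁻¹, q⁆ * (y * q⁻¹)⁻¹ := by
        have h1 : x * (y * q⁻¹) * x⁻¹ = (x * y * x⁻¹) * (x * q * x⁻¹)⁻¹ := by group
        rw [h1, hxy, hxq, commutatorElement_def]
        group
      -- its `t`-th power
      have hpw : ∀ n : ℕ, ∃ n' ∈ N, (y * q⁻¹) ^ n = n' * (y ^ n * (q ^ n)⁻¹) := by
        intro n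
        haveI := nN C
        have h1 : Commute (y : H ⧸ N) (q : H ⧸ N) := by
          rw [← QuotientGroup.eq_one_iff] at hyq
          rw [← commutatorElement_eq_one_iff_commute]
          exact hyq
        have h2 : ((y : H ⧸ N) * (q : H ⧸ N)⁻¹) ^ n = (y : H ⧸ N) ^ n * ((q : H ⧸ N) ^ n)⁻¹ := by
          rw [(h1.inv_right).mul_pow, inv_pow]
        refine ⟨(y * q⁻¹) ^ n * (y ^ n * (q ^ n)⁻¹)⁻¹, ?_, (inv_mul_cancel_right _ _).symm⟩
        rw [← QuotientGroup.eq_one_iff]
        change QuotientGroup.mk' N _ = 1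
        rw [map_mul, map_inv, mul_inv_eq_one, map_pow, map_mul, map_inv, map_mul, map_inv, map_pow, map_pow]
        exact h2
      have hyt' : (y * q⁻¹) ^ t ∈ N := by
        apply mem_N C D hytr' (i₀ := ((1 : H) : H ⧸ M))
        · have h1 : ⁅y * q⁻¹, (y * q⁻¹) ^ t⁆ = 1 := by
            rw [commutatorElement_eq_one_iff_commute]
            exact (Commute.refl _).pow_right t
          rw [h1]
          exact N.one_mem
        · obtain ⟨n', hn', h1⟩ := hpw t
          have hqtM : q ^ t ∈ M := M.pow_mem hqM t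
          have h2 : Sc e (y ^ t * (q ^ t)⁻¹) (d * (((c ^ m') ^ n₁) ^ t)⁻¹) :=
            hd.mul (hst _ (M.inv_mem hqtM)) ((hscq.pow (hst _ hqM) t).inv (hst _ hqtM) (hst _ (M.inv_mem hqtM)))
          have h3 : d * (((c ^ m') ^ n₁) ^ t)⁻¹ = 1 := by
            have h4 : ((c ^ m') ^ n₁) ^ t = d := by
              rw [hn₁]
              ring
            rw [h4, mul_inv_cancel₀]
            intro h0
            rw [h0, zero_pow (pow_pos ht.pos a).ne'] at hdb
            exact zero_ne_one hdb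
          rw [h3] at h2
          have h5 := h2.trivial_of_one (hst _ (M.mul_mem hytM (M.inv_mem hqtM)))
          intro v hv
          rw [h1, mul_smul, h5 v hv, hNv n' hn']
      exact stage2 C D hMt hS hxM hx2 hxK (K.mul_mem hyK (K.inv_mem hqK)) hyq' hxy' hytr' ht.pos hΩ hyt'
        hw hw0 hxw

/-- **`p = 2`: the module is primitive.** -/
theorem not_impP_two (h3513 : PowSet) (hup : Huppert.{u}) (hsol : Group.IsSolvable H)
    (C : Core (V := V) 2 2 K N φ) : ¬ ImpP H V := by
  rintro ⟨M, W, hM, h1, h2, h3⟩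
  exact not_imp_two h3513 hup hsol C hM ⟨h1, h2, h3⟩

end Cfsg.Agent.H676.GW
end

-- part: H662/GW/TwoFin
section
/-!
# Gluck-Wolf: no core for `p = r = 2` (TEAM GW)
-/

set_option autoImplicit false

namespace Cfsg.Agent.H662.GW

open Cfsg.Agent.H586.GW

universe u

/-- a core for `p = 2` is solvable -/
theorem core_two_solvable {H V : Type u} [Group H] [Finite H] [AddCommGroup V] [Finite V] [DistribMulAction H V]
    {K N : Subgroup H} {φ : N →* ℂˣ} {r : ℕ} (C : Core (V := V) 2 r K N φ) : Group.IsSolvable H := by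
  have hKn := C.nK
  have hodd : Odd (Nat.card K) := by
    rw [← Nat.not_even_iff_odd, even_iff_two_dvd]
    exact C.cop
  have hK : Group.IsSolvable K := S0205.result hodd
  have hQ : Group.IsSolvable (H ⧸ K) := by
    have h2 : Nat.card (H ⧸ K) = 2 := C.idx
    have : Fact (Nat.Prime 2) := ⟨Nat.prime_two⟩
    have : IsCyclic (H ⧸ K) := isCyclic_of_prime_card h2
    exact Group.isSolvable_of_comm (fun a b => by
      obtain ⟨g, hg⟩ := IsCyclic.exists_generator (α := H ⧸ K)
      obtain ⟨i, rfl⟩ := Subgroup.mem_zpowers_iff.1 (hg a)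
      obtain ⟨j, rfl⟩ := Subgroup.mem_zpowers_iff.1 (hg b)
      rw [← zpow_add, ← zpow_add, add_comm])
  exact (Group.isSolvable_iff_subgroup_quotient K).2 ⟨hK, hQ⟩

theorem noCore_two : NoCore.{u} 2 2 :=
  noCore_two_of simpleFacts s3513Stmt fun _ _ _ C =>
    H676.GW.not_impP_two (fun n H hprim p hp hdiv => S3513.result n H hprim p hp hdiv)
      (fun q _ _ _ _ _ _ _ _ _ hsol ρ hρ htr => S3360.result q hsol ρ hρ htr) (core_two_solvable C) C

end Cfsg.Agent.H662.GW
end
end
end
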